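import Mathlib
import Groth.Agent.Lib.Helper7.TensorPInsep

set_option autoImplicit false
set_option linter.style.haveILetI false
set_option linter.unusedVariables false
set_option linter.unusedSectionVars false
set_option backward.isDefEq.respectTransparency.types false

universe u

/-! helper7: Artinian rings without nontrivial idempotents are local of dimension zero; purely inseparable residue fields and idempotents of base changes to field extensions -/

open TensorProduct

namespace Groth.Agent.Helper7.GeomConn

section Dichotomy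

variable {R : Type u} [CommRing R]

/-- in an Artinian ring without nontrivial idempotents every element is nilpotent or a unit -/
theorem isNilpotent_or_isUnit_of_artinian [IsArtinianRing R]
    (hidem : ∀ e : R, IsIdempotentElem e → e = 0 ∨ e = 1) (a : R) :
    IsNilpotent a ∨ IsUnit a := by
  let F : ℕ →o (Ideal R)ᵒᵈ :=
    ⟨fun n => OrderDual.toDual (Ideal.span {a ^ n}), by
      intro n m hnm
      show Ideal.span {a ^ m} ≤ Ideal.span {a ^ n}
      rw [Ideal.span_singleton_le_span_singleton]
      exact pow_dvd_pow a hnm⟩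
  obtain ⟨n₀, hn₀⟩ := IsArtinian.monotone_stabilizes F
  let n := n₀ + 1
  have h1 : Ideal.span {a ^ n} = Ideal.span {a ^ (2 * n)} := by
    have e1 := hn₀ n (Nat.le_succ n₀)
    have e2 := hn₀ (2 * n) (by omega)
    have e1' : Ideal.span {a ^ n₀} = Ideal.span {a ^ n} := congrArg OrderDual.ofDual e1
    have e2' : Ideal.span {a ^ n₀} = Ideal.span {a ^ (2 * n)} := congrArg OrderDual.ofDual e2
    rw [← e1', e2']
  have h2 : a ^ n ∈ Ideal.span {a ^ (2 * n)} := by
    rw [← h1]; exact Ideal.mem_span_singleton_self _
  obtain ⟨c, hc⟩ := Ideal.mem_span_singleton'.mp h2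
  -- hc : c * a ^ (2 * n) = a ^ n
  have hpow : a ^ (2 * n) = a ^ n * a ^ n := by rw [two_mul, pow_add]
  let e := c * a ^ n
  have he : IsIdempotentElem e := by
    show c * a ^ n * (c * a ^ n) = c * a ^ n
    calc c * a ^ n * (c * a ^ n) = c * (c * (a ^ n * a ^ n)) := by ring
      _ = c * (c * a ^ (2 * n)) := by rw [hpow]
      _ = c * a ^ n := by rw [hc]
  rcases hidem e he with h0 | h1'
  · left
    refine ⟨n, ?_⟩
    calc a ^ n = c * a ^ (2 * n) := hc.symm
      _ = (c * a ^ n) * a ^ n := by rw [hpow]; ring
      _ = 0 := by rw [show c * a ^ n = 0 from h0, zero_mul]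
  · right
    have hu : IsUnit (a ^ n) := IsUnit.of_mul_eq_one c (by rw [mul_comm]; exact h1')
    exact (isUnit_pow_iff (Nat.succ_ne_zero n₀)).mp hu

/-- an Artinian nontrivial ring without nontrivial idempotents is local of dimension zero -/
theorem isLocalRing_of_artinian_of_idem [IsArtinianRing R] [Nontrivial R]
    (hidem : ∀ e : R, IsIdempotentElem e → e = 0 ∨ e = 1) :
    IsLocalRing R ∧ ringKrullDim R = 0 := by
  have h3 : ∀ x : R, IsNilpotent x ↔ ¬ IsUnit x := by
    intro x
    constructor
    · intro hn hu
      exact hn.not_isUnit hu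
    · intro hu
      exact (isNilpotent_or_isUnit_of_artinian hidem x).resolve_right hu
  have h1 := ((Ring.krullDimLE_zero_and_isLocalRing_tfae R).out 2 0).mp h3
  exact ⟨h1.2, (ringKrullDimZero_iff_ringKrullDim_eq_zero).mp h1.1⟩

theorem idem_trivial_of_isLocalRing [IsLocalRing R] (e : R) (he : IsIdempotentElem e) :
    e = 0 ∨ e = 1 := by
  rcases IsLocalRing.isUnit_or_isUnit_one_sub_self e with hu | hu
  · right
    obtain ⟨u, rfl⟩ := hu
    have : (u : R) * u = u * 1 := by rw [mul_one]; exact he
    exact (IsUnit.mul_right_inj u.isUnit).mp this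
  · left
    obtain ⟨u, hu⟩ := hu
    have h : (u : R) * e = u * 0 := by
      rw [hu, mul_zero, sub_mul, one_mul, he.eq, sub_self]
    exact (IsUnit.mul_right_inj u.isUnit).mp h

end Dichotomy

section PInsep

open IsLocalRing

variable (k : Type u) [Field k] (R : Type u) [CommRing R] [Algebra k R] [Module.Finite k R]
  [IsLocalRing R]

/-- if `K ⊗ R` has only trivial idempotents for an algebraically closed `K`, the residue field
of `R` is purely inseparable over `k` -/
theorem isPurelyInseparable_residueField_of_idem (K : Type u) [Field K] [Algebra k K]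
    [IsAlgClosed K] (hidem : ∀ e : K ⊗[k] R, IsIdempotentElem e → e = 0 ∨ e = 1) :
    IsPurelyInseparable k (ResidueField R) := by
  haveI : Module.Finite K (K ⊗[k] R) := inferInstance
  haveI : IsArtinianRing (K ⊗[k] R) := IsArtinianRing.of_finite K _
  let resA : R →ₐ[k] ResidueField R := IsScalarTower.toAlgHom k R (ResidueField R)
  have hres : ∀ r, resA r = residue R r := fun r => rfl
  haveI : Module.Finite k (ResidueField R) :=
    Module.Finite.of_surjective resA.toLinearMap (fun z => by
      obtain ⟨r, rfl⟩ := residue_surjective z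
      exact ⟨r, rfl⟩)
  haveI : Algebra.IsAlgebraic k (ResidueField R) := Algebra.IsAlgebraic.of_finite _ _
  apply isPurelyInseparable_of_finSepDegree_eq_one
  rw [Field.finSepDegree_eq_of_isAlgClosed k (ResidueField R) K]
  haveI : Subsingleton (ResidueField R →ₐ[k] K) := by
    constructor
    intro σ τ
    let σ' : K ⊗[k] R →ₐ[K] K :=
      Algebra.TensorProduct.lift (AlgHom.id K K) (σ.comp resA) (fun _ _ => Commute.all _ _)
    let τ' : K ⊗[k] R →ₐ[K] K :=
      Algebra.TensorProduct.lift (AlgHom.id K K) (τ.comp resA) (fun _ _ => Commute.all _ _)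
    have key : ∀ x, τ' x = σ' x := by
      intro x
      let y := x - algebraMap K (K ⊗[k] R) (σ' x)
      have hy : σ' y = 0 := by
        show σ' (x - algebraMap K (K ⊗[k] R) (σ' x)) = 0
        rw [map_sub, AlgHom.commutes]
        exact sub_self _
      have hnu : ¬ IsUnit y := fun hu => by
        have := hu.map σ'
        rw [hy] at this
        exact not_isUnit_zero this
      have hnil : IsNilpotent y := (isNilpotent_or_isUnit_of_artinian hidem y).resolve_right hnu
      have h0 : τ' y = 0 := (hnil.map τ').eq_zero
      have h1 : τ' y = τ' x - σ' x := by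
        show τ' (x - algebraMap K (K ⊗[k] R) (σ' x)) = _
        rw [map_sub, AlgHom.commutes]
        rfl
      rw [h1, sub_eq_zero] at h0
      exact h0
    apply AlgHom.ext
    intro z
    obtain ⟨r, rfl⟩ := residue_surjective z
    have h := key ((1 : K) ⊗ₜ[k] r)
    have e1 : σ' ((1 : K) ⊗ₜ[k] r) = σ (residue R r) := by
      show Algebra.TensorProduct.lift (AlgHom.id K K) (σ.comp resA) _ ((1 : K) ⊗ₜ[k] r) = _
      rw [Algebra.TensorProduct.lift_tmul]
      simp [hres]
    have e2 : τ' ((1 : K) ⊗ₜ[k] r) = τ (residue R r) := by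
      show Algebra.TensorProduct.lift (AlgHom.id K K) (τ.comp resA) _ ((1 : K) ⊗ₜ[k] r) = _
      rw [Algebra.TensorProduct.lift_tmul]
      simp [hres]
    rw [e1, e2] at h
    exact h.symm
  haveI : Nonempty (ResidueField R →ₐ[k] K) := ⟨IsAlgClosed.lift⟩
  exact Nat.card_unique

theorem exists_pow_sub_isNilpotent (hR : ∀ x : R, IsNilpotent x ∨ IsUnit x)
    [IsPurelyInseparable k (ResidueField R)] (a : R) :
    ∃ (n : ℕ) (c : k), IsNilpotent (a ^ (ringExpChar k ^ n) - algebraMap k R c) := by
  obtain ⟨n, c, hc⟩ := IsPurelyInseparable.pow_mem k (ringExpChar k) (residue R a)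
  refine ⟨n, c, ?_⟩
  have h0 : residue R (a ^ (ringExpChar k ^ n) - algebraMap k R c) = 0 := by
    rw [map_sub, map_pow, ← hc]
    exact sub_self _
  have hmem : a ^ (ringExpChar k ^ n) - algebraMap k R c ∈ maximalIdeal R :=
    (residue_eq_zero_iff _).mp h0
  exact (hR _).resolve_right (fun hu => (mem_maximalIdeal _).mp hmem hu)

/-- converse: a finite local `k`-algebra whose elements have `q`-power in `k` up to nilpotents
stays local after every field extension -/
theorem isLocalRing_tensor_of_pow
    (hpow : ∀ a : R, ∃ (n : ℕ) (c : k), IsNilpotent (a ^ (ringExpChar k ^ n) - algebraMap k R c))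
    (K : Type u) [Field K] [Algebra k K] : IsLocalRing (K ⊗[k] R) := by
  haveI : IsLocalHom (algebraMap k R) := by
    constructor
    intro a ha
    have hne : a ≠ 0 := by
      rintro rfl
      rw [map_zero] at ha
      exact not_isUnit_zero ha
    exact isUnit_iff_ne_zero.mpr hne
  haveI : IsLocalHom (algebraMap k K) := by
    constructor
    intro a ha
    have hne : a ≠ 0 := by
      rintro rfl
      rw [map_zero] at ha
      exact not_isUnit_zero ha
    exact isUnit_iff_ne_zero.mpr hne
  haveI : Algebra.IsIntegral k R := Algebra.IsIntegral.of_finite k R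
  haveI hexp : ExpChar (ResidueField k) (ringExpChar k) :=
    expChar_of_injective_algebraMap (algebraMap k (ResidueField k)).injective (ringExpChar k)
  haveI : IsPurelyInseparable (ResidueField k) (ResidueField R) := by
    rw [isPurelyInseparable_iff_pow_mem (ResidueField k) (ringExpChar k)]
    intro x
    obtain ⟨a, rfl⟩ := residue_surjective x
    obtain ⟨n, c, hc⟩ := hpow a
    refine ⟨n, residue k c, ?_⟩
    rw [ResidueField.algebraMap_residue]
    have hmem : a ^ (ringExpChar k ^ n) - algebraMap k R c ∈ maximalIdeal R := by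
      rw [mem_maximalIdeal]
      exact fun hu => hc.not_isUnit hu
    have h0 := (residue_eq_zero_iff _).mpr hmem
    rw [map_sub, map_pow, sub_eq_zero] at h0
    exact h0.symm
  haveI hloc : IsLocalRing (R ⊗[k] K) := TensorPInsep.isLocalRing_tensor k R K
  exact RingEquiv.isLocalRing (Algebra.TensorProduct.comm k R K).toRingEquiv

end PInsep

end Groth.Agent.Helper7.GeomConn
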