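import Mathlib

set_option autoImplicit false
set_option linter.style.haveILetI false
set_option linter.unusedVariables false
set_option linter.unusedSectionVars false
set_option backward.isDefEq.respectTransparency.types false

universe u

/-! helper7: gluing sections over affine opens, clopen subsets and idempotent global sections -/

open CategoryTheory AlgebraicGeometry TopologicalSpace Opposite

namespace Groth.Agent.Helper7.GeomConn

/-- two sections over an open agree if they agree on all affine opens inside -/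
theorem eq_of_forall_affine_le (X : Scheme.{u}) (U : X.Opens) (a b : Γ(X, U))
    (h : ∀ (W : X.affineOpens) (hW : W.1 ≤ U),
      X.presheaf.map (homOfLE hW).op a = X.presheaf.map (homOfLE hW).op b) : a = b := by
  obtain ⟨Us, hUs, hU⟩ := (Opens.isBasis_iff_cover.mp X.isBasis_affineOpens) U
  have hle : ∀ i : Us, i.1 ≤ U := fun i => by rw [hU]; exact le_sSup i.2
  refine X.sheaf.eq_of_locally_eq' (fun i : Us => i.1) U (fun i => homOfLE (hle i)) ?_ a b ?_
  · rw [hU, sSup_eq_iSup']
  · intro i
    exact h ⟨i.1, hUs i.2⟩ (hle i)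

theorem eq_of_forall_affine (X : Scheme.{u}) (a b : Γ(X, ⊤))
    (h : ∀ W : X.affineOpens,
      X.presheaf.map (homOfLE (le_top : W.1 ≤ ⊤)).op a =
        X.presheaf.map (homOfLE (le_top : W.1 ≤ ⊤)).op b) : a = b :=
  eq_of_forall_affine_le X ⊤ a b fun W _ => h W

/-- gluing a family of sections over all affine opens compatible with restriction -/
theorem exists_section_of_affine_family (X : Scheme.{u})
    (s : ∀ W : X.affineOpens, Γ(X, W.1))
    (hs : ∀ (V W : X.affineOpens) (h : V.1 ≤ W.1),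
      X.presheaf.map (homOfLE h).op (s W) = s V) :
    ∃ a : Γ(X, ⊤), ∀ W : X.affineOpens,
      X.presheaf.map (homOfLE (le_top : W.1 ≤ ⊤)).op a = s W := by
  have hcompat : TopCat.Presheaf.IsCompatible X.presheaf (fun W : X.affineOpens => W.1) s := by
    intro W W'
    apply eq_of_forall_affine_le X (W.1 ⊓ W'.1)
    intro V hV
    have h1 : V.1 ≤ W.1 := hV.trans inf_le_left
    have h2 : V.1 ≤ W'.1 := hV.trans inf_le_right
    rw [← ConcreteCategory.comp_apply, ← ConcreteCategory.comp_apply, ← Functor.map_comp,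
      ← Functor.map_comp]
    exact (hs V W h1).trans (hs V W' h2).symm
  obtain ⟨a, ha, -⟩ := X.sheaf.existsUnique_gluing' (U := fun W : X.affineOpens => W.1) ⊤
    (fun W => homOfLE le_top) (by rw [iSup_affineOpens_eq_top]) s hcompat
  exact ⟨a, ha⟩

/-- sections of `Y` agree if they agree on the preimages of all affine opens of `X` -/
theorem eq_of_forall_preimage_affine {X Y : Scheme.{u}} (q : Y ⟶ X) (a b : Γ(Y, ⊤))
    (h : ∀ W : X.affineOpens,
      Y.presheaf.map (homOfLE (le_top : q ⁻¹ᵁ W.1 ≤ ⊤)).op a =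
        Y.presheaf.map (homOfLE (le_top : q ⁻¹ᵁ W.1 ≤ ⊤)).op b) : a = b := by
  refine Y.sheaf.eq_of_locally_eq' (fun W : X.affineOpens => q ⁻¹ᵁ W.1) ⊤
    (fun W => homOfLE le_top) ?_ a b h
  intro y _
  obtain ⟨W, hW⟩ : ∃ W : X.affineOpens, q y ∈ W.1 := by
    have : q y ∈ (⊤ : X.Opens) := trivial
    rw [← iSup_affineOpens_eq_top X] at this
    obtain ⟨W, hW⟩ := Opens.mem_iSup.mp this
    exact ⟨W, hW⟩
  exact Opens.mem_iSup.mpr ⟨W, hW⟩

/-- a clopen subset of a scheme is the non-vanishing locus of an idempotent global section -/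
theorem exists_idempotent_of_isClopen (Y : Scheme.{u}) (U : Set Y) (hU : IsClopen U) :
    ∃ e : Γ(Y, ⊤), IsIdempotentElem e ∧ (Y.basicOpen e : Set Y) = U := by
  let U₁ : Y.Opens := ⟨U, hU.isOpen⟩
  let U₂ : Y.Opens := ⟨Uᶜ, hU.isClosed.isOpen_compl⟩
  let 𝒰 : Bool → Y.Opens := fun b => if b then U₁ else U₂
  have hbot : U₁ ⊓ U₂ = ⊥ := by
    ext y
    simp [U₁, U₂]
  let sf : ∀ b : Bool, Γ(Y, 𝒰 b) := fun b => if b then 1 else 0
  have hsub : ∀ b b' : Bool, b ≠ b' → Subsingleton Γ(Y, 𝒰 b ⊓ 𝒰 b') := by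
    intro b b' hne
    have : 𝒰 b ⊓ 𝒰 b' = ⊥ := by
      cases b <;> cases b' <;> simp_all [𝒰, inf_comm]
    rw [this]
    infer_instance
  have hcompat : TopCat.Presheaf.IsCompatible Y.presheaf 𝒰 sf := by
    intro b b'
    by_cases hbb : b = b'
    · subst hbb
      cases b
      · show Y.presheaf.map _ (0 : Γ(Y, U₂)) = Y.presheaf.map _ (0 : Γ(Y, U₂))
        rw [map_zero, map_zero]
      · show Y.presheaf.map _ (1 : Γ(Y, U₁)) = Y.presheaf.map _ (1 : Γ(Y, U₁))
        rw [map_one, map_one]
    · haveI := hsub b b' hbb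
      exact Subsingleton.elim _ _
  have hcover : (⊤ : Y.Opens) ≤ iSup 𝒰 := by
    intro y _
    by_cases hy : y ∈ U
    · exact Opens.mem_iSup.mpr ⟨true, hy⟩
    · exact Opens.mem_iSup.mpr ⟨false, hy⟩
  obtain ⟨e, he⟩ : ∃ e : Γ(Y, ⊤), ∀ b : Bool,
      Y.presheaf.map (homOfLE (le_top : 𝒰 b ≤ ⊤)).op e = sf b := by
    obtain ⟨e, he, -⟩ := Y.sheaf.existsUnique_gluing' (U := 𝒰) ⊤ (fun b => homOfLE le_top)
      hcover sf hcompat
    exact ⟨e, he⟩
  have he1 : Y.presheaf.map (homOfLE (le_top : U₁ ≤ ⊤)).op e = 1 := he true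
  have he2 : Y.presheaf.map (homOfLE (le_top : U₂ ≤ ⊤)).op e = 0 := he false
  refine ⟨e, ?_, ?_⟩
  · refine Y.sheaf.eq_of_locally_eq' 𝒰 ⊤ (fun b => homOfLE le_top) hcover _ _ ?_
    intro b
    cases b
    · show Y.presheaf.map (homOfLE (le_top : U₂ ≤ ⊤)).op (e * e) =
        Y.presheaf.map (homOfLE (le_top : U₂ ≤ ⊤)).op e
      rw [map_mul, he2, mul_zero]
    · show Y.presheaf.map (homOfLE (le_top : U₁ ≤ ⊤)).op (e * e) =
        Y.presheaf.map (homOfLE (le_top : U₁ ≤ ⊤)).op e
      rw [map_mul, he1, mul_one]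
  · have h1 : U₁ ⊓ Y.basicOpen e = U₁ := by
      rw [← Y.basicOpen_res e (homOfLE (le_top : U₁ ≤ ⊤)).op, he1, Scheme.basicOpen_one]
    have h2 : U₂ ⊓ Y.basicOpen e = ⊥ := by
      rw [← Y.basicOpen_res e (homOfLE (le_top : U₂ ≤ ⊤)).op, he2, Scheme.basicOpen_zero]
    ext y
    constructor
    · intro hy
      by_contra hyU
      have : y ∈ U₂ ⊓ Y.basicOpen e := ⟨hyU, hy⟩
      rw [h2] at this
      exact this
    · intro hy
      have : y ∈ U₁ ⊓ Y.basicOpen e := by rw [h1]; exact hy
      exact this.2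

/-- on a connected scheme all idempotent global sections are trivial -/
theorem idempotent_trivial_of_connected (X : Scheme.{u}) [ConnectedSpace X] (e : Γ(X, ⊤))
    (he : IsIdempotentElem e) : e = 0 ∨ e = 1 := by
  have hmul : e * (1 - e) = 0 := by
    rw [mul_sub, mul_one, he.eq, sub_self]
  have hdisj : X.basicOpen e ⊓ X.basicOpen (1 - e) = ⊥ := by
    rw [← Scheme.basicOpen_mul, hmul, Scheme.basicOpen_zero]
  have hcov : ∀ x : X, x ∈ X.basicOpen e ∨ x ∈ X.basicOpen (1 - e) := by
    intro x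
    rw [Scheme.mem_basicOpen_top, Scheme.mem_basicOpen_top]
    have h1 : X.presheaf.germ ⊤ x trivial e + X.presheaf.germ ⊤ x trivial (1 - e) = 1 := by
      rw [← map_add, add_sub_cancel, map_one]
    exact IsLocalRing.isUnit_or_isUnit_of_add_one h1
  have hclopen : IsClopen (X.basicOpen e : Set X) := by
    refine ⟨?_, (X.basicOpen e).isOpen⟩
    have : (X.basicOpen e : Set X) = (X.basicOpen (1 - e) : Set X)ᶜ := by
      ext x
      constructor
      · intro hx hx'
        have : x ∈ X.basicOpen e ⊓ X.basicOpen (1 - e) := ⟨hx, hx'⟩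
        rw [hdisj] at this
        exact this
      · intro hx
        exact (hcov x).resolve_right hx
    rw [this]
    exact (X.basicOpen (1 - e)).isOpen.isClosed_compl
  have key : ∀ g : Γ(X, ⊤), (X.basicOpen g : Set X) = Set.univ → IsUnit g := by
    intro g hg
    apply RingedSpace.isUnit_of_isUnit_germ
    intro x hx
    have : x ∈ X.basicOpen g := by
      show x ∈ (X.basicOpen g : Set X)
      rw [hg]; trivial
    exact (X.mem_basicOpen_top g x).mp this
  rcases isClopen_iff.mp hclopen with h | h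
  · left
    have h2 : (X.basicOpen (1 - e) : Set X) = Set.univ := by
      ext x
      simp only [Set.mem_univ, iff_true]
      refine (hcov x).resolve_left ?_
      intro hx
      have : x ∈ (X.basicOpen e : Set X) := hx
      rw [h] at this
      exact this
    have hu := key _ h2
    exact (hu.mul_left_eq_zero).mp hmul
  · right
    have hu := key _ h
    have h3 : (1 - e) * e = 0 := by rw [mul_comm]; exact hmul
    have := (hu.mul_left_eq_zero).mp h3
    exact (sub_eq_zero.mp this).symm

/-- a nonempty scheme with only trivial idempotent global sections is connected -/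
theorem connectedSpace_of_idempotent_trivial (Y : Scheme.{u}) [Nonempty Y]
    (h : ∀ e : Γ(Y, ⊤), IsIdempotentElem e → e = 0 ∨ e = 1) : ConnectedSpace Y := by
  rw [connectedSpace_iff_clopen]
  refine ⟨inferInstance, ?_⟩
  intro U hU
  obtain ⟨e, he, heU⟩ := exists_idempotent_of_isClopen Y U hU
  rcases h e he with rfl | rfl
  · left
    rw [← heU, Scheme.basicOpen_zero]
    rfl
  · right
    rw [← heU, Scheme.basicOpen_one]
    rfl

end Groth.Agent.Helper7.GeomConn
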