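import Mathlib
import Groth.Agent.S0002
import Groth.Agent.Lib.Lead.FLF7
import Groth.Agent.Lib.Helper1.HH0
import Groth.Agent.Lib.Helper7.AffDesc
import Groth.Agent.Lib.Helper7.GeomConn.SchemeGlue

set_option autoImplicit false
set_option linter.style.haveILetI false
set_option linter.unusedVariables false
set_option linter.unusedSectionVars false
set_option backward.isDefEq.respectTransparency.types false

universe u

/-! helper7: global functions of a proper geometrically reduced and geometrically connected scheme over a field are the constants (via S0002, flat base change of global sections, and the structure of finite reduced algebras over an algebraically closed field) -/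

open CategoryTheory AlgebraicGeometry TopologicalSpace Opposite Limits TensorProduct

namespace Groth.Agent.Helper7.GeomConn

/-- a finite reduced algebra without nontrivial idempotents over an algebraically closed field
is one-dimensional -/
theorem finrank_eq_one_of_reduced_connected {A B : Type u} [Field A] [IsAlgClosed A] [CommRing B]
    [Algebra A B] [Module.Finite A B] [IsReduced B] [Nontrivial B]
    (hidem : ∀ e : B, IsIdempotentElem e → e = 0 ∨ e = 1) : Module.finrank A B = 1 := by
  classical
  haveI : IsArtinianRing B := IsArtinianRing.of_finite A B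
  let φ := IsArtinianRing.equivPi B
  have hsub : Subsingleton (MaximalSpectrum B) := by
    constructor
    intro m₁ m₂
    by_contra hne
    let e : B := φ.symm (Pi.single m₁ 1)
    have he : IsIdempotentElem e := by
      show e * e = e
      show φ.symm (Pi.single m₁ 1) * φ.symm (Pi.single m₁ 1) = φ.symm (Pi.single m₁ 1)
      rw [← map_mul, ← Pi.single_mul, one_mul]
    haveI := m₁.isMaximal
    haveI := m₂.isMaximal
    rcases hidem e he with h0 | h1
    · have h : φ e = 0 := by rw [h0, map_zero]
      have h' : (Pi.single m₁ (1 : B ⧸ m₁.asIdeal) : ∀ I : MaximalSpectrum B, B ⧸ I.asIdeal) = 0 := by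
        rw [← h]; exact (φ.apply_symm_apply _).symm
      have := congrFun h' m₁
      rw [Pi.single_eq_same] at this
      exact one_ne_zero this
    · have h : φ e = 1 := by rw [h1, map_one]
      have h' : (Pi.single m₁ (1 : B ⧸ m₁.asIdeal) : ∀ I : MaximalSpectrum B, B ⧸ I.asIdeal) = 1 := by
        rw [← h]; exact (φ.apply_symm_apply _).symm
      have := congrFun h' m₂
      rw [Pi.single_eq_of_ne (Ne.symm hne)] at this
      exact zero_ne_one this
  obtain ⟨m₀, hm₀⟩ := Ideal.exists_maximal B
  let m : MaximalSpectrum B := ⟨m₀, hm₀⟩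
  have hm : m₀ = ⊥ := by
    rw [eq_bot_iff]
    intro x hx
    have h : φ x = 0 := by
      funext I
      rw [Subsingleton.elim I m]
      show Ideal.Quotient.mk m₀ x = 0
      exact Ideal.Quotient.eq_zero_iff_mem.mpr hx
    have : x = 0 := by
      have := congrArg φ.symm h
      rwa [φ.symm_apply_apply, map_zero] at this
    rw [this]; exact Submodule.zero_mem _
  letI : Field (B ⧸ m₀) := Ideal.Quotient.field m₀
  rw [finrank_eq_one_iff_of_nonzero' (1 : B) one_ne_zero]
  intro x
  haveI : Algebra.IsIntegral A (B ⧸ m₀) := Algebra.IsIntegral.of_finite A (B ⧸ m₀)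
  obtain ⟨a, ha⟩ := (IsAlgClosed.algebraMap_bijective_of_isIntegral (k := A) (K := B ⧸ m₀)).2
    (Ideal.Quotient.mk m₀ x)
  refine ⟨a, ?_⟩
  have h1 : Ideal.Quotient.mk m₀ (algebraMap A B a - x) = 0 := by
    rw [map_sub, ← ha]
    exact sub_self _
  rw [Ideal.Quotient.eq_zero_iff_mem, hm, Ideal.mem_bot, sub_eq_zero] at h1
  rw [Algebra.smul_def, mul_one, h1]

section Geom

variable (k : Type u) [Field k] (X : Scheme.{u}) (f : X ⟶ Spec (CommRingCat.of k))

/-- the structure map `k → Γ(X, ⊤)` -/
noncomputable def toΓ : k →+* Γ(X, ⊤) :=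
  (f.appTop).hom.comp (Scheme.ΓSpecIso (CommRingCat.of k)).inv.hom

/-- global functions of a proper, geometrically reduced and geometrically connected scheme over
a field are the constants (given that they are finite over the field) -/
theorem toΓ_surjective_of_geometrically [QuasiCompact f] [QuasiSeparated f]
    [GeometricallyReduced f] [GeometricallyConnected f]
    (hfin : letI := (toΓ k X f).toAlgebra; Module.Finite k Γ(X, ⊤)) :
    Function.Surjective (toΓ k X f) := by
  let K := AlgebraicClosure k
  let i : Spec (CommRingCat.of K) ⟶ Spec (CommRingCat.of k) :=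
    Spec.map (CommRingCat.ofHom (algebraMap k K))
  let p := pullback.fst f i
  let q := pullback.snd f i
  haveI hred : IsReduced (pullback f i) :=
    GeometricallyReduced.geometrically_isReduced (f := f) (K := K) i p q
      (IsPullback.of_hasPullback f i)
  haveI hconn : ConnectedSpace ↥(pullback f i) :=
    GeometricallyConnected.geometrically_connectedSpace (f := f) (K := K) i p q
      (IsPullback.of_hasPullback f i)
  haveI : Flat i := inferInstance
  have P1 : IsPushout f.appTop i.appTop p.appTop q.appTop :=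
    AffDesc.isPushout_appTop_of_flat f i
  let α := (Scheme.ΓSpecIso (CommRingCat.of k)).inv
  let β := (Scheme.ΓSpecIso (CommRingCat.of K)).inv
  have P2 : IsPushout (α ≫ f.appTop) (CommRingCat.ofHom (algebraMap k K)) p.appTop
      (β ≫ q.appTop) := by
    refine P1.of_iso (Scheme.ΓSpecIso (CommRingCat.of k)) (Iso.refl _)
      (Scheme.ΓSpecIso (CommRingCat.of K)) (Iso.refl _) ?_ ?_ ?_ ?_
    · simp [α]
    · exact Scheme.ΓSpecIso_naturality (CommRingCat.ofHom (algebraMap k K))
    · simp
    · simp [β]
  letI a1 : Algebra k Γ(X, ⊤) := (toΓ k X f).toAlgebra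
  letI a2 : Algebra K Γ(pullback f i, ⊤) := (β ≫ q.appTop).hom.toAlgebra
  letI a3 : Algebra Γ(X, ⊤) Γ(pullback f i, ⊤) := p.appTop.hom.toAlgebra
  letI a4 : Algebra k Γ(pullback f i, ⊤) := (p.appTop.hom.comp (toΓ k X f)).toAlgebra
  haveI t1 : IsScalarTower k Γ(X, ⊤) Γ(pullback f i, ⊤) := IsScalarTower.of_algebraMap_eq' rfl
  haveI t2 : IsScalarTower k K Γ(pullback f i, ⊤) := by
    apply IsScalarTower.of_algebraMap_eq'
    have := congrArg CommRingCat.Hom.hom P2.w
    exact this
  have hP : Algebra.IsPushout k Γ(X, ⊤) K Γ(pullback f i, ⊤) :=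
    CommRingCat.isPushout_iff_isPushout.mp P2
  haveI hP' : Algebra.IsPushout k K Γ(X, ⊤) Γ(pullback f i, ⊤) := hP.symm
  let e : K ⊗[k] Γ(X, ⊤) ≃ₐ[K] Γ(pullback f i, ⊤) := Algebra.IsPushout.equiv k K _ _
  haveI hfin' : Module.Finite k Γ(X, ⊤) := hfin
  haveI : Module.Finite K Γ(pullback f i, ⊤) := Module.Finite.equiv e.toLinearEquiv
  haveI : Nonempty ↥(⊤ : (pullback f i).Opens) := by
    obtain ⟨x⟩ : Nonempty ↥(pullback f i) := inferInstance
    exact ⟨⟨x, trivial⟩⟩
  haveI : Nontrivial Γ(pullback f i, ⊤) := inferInstance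
  have h1 : Module.finrank K Γ(pullback f i, ⊤) = 1 :=
    finrank_eq_one_of_reduced_connected
      (fun e he => idempotent_trivial_of_connected (pullback f i) e he)
  have h2 : Module.finrank k Γ(X, ⊤) = 1 := by
    rw [← Module.finrank_baseChange (R := K) (S := k) (M' := Γ(X, ⊤)), e.toLinearEquiv.finrank_eq]
    exact h1
  haveI : Nontrivial Γ(X, ⊤) := by
    have : 0 < Module.finrank k Γ(X, ⊤) := by rw [h2]; exact one_pos
    exact (Module.finrank_pos_iff (R := k)).mp this
  rw [finrank_eq_one_iff_of_nonzero' (1 : Γ(X, ⊤)) one_ne_zero] at h2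
  intro w
  obtain ⟨c, hc⟩ := h2 w
  refine ⟨c, ?_⟩
  rw [← hc, Algebra.smul_def, mul_one]
  rfl

end Geom

section HH

theorem isCoh_structureModule' (X : Scheme.{u}) : Coh.IsCoh (Coh.structureModule X) := by
  refine ⟨inferInstance, ?_⟩
  apply Groth.Agent.Lead.FLF.isFT_of_ft_sections
  intro U hU
  exact inferInstanceAs (Module.Finite Γ(X, U) Γ(X, U))

theorem finrank_HH_zero_eq_one (k : Type u) [Field k] (X : Scheme.{u})
    [X.Over (Spec (CommRingCat.of k))] [IsProper (X ↘ (Spec (CommRingCat.of k)))]
    [GeometricallyReduced (X ↘ (Spec (CommRingCat.of k)))]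
    [GeometricallyConnected (X ↘ (Spec (CommRingCat.of k)))] :
    Module.finrank k (Coh.HH X (Coh.structureModule X) 0) = 1 := by
  let f := X ↘ Spec (CommRingCat.of k)
  letI a1 : Algebra k Γ(X, ⊤) := (toΓ k X f).toAlgebra
  let E := Groth.Agent.Helper1.HH0.equiv X (Coh.structureModule X)
  let toG : ↑((Coh.structureModule X).val.obj (op ⊤)) → Γ(X, ⊤) := fun m => m
  let ofG : Γ(X, ⊤) → ↑((Coh.structureModule X).val.obj (op ⊤)) := fun m => m
  let L : Coh.HH X (Coh.structureModule X) 0 ≃ₗ[k] Γ(X, ⊤) :=
    { toFun := fun x => toG (E x)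
      invFun := fun s => E.symm (ofG s)
      map_add' := fun x y => by
        show toG (E (x + y)) = toG (E x) + toG (E y)
        rw [map_add]; rfl
      map_smul' := fun a x => by
        show toG (E (a • x)) = toΓ k X f a * toG (E x)
        rw [Groth.Agent.Helper1.HH0.equiv_smul_over]
        rfl
      left_inv := fun x => E.left_inv x
      right_inv := fun s => E.right_inv (ofG s) }
  haveI hfinHH : Module.Finite k (Coh.HH X (Coh.structureModule X) 0) :=
    Groth.Agent.S0002.result k X (Coh.structureModule X) (isCoh_structureModule' X) 0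
  haveI hfinΓ : Module.Finite k Γ(X, ⊤) := Module.Finite.equiv L
  have hsurj := toΓ_surjective_of_geometrically k X f hfinΓ
  rw [L.finrank_eq]
  haveI : ConnectedSpace X :=
    GeometricallyConnected.connectedSpace_of_subsingleton (f := f)
  haveI : Nonempty ↥(⊤ : X.Opens) := by
    obtain ⟨x⟩ : Nonempty ↥X := inferInstance
    exact ⟨⟨x, trivial⟩⟩
  haveI : Nontrivial Γ(X, ⊤) := inferInstance
  rw [finrank_eq_one_iff_of_nonzero' (1 : Γ(X, ⊤)) one_ne_zero]
  intro w
  obtain ⟨c, hc⟩ := hsurj w
  refine ⟨c, ?_⟩
  rw [Algebra.smul_def, mul_one]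
  exact hc

end HH

end Groth.Agent.Helper7.GeomConn
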