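import Mathlib
import Groth.Agent.Lib.Helper7.GeomConn.H0One

set_option autoImplicit false
set_option linter.style.haveILetI false
set_option linter.unusedVariables false
set_option linter.unusedSectionVars false
set_option backward.isDefEq.respectTransparency.types false

universe u

/-! helper7: global sections of a proper scheme over a field: finiteness (via S0002) and flat base change to field extensions -/

open CategoryTheory AlgebraicGeometry TopologicalSpace Opposite Limits TensorProduct

namespace Groth.Agent.Helper7.GeomConn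

section

variable (k : Type u) [Field k] (X : Scheme.{u}) (f : X ⟶ Spec (CommRingCat.of k))

/-- global sections of a proper scheme over a field are finite over the field -/
theorem finite_globalSections [IsProper f] :
    letI := (toΓ k X f).toAlgebra
    Module.Finite k Γ(X, ⊤) := by
  letI : X.Over (Spec (CommRingCat.of k)) := ⟨f⟩
  letI a1 : Algebra k Γ(X, ⊤) := (toΓ k X f).toAlgebra
  let E := Groth.Agent.Helper1.HH0.equiv X (Coh.structureModule X)
  let toG : ↑((Coh.structureModule X).val.obj (op ⊤)) → Γ(X, ⊤) := fun m => m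
  let ofG : Γ(X, ⊤) → ↑((Coh.structureModule X).val.obj (op ⊤)) := fun m => m
  let L : Coh.HH X (Coh.structureModule X) 0 ≃ₗ[k] Γ(X, ⊤) :=
    { toFun := fun x => toG (E x)
      invFun := fun s => E.symm (ofG s)
      map_add' := fun x y => by
        show toG (E (x + y)) = toG (E x) + toG (E y)
        rw [map_add]; rfl
      map_smul' := fun a x => by
        show toG (E (a • x)) = toΓ k X f a * toG (E x)
        rw [Groth.Agent.Helper1.HH0.equiv_smul_over]
        rfl
      left_inv := fun x => E.left_inv x
      right_inv := fun s => E.right_inv (ofG s) }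
  haveI hprop : IsProper (X ↘ Spec (CommRingCat.of k)) := ‹IsProper f›
  haveI hfinHH : Module.Finite k (Coh.HH X (Coh.structureModule X) 0) :=
    Groth.Agent.S0002.result k X (Coh.structureModule X) (isCoh_structureModule' X) 0
  exact Module.Finite.equiv L

/-- flat base change of global sections along a field extension -/
theorem exists_algEquiv_baseChange [QuasiCompact f] [QuasiSeparated f]
    (K : Type u) [Field K] [Algebra k K] :
    letI := (toΓ k X f).toAlgebra
    Nonempty (K ⊗[k] Γ(X, ⊤) ≃+*
      Γ(pullback f (Spec.map (CommRingCat.ofHom (algebraMap k K))), ⊤)) := by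
  let i : Spec (CommRingCat.of K) ⟶ Spec (CommRingCat.of k) :=
    Spec.map (CommRingCat.ofHom (algebraMap k K))
  let p := pullback.fst f i
  let q := pullback.snd f i
  haveI : Flat i := inferInstance
  have P1 : IsPushout f.appTop i.appTop p.appTop q.appTop :=
    AffDesc.isPushout_appTop_of_flat f i
  let α := (Scheme.ΓSpecIso (CommRingCat.of k)).inv
  let β := (Scheme.ΓSpecIso (CommRingCat.of K)).inv
  have P2 : IsPushout (α ≫ f.appTop) (CommRingCat.ofHom (algebraMap k K)) p.appTop
      (β ≫ q.appTop) := by
    refine P1.of_iso (Scheme.ΓSpecIso (CommRingCat.of k)) (Iso.refl _)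
      (Scheme.ΓSpecIso (CommRingCat.of K)) (Iso.refl _) ?_ ?_ ?_ ?_
    · simp [α]
    · exact Scheme.ΓSpecIso_naturality (CommRingCat.ofHom (algebraMap k K))
    · simp
    · simp [β]
  letI a1 : Algebra k Γ(X, ⊤) := (toΓ k X f).toAlgebra
  letI a2 : Algebra K Γ(pullback f i, ⊤) := (β ≫ q.appTop).hom.toAlgebra
  letI a3 : Algebra Γ(X, ⊤) Γ(pullback f i, ⊤) := p.appTop.hom.toAlgebra
  letI a4 : Algebra k Γ(pullback f i, ⊤) := (p.appTop.hom.comp (toΓ k X f)).toAlgebra
  haveI t1 : IsScalarTower k Γ(X, ⊤) Γ(pullback f i, ⊤) := IsScalarTower.of_algebraMap_eq' rfl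
  haveI t2 : IsScalarTower k K Γ(pullback f i, ⊤) := by
    apply IsScalarTower.of_algebraMap_eq'
    have := congrArg CommRingCat.Hom.hom P2.w
    exact this
  have hP : Algebra.IsPushout k Γ(X, ⊤) K Γ(pullback f i, ⊤) :=
    CommRingCat.isPushout_iff_isPushout.mp P2
  haveI hP' : Algebra.IsPushout k K Γ(X, ⊤) Γ(pullback f i, ⊤) := hP.symm
  let e : K ⊗[k] Γ(X, ⊤) ≃ₐ[K] Γ(pullback f i, ⊤) := Algebra.IsPushout.equiv k K _ _
  exact ⟨e.toRingEquiv⟩

end

end Groth.Agent.Helper7.GeomConn
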