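import Mathlib
import Groth.Agent.Lib.Helper7.GeomConn.GlobSec
import Groth.Agent.Lib.Helper7.GeomConn.ArtinIdem

set_option autoImplicit false
set_option linter.style.haveILetI false
set_option linter.unusedVariables false
set_option linter.unusedSectionVars false
set_option backward.isDefEq.respectTransparency.types false

universe u

/-! helper7: a proper scheme over a field is geometrically connected iff its ring of global sections is local of dimension zero with purely inseparable residue field -/

open CategoryTheory AlgebraicGeometry TopologicalSpace Opposite Limits TensorProduct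

namespace Groth.Agent.Helper7.GeomConn

theorem geometricallyConnected_iff_globalSections (k : Type u) [Field k] {X : Scheme.{u}}
    (f : X ⟶ Spec (CommRingCat.of k)) [IsProper f] :
    GeometricallyConnected f ↔
      (IsLocalRing Γ(X, ⊤) ∧ ringKrullDim Γ(X, ⊤) = 0 ∧
        ∀ a : Γ(X, ⊤), ∃ (n : ℕ) (c : k),
          IsNilpotent (a ^ (ringExpChar k ^ n) -
            f.appTop.hom ((Scheme.ΓSpecIso (CommRingCat.of k)).inv.hom c))) := by
  letI a1 : Algebra k Γ(X, ⊤) := (toΓ k X f).toAlgebra
  haveI hfin : Module.Finite k Γ(X, ⊤) := finite_globalSections k X f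
  haveI : IsArtinianRing Γ(X, ⊤) := IsArtinianRing.of_finite k _
  constructor
  · intro hgc
    haveI : ConnectedSpace X := GeometricallyConnected.connectedSpace_of_subsingleton (f := f)
    haveI : Nonempty ↥(⊤ : X.Opens) := by
      obtain ⟨x⟩ : Nonempty ↥X := inferInstance
      exact ⟨⟨x, trivial⟩⟩
    haveI : Nontrivial Γ(X, ⊤) := inferInstance
    have hidem : ∀ e : Γ(X, ⊤), IsIdempotentElem e → e = 0 ∨ e = 1 :=
      idempotent_trivial_of_connected X
    obtain ⟨hloc, hdim⟩ := isLocalRing_of_artinian_of_idem hidem
    refine ⟨hloc, hdim, ?_⟩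
    haveI := hloc
    let K := AlgebraicClosure k
    obtain ⟨e⟩ := exists_algEquiv_baseChange k X f K
    haveI hcK : ConnectedSpace ↥(pullback f (Spec.map (CommRingCat.ofHom (algebraMap k K)))) :=
      hgc.geometrically_connectedSpace (K := K) _ _ _ (IsPullback.of_hasPullback _ _)
    have hidemK : ∀ e' : K ⊗[k] Γ(X, ⊤), IsIdempotentElem e' → e' = 0 ∨ e' = 1 := by
      intro e' he'
      have he'' : IsIdempotentElem (e e') := by
        show e e' * e e' = e e'
        rw [← map_mul, he'.eq]
      rcases idempotent_trivial_of_connected _ (e e') he'' with h | h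
      · left; exact e.injective (by rw [h, map_zero])
      · right; exact e.injective (by rw [h, map_one])
    haveI := isPurelyInseparable_residueField_of_idem k Γ(X, ⊤) K hidemK
    intro a
    exact exists_pow_sub_isNilpotent k Γ(X, ⊤) (isNilpotent_or_isUnit_of_artinian hidem) a
  · rintro ⟨hloc, hdim, hpow⟩
    haveI := hloc
    refine ⟨(geometrically_iff_of_commRing_of_isClosedUnderIsomorphisms).mpr ?_⟩
    intro K _ _
    obtain ⟨e⟩ := exists_algEquiv_baseChange k X f K
    haveI hlocK : IsLocalRing (K ⊗[k] Γ(X, ⊤)) := isLocalRing_tensor_of_pow k Γ(X, ⊤) hpow K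
    haveI hlocG : IsLocalRing
        Γ(pullback f (Spec.map (CommRingCat.ofHom (algebraMap k K))), ⊤) :=
      RingEquiv.isLocalRing e
    haveI : Nonempty ↥(pullback f (Spec.map (CommRingCat.ofHom (algebraMap k K)))) := by
      by_contra hne
      rw [not_nonempty_iff] at hne
      haveI : Subsingleton Γ(pullback f (Spec.map (CommRingCat.ofHom (algebraMap k K))), ⊤) :=
        inferInstance
      exact not_subsingleton _ ‹_›
    show ConnectedSpace ↥(pullback f (Spec.map (CommRingCat.ofHom (algebraMap k K))))
    exact connectedSpace_of_idempotent_trivial _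
      (fun e' he' => idem_trivial_of_isLocalRing e' he')

end Groth.Agent.Helper7.GeomConn
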