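import Mathlib
import Groth.Agent.Lib.Helper7.GeomConn.SteinField
import Groth.Agent.Lib.Helper8.RegularLocal
import Groth.Agent.S1628
import Groth.Agent.S1535
import Groth.Agent.S2280

set_option autoImplicit false
set_option linter.style.haveILetI false
set_option linter.unusedVariables false
set_option linter.unusedSectionVars false
set_option backward.isDefEq.respectTransparency.types false

universe u

/-! helper7: smooth proper schemes over a field: h0 = 1 iff geometrically connected iff geometrically integral -/

open CategoryTheory AlgebraicGeometry TopologicalSpace Opposite Limits TensorProduct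

namespace Groth.Agent.Helper7.GeomConn

/-- `H^0(X, O_X)` is `k`-linearly isomorphic to the ring of global sections -/
theorem nonempty_HH_zero_linearEquiv (k : Type u) [Field k] (X : Scheme.{u})
    [X.Over (Spec (CommRingCat.of k))] :
    letI := (toΓ k X (X ↘ Spec (CommRingCat.of k))).toAlgebra
    Nonempty (Coh.HH X (Coh.structureModule X) 0 ≃ₗ[k] Γ(X, ⊤)) := by
  let f := X ↘ Spec (CommRingCat.of k)
  letI a1 : Algebra k Γ(X, ⊤) := (toΓ k X f).toAlgebra
  let E := Groth.Agent.Helper1.HH0.equiv X (Coh.structureModule X)
  let toG : ↑((Coh.structureModule X).val.obj (op ⊤)) → Γ(X, ⊤) := fun m => m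
  let ofG : Γ(X, ⊤) → ↑((Coh.structureModule X).val.obj (op ⊤)) := fun m => m
  exact ⟨{ toFun := fun x => toG (E x)
           invFun := fun s => E.symm (ofG s)
           map_add' := fun x y => by
             show toG (E (x + y)) = toG (E x) + toG (E y)
             rw [map_add]; rfl
           map_smul' := fun a x => by
             show toG (E (a • x)) = toΓ k X f a * toG (E x)
             rw [Groth.Agent.Helper1.HH0.equiv_smul_over]
             rfl
           left_inv := fun x => E.left_inv x
           right_inv := fun s => E.right_inv (ofG s) }⟩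

theorem smooth_proper_h0_tfae (k : Type u) [Field k]
    (X : Scheme.{u}) [X.Over (Spec (CommRingCat.of k))] [IsProper (X ↘ Spec (CommRingCat.of k))]
    [Smooth (X ↘ Spec (CommRingCat.of k))] :
    (Module.finrank k (Coh.HH X (Coh.structureModule X) 0) = 1 ↔
        GeometricallyConnected (X ↘ Spec (CommRingCat.of k))) ∧
      (GeometricallyConnected (X ↘ Spec (CommRingCat.of k)) ↔
        GeometricallyIntegral (X ↘ Spec (CommRingCat.of k))) := by
  let f := X ↘ Spec (CommRingCat.of k)
  letI a1 : Algebra k Γ(X, ⊤) := (toΓ k X f).toAlgebra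
  obtain ⟨L⟩ := nonempty_HH_zero_linearEquiv k X
  haveI hred : GeometricallyReduced f := (Groth.Agent.S1628.result k X).1
  refine ⟨⟨?_, ?_⟩, ⟨?_, ?_⟩⟩
  · intro h1
    rw [L.finrank_eq] at h1
    haveI : Module.Finite k Γ(X, ⊤) := finite_globalSections k X f
    haveI : Nontrivial Γ(X, ⊤) := by
      have : 0 < Module.finrank k Γ(X, ⊤) := by rw [h1]; exact one_pos
      exact (Module.finrank_pos_iff (R := k)).mp this
    have hsurj : Function.Surjective (toΓ k X f) := by
      rw [finrank_eq_one_iff_of_nonzero' (1 : Γ(X, ⊤)) one_ne_zero] at h1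
      intro w
      obtain ⟨c, hc⟩ := h1 w
      refine ⟨c, ?_⟩
      rw [← hc, Algebra.smul_def, mul_one]
      rfl
    have hbij : Function.Bijective (toΓ k X f) := ⟨(toΓ k X f).injective, hsurj⟩
    let e : k ≃+* Γ(X, ⊤) := RingEquiv.ofBijective (toΓ k X f) hbij
    rw [geometricallyConnected_iff_globalSections k f]
    refine ⟨RingEquiv.isLocalRing e, ?_, ?_⟩
    · rw [← ringKrullDim_eq_of_ringEquiv e]
      exact ringKrullDim_eq_zero_of_field k
    · intro a
      obtain ⟨c, hc⟩ := hsurj a
      refine ⟨0, c, ?_⟩
      rw [pow_zero, pow_one]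
      have : f.appTop.hom ((Scheme.ΓSpecIso (CommRingCat.of k)).inv.hom c) = a := hc
      rw [this, sub_self]
      exact IsNilpotent.zero
  · intro hgc
    haveI := hgc
    exact finrank_HH_zero_eq_one k X
  · intro hgc
    refine ⟨(geometrically_iff_of_commRing).mpr ?_⟩
    intro K _ _ XK fst snd hpb
    haveI hc : ConnectedSpace ↥XK :=
      hgc.geometrically_connectedSpace (K := K) _ fst snd hpb
    letI : XK.Over (Spec (CommRingCat.of K)) := ⟨snd⟩
    haveI hsm : Smooth (XK ↘ Spec (CommRingCat.of K)) :=
      MorphismProperty.of_isPullback (P := @Smooth) hpb inferInstance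
    haveI : LocallyOfFiniteType (XK ↘ Spec (CommRingCat.of K)) := inferInstance
    haveI : IsLocallyNoetherian XK :=
      LocallyOfFiniteType.isLocallyNoetherian (XK ↘ Spec (CommRingCat.of K))
    have hdom : ∀ x : XK, IsDomain (XK.presheaf.stalk x) := by
      intro x
      haveI := Groth.Agent.S1535.result K XK x
      exact Groth.Agent.Helper8.RLR.isDomain _
    exact ((Groth.Agent.S2280.result XK).2).mpr ⟨hc, hdom⟩
  · intro hgi
    haveI := hgi
    have hirr : GeometricallyIrreducible f := inferInstance
    refine ⟨(geometrically_iff_of_commRing_of_isClosedUnderIsomorphisms).mpr ?_⟩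
    intro K _ _
    haveI hc : IrreducibleSpace ↥(pullback f (Spec.map (CommRingCat.ofHom (algebraMap k K)))) :=
      hirr.geometrically_irreducibleSpace (K := K) _ _ _ (IsPullback.of_hasPullback _ _)
    show ConnectedSpace ↥(pullback f (Spec.map (CommRingCat.ofHom (algebraMap k K))))
    infer_instance

end Groth.Agent.Helper7.GeomConn
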