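import Mathlib
import Groth.Agent.Lib.Helper4.FFMain3
import Groth.Agent.Lib.Helper1.HH0

set_option linter.style.haveILetI false
set_option linter.unusedVariables false
set_option linter.unusedSectionVars false
set_option autoImplicit false
set_option backward.isDefEq.respectTransparency.types false

universe u

/-! helper7: sections of module sheaves: two-set gluing, vanishing of sections of F/I^nF away from V(I), non-vanishing of 1 in O/I^nO on V(I) (for Zariski connectedness) -/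

open CategoryTheory CategoryTheory.Limits AlgebraicGeometry TopologicalSpace Opposite
open Groth.Agent.Helper1.QcCech (res resR res_res res_self res_smul)
open Groth.Agent.Helper1.QcExt (app_res)
open Groth.Agent.Lib.Helper4.BaseChgRing1 (alphaRing alphaRing_res)
open Groth.Agent.Lib.Helper4

namespace Groth.Agent.Helper7.GeomConn.ZC

variable {X : Scheme.{u}}

section Glue

variable (M : X.Modules)

/-- the abelian sheaf underlying a module -/
noncomputable abbrev shf : TopCat.Sheaf Ab X := ⟨M.presheaf, M.isSheaf⟩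

theorem eq_of_cover {ι : Type u} (W : X.Opens) (U : ι → X.Opens) (hU : ∀ i, U i ≤ W)
    (hcov : W ≤ iSup U) (s t : Γ(M, W)) (h : ∀ i, res M (hU i) s = res M (hU i) t) : s = t :=
  (shf M).eq_of_locally_eq' U W (fun i => homOfLE (hU i)) hcov s t h

/-- the two-element cover -/
def two (W₁ W₂ : X.Opens) : ULift.{u} Bool → X.Opens := fun b =>
  match b with
  | ⟨true⟩ => W₁
  | ⟨false⟩ => W₂

theorem eq_of_two (W₁ W₂ : X.Opens) (hcov : ∀ x : X, x ∈ W₁ ∨ x ∈ W₂) (s t : Γ(M, ⊤))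
    (h₁ : res M (le_top : W₁ ≤ ⊤) s = res M (le_top : W₁ ≤ ⊤) t)
    (h₂ : res M (le_top : W₂ ≤ ⊤) s = res M (le_top : W₂ ≤ ⊤) t) : s = t := by
  refine eq_of_cover M ⊤ (two W₁ W₂) (fun _ => le_top) ?_ s t ?_
  · intro x _
    rcases hcov x with hx | hx
    · exact Opens.mem_iSup.mpr ⟨⟨true⟩, hx⟩
    · exact Opens.mem_iSup.mpr ⟨⟨false⟩, hx⟩
  · rintro ⟨b⟩
    cases b
    · exact h₂
    · exact h₁

theorem exists_glue_two (W₁ W₂ : X.Opens) (hcov : ∀ x : X, x ∈ W₁ ∨ x ∈ W₂)
    (s₁ : Γ(M, W₁)) (s₂ : Γ(M, W₂))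
    (h : res M (inf_le_left : W₁ ⊓ W₂ ≤ W₁) s₁ = res M (inf_le_right : W₁ ⊓ W₂ ≤ W₂) s₂) :
    ∃ s : Γ(M, ⊤), res M (le_top : W₁ ≤ ⊤) s = s₁ ∧ res M (le_top : W₂ ≤ ⊤) s = s₂ := by
  let sf : ∀ b : ULift.{u} Bool, Γ(M, two W₁ W₂ b) := fun b =>
    match b with
    | ⟨true⟩ => s₁
    | ⟨false⟩ => s₂
  have hcompat : TopCat.Presheaf.IsCompatible M.presheaf (two W₁ W₂) sf := by
    rintro ⟨b⟩ ⟨b'⟩
    cases b <;> cases b'
    · show res M (inf_le_left : W₂ ⊓ W₂ ≤ W₂) s₂ = res M (inf_le_right : W₂ ⊓ W₂ ≤ W₂) s₂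
      rfl
    · show res M (inf_le_left : W₂ ⊓ W₁ ≤ W₂) s₂ = res M (inf_le_right : W₂ ⊓ W₁ ≤ W₁) s₁
      have hle : W₂ ⊓ W₁ ≤ W₁ ⊓ W₂ := le_of_eq (inf_comm _ _)
      have := congrArg (res M hle) h
      rw [res_res, res_res] at this
      exact this.symm
    · exact h
    · show res M (inf_le_left : W₁ ⊓ W₁ ≤ W₁) s₁ = res M (inf_le_right : W₁ ⊓ W₁ ≤ W₁) s₁
      rfl
  have hcover : (⊤ : X.Opens) ≤ iSup (two W₁ W₂) := by
    intro x _
    rcases hcov x with hx | hx
    · exact Opens.mem_iSup.mpr ⟨⟨true⟩, hx⟩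
    · exact Opens.mem_iSup.mpr ⟨⟨false⟩, hx⟩
  obtain ⟨s, hs, -⟩ := (shf M).existsUnique_gluing' (U := two W₁ W₂) ⊤ (fun b => homOfLE le_top)
    hcover sf hcompat
  exact ⟨s, hs ⟨true⟩, hs ⟨false⟩⟩

end Glue

section Struct

/-- sections of the structure module are functions -/
noncomputable def toO (W : X.Opens) : Γ(X, W) ≃ₗ[Γ(X, W)] Γ(Coh.structureModule X, W) where
  toFun s := s
  invFun s := s
  map_add' _ _ := rfl
  map_smul' _ _ := rfl
  left_inv _ := rfl
  right_inv _ := rfl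

theorem res_toO {W W' : X.Opens} (h : W' ≤ W) (s : Γ(X, W)) :
    res (Coh.structureModule X) h (toO W s) = toO W' (resR h s) := rfl

end Struct

section Over

variable {A : Type u} [CommRing A] [X.Over (Spec (CommRingCat.of A))]

theorem basicOpen_alphaRing (W : X.Opens) (a : A) :
    X.basicOpen (alphaRing A X W a) = W ⊓ X.basicOpen (alphaRing A X ⊤ a) := by
  rw [← alphaRing_res A (le_top : W ≤ ⊤) a]
  exact Scheme.basicOpen_res X (alphaRing A X ⊤ a) (homOfLE (le_top : W ≤ ⊤)).op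

theorem isUnit_alphaRing_of_le (W : X.Opens) (a : A)
    (hW : W ≤ X.basicOpen (alphaRing A X ⊤ a)) : IsUnit (alphaRing A X W a) := by
  have h := X.toRingedSpace.isUnit_res_basicOpen (alphaRing A X ⊤ a)
  have h2 := h.map (X.presheaf.map (homOfLE hW).op).hom
  have e : alphaRing A X W a = (X.presheaf.map (homOfLE hW).op).hom
      ((X.presheaf.map (homOfLE (X.basicOpen_le (alphaRing A X ⊤ a))).op).hom
        (alphaRing A X ⊤ a)) := by
    rw [← alphaRing_res A (le_top : W ≤ ⊤) a]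
    change _ = ((X.presheaf.map (homOfLE (X.basicOpen_le (alphaRing A X ⊤ a))).op) ≫
      (X.presheaf.map (homOfLE hW).op)).hom (alphaRing A X ⊤ a)
    rw [← Functor.map_comp]
    rfl
  rw [e]
  exact h2

/-- sections of `F / I^n F` vanish away from the preimage of `V(I)` -/
theorem modPow_section_eq_zero (I : Ideal A) (n : ℕ) (F : X.Modules) (W : X.Opens)
    (hW : ∀ x ∈ W, ∃ a ∈ I, x ∈ X.basicOpen (alphaRing A X ⊤ a))
    (s : Γ(Formal.modPow I n F, W)) : s = 0 := by
  let U : I → X.Opens := fun a => W ⊓ X.basicOpen (alphaRing A X ⊤ a.1)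
  refine eq_of_cover _ W U (fun a => inf_le_left) ?_ s 0 ?_
  · intro x hx
    obtain ⟨a, ha, hxa⟩ := hW x hx
    exact Opens.mem_iSup.mpr ⟨⟨a, ha⟩, hx, hxa⟩
  · intro a
    rw [map_zero]
    set t := res (Formal.modPow I n F) (inf_le_left : U a ≤ W) s with ht
    have h0 : (Formal.smulMod A (Formal.modPow I n F) (a.1 ^ n)).app (U a) t = 0 := by
      rw [FFSheaf1.smulMod_modPow_zero I F (Ideal.pow_mem_pow a.2 n)]
      rfl
    rw [IPow1.smulMod_app] at h0
    have hu : IsUnit (alphaRing A X (U a) (a.1 ^ n)) := by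
      rw [map_pow]
      exact (isUnit_alphaRing_of_le (U a) a.1 inf_le_right).pow n
    exact (hu.smul_eq_zero).mp h0

/-- the ideal of functions on `W` vanishing at `x` -/
noncomputable def vanishingIdeal (W : X.Opens) (x : X) (hx : x ∈ W) : Ideal Γ(X, W) :=
  Ideal.comap (X.presheaf.germ W x hx).hom (IsLocalRing.maximalIdeal (X.presheaf.stalk x))

theorem mem_vanishingIdeal_iff (W : X.Opens) (x : X) (hx : x ∈ W) (r : Γ(X, W)) :
    r ∈ vanishingIdeal W x hx ↔ x ∉ X.basicOpen r := by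
  unfold vanishingIdeal
  rw [Ideal.mem_comap, IsLocalRing.mem_maximalIdeal, mem_nonunits_iff, Scheme.mem_basicOpen _ _ _ hx]

/-- the image of `1` in `O_X / I^n O_X` does not vanish near a point of the preimage of `V(I)` -/
theorem modPowπ_one_ne_zero [IsNoetherianRing A] (I : Ideal A) (n : ℕ) (hn : 0 < n) (x : X)
    (hx : ∀ a ∈ I, x ∉ X.basicOpen (alphaRing A X ⊤ a)) (W : X.Opens) (hW : IsAffineOpen W)
    (hxW : x ∈ W) :
    (Formal.modPowπ I n (Coh.structureModule X)).app W (toO W 1) ≠ 0 := by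
  intro h0
  obtain ⟨y, hy⟩ := IPow1.exact_sections I (Coh.structureModule X) n (toO W 1) h0
  have hmem := IPow1.mem_IM_of_mem_range_incl I (Coh.structureModule X) hW n y
  rw [hy] at hmem
  let P := vanishingIdeal W x hxW
  let J : Submodule Γ(X, W) Γ(Coh.structureModule X, W) :=
    Submodule.comap (toO W).symm.toLinearMap P
  have hle : ReesAlg1.IM I (alphaRing A X W) Γ(Coh.structureModule X, W) n ≤ J := by
    unfold ReesAlg1.IM
    rw [Submodule.span_le]
    rintro _ ⟨a, ha, m, rfl⟩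
    show (toO W).symm (alphaRing A X W a • m) ∈ P
    rw [map_smul]
    apply Ideal.mul_mem_right
    rw [mem_vanishingIdeal_iff, basicOpen_alphaRing]
    intro hxa
    have haI : a ∈ I := Ideal.pow_le_self (Nat.pos_iff_ne_zero.mp hn) ha
    exact hx a haI hxa.2
  have h1 : (1 : Γ(X, W)) ∈ P := by
    have := hle hmem
    simpa [J] using this
  rw [mem_vanishingIdeal_iff, Scheme.basicOpen_one] at h1
  exact h1 hxW

end Over

end Groth.Agent.Helper7.GeomConn.ZC
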