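import Mathlib
import Groth.Agent.S7591
import Groth.Agent.S9734

set_option autoImplicit false
set_option linter.style.haveILetI false
set_option linter.unusedVariables false
set_option linter.unusedSectionVars false
set_option backward.isDefEq.respectTransparency.types false

universe u

/-! helper7: a fibre is geometrically connected iff it stays connected over all etale neighbourhoods (S7591 + S9734) -/

open CategoryTheory AlgebraicGeometry TopologicalSpace Opposite Limits

namespace Groth.Agent.Helper7.GeomConn

theorem geometricallyConnected_fibre_iff_etale {X S : Scheme.{u}} (f : X ⟶ S) (s : S) :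
    GeometricallyConnected (f.fiberToSpecResidueField s) ↔
      ∀ (U : Scheme.{u}) (g : U ⟶ S) (u : U), Etale g → g u = s →
        ConnectedSpace ↑((pullback.snd f g).fiber u) := by
  constructor
  · intro hgc U g u _ hu
    subst hu
    have hpb := isPullback_fiberToSpecResidueField_of_isPullback (IsPullback.of_hasPullback f g) u
    exact hgc.geometrically_connectedSpace (K := ↑(U.residueField u))
      (Spec.map (g.residueFieldMap u)) _ _ hpb
  · intro H
    letI : (f.fiber s).Over (Spec (CommRingCat.of (S.residueField s))) :=
      ⟨f.fiberToSpecResidueField s⟩
    have key := (Groth.Agent.S7591.result (S.residueField s) (f.fiber s)).mpr ?_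
    · exact key
    intro k' _ _ _ _
    obtain ⟨U, g, u, hu, hg, ⟨e⟩⟩ := Groth.Agent.S9734.result S s k'
    subst hu
    haveI hconn := H U g u hg rfl
    have hpb := isPullback_fiberToSpecResidueField_of_isPullback (IsPullback.of_hasPullback f g) u
    letI : Algebra (S.residueField (g u)) (U.residueField u) :=
      ((S.residueFieldCongr rfl).inv ≫ g.residueFieldMap u).hom.toAlgebra
    let ee : CommRingCat.of k' ≅ CommRingCat.of (U.residueField u) :=
      e.toRingEquiv.toCommRingCatIso
    have hcomm : CommRingCat.ofHom (algebraMap (S.residueField (g u)) k') ≫ ee.hom =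
        g.residueFieldMap u := by
      refine CommRingCat.hom_ext (RingHom.ext fun x => ?_)
      exact e.commutes x
    have hsq : IsPullback (Spec.map (g.residueFieldMap u)) (Spec.map ee.hom) (𝟙 _)
        (Spec.map (CommRingCat.ofHom (algebraMap (S.residueField (g u)) k'))) := by
      refine IsPullback.of_vert_isIso ⟨?_⟩
      rw [Category.comp_id, ← Spec.map_comp]
      exact congrArg Spec.map hcomm.symm
    have hbig := hpb.paste_vert hsq
    rw [Category.comp_id] at hbig
    let ι : (pullback.snd f g).fiber u ≅ pullback (f.fiberToSpecResidueField (g u))
        (Spec.map (CommRingCat.ofHom (algebraMap (S.residueField (g u)) k'))) :=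
      hbig.isoPullback
    have hsurj : Function.Surjective ι.hom := by
      intro z
      refine ⟨ι.inv z, ?_⟩
      rw [← Scheme.Hom.comp_apply, ι.inv_hom_id]; rfl
    exact hsurj.connectedSpace ι.hom.continuous

end Groth.Agent.Helper7.GeomConn
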