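import Mathlib
import Groth.Agent.Lib.Helper7.GeomConn.ZarSheaf
import Groth.Agent.Lib.Lead.FLF7

set_option linter.style.haveILetI false
set_option linter.unusedVariables false
set_option linter.unusedSectionVars false
set_option autoImplicit false
set_option backward.isDefEq.respectTransparency.types false

universe u

/-! helper7: Zariski connectedness, local form: for a proper scheme over a Noetherian local ring A with A onto its global functions, the closed fibre is preconnected (via helper4 Mittag-Leffler for cohomology of O/m^n) -/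

open CategoryTheory CategoryTheory.Limits AlgebraicGeometry TopologicalSpace Opposite
open Groth.Agent.Helper1.QcCech (res resR res_res res_self res_smul)
open Groth.Agent.Helper1.QcExt (app_res)
open Groth.Agent.Lib.Helper4.BaseChgRing1 (alphaRing alphaRing_res)
open Groth.Agent.Lib.Helper4
open Groth.Agent.Helper1

namespace Groth.Agent.Helper7.GeomConn.ZC

variable {X : Scheme.{u}}

theorem isCoh_structureModule (X : Scheme.{u}) : Coh.IsCoh (Coh.structureModule X) := by
  refine ⟨inferInstance, ?_⟩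
  apply Groth.Agent.Lead.FLF.isFT_of_ft_sections
  intro U hU
  exact inferInstanceAs (Module.Finite Γ(X, U) Γ(X, U))

theorem HH0_natural (A : Type u) [CommRing A] [X.Over (Spec (CommRingCat.of A))]
    {M N : X.Modules} (φ : M ⟶ N) (x : Coh.HH X M 0) :
    HH0.equiv X N (Canon.HHlin A φ 0 x) = φ.app ⊤ (HH0.equiv X M x) :=
  (Sheaf.H.equiv₀_naturality (Limits.isTerminalTop (α := Opens X))
    ((SheafOfModules.toSheaf X.ringCatSheaf).map φ) x).symm

section Local

variable (A : Type u) [CommRing A] [X.Over (Spec (CommRingCat.of A))]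

/-- the preimage of `V(I)`, as the set of points where all elements of `I` vanish -/
def zeroLocus (I : Ideal A) : Set X := {x | ∀ a ∈ I, x ∉ X.basicOpen (alphaRing A X ⊤ a)}

theorem isClosed_zeroLocus (I : Ideal A) : IsClosed (zeroLocus (X := X) A I) := by
  have : zeroLocus (X := X) A I =
      ⋂ a : I, ((X.basicOpen (alphaRing A X ⊤ a.1) : Set X))ᶜ := by
    ext x
    simp [zeroLocus]
  rw [this]
  exact isClosed_iInter fun a => (X.basicOpen _).isOpen.isClosed_compl

variable {A}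

theorem π_toO_alphaRing (I : Ideal A) (n : ℕ) (W : X.Opens) (a : A) :
    (Formal.modPowπ I n (Coh.structureModule X)).app W (toO W (alphaRing A X W a)) =
      alphaRing A X W a • (Formal.modPowπ I n (Coh.structureModule X)).app W (toO W 1) := by
  rw [← Scheme.Modules.Hom.app_smul, ← map_smul, smul_eq_mul, mul_one]

theorem res_π_toO_one (I : Ideal A) (n : ℕ) {W W' : X.Opens} (h : W' ≤ W) :
    res _ h ((Formal.modPowπ I n (Coh.structureModule X)).app W (toO W 1)) =
      (Formal.modPowπ I n (Coh.structureModule X)).app W' (toO W' 1) := by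
  rw [← app_res, res_toO, map_one]

variable [IsNoetherianRing A] [IsLocalRing A] [IsProper (X ↘ Spec (CommRingCat.of A))]

/-- **Zariski's connectedness theorem, local form**: for a proper scheme over a Noetherian local
ring `A` all of whose global functions come from `A`, the closed fibre is preconnected. -/
theorem isPreconnected_closedFibre (hsurj : Function.Surjective (alphaRing A X ⊤)) :
    _root_.IsPreconnected (zeroLocus (X := X) A (IsLocalRing.maximalIdeal A)) := by
  set 𝔪 := IsLocalRing.maximalIdeal A with h𝔪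
  set Z := zeroLocus (X := X) A 𝔪 with hZ
  have hZc : IsClosed Z := isClosed_zeroLocus A 𝔪
  rw [isPreconnected_closed_iff]
  intro t t' ht ht' hcov hu hv
  obtain ⟨u, huZ, hut⟩ := hu
  obtain ⟨v, hvZ, hvt⟩ := hv
  by_contra hne
  rw [Set.not_nonempty_iff_eq_empty] at hne
  -- the two opens
  let W₁ : X.Opens := ⟨(Z ∩ t')ᶜ, (hZc.inter ht').isOpen_compl⟩
  let W₂ : X.Opens := ⟨(Z ∩ t)ᶜ, (hZc.inter ht).isOpen_compl⟩
  have hcov2 : ∀ x : X, x ∈ W₁ ∨ x ∈ W₂ := by
    intro x
    by_cases hx : x ∈ Z ∩ t'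
    · right
      intro hx'
      have : x ∈ Z ∩ (t ∩ t') := ⟨hx.1, hx'.2, hx.2⟩
      rw [hne] at this
      exact this
    · left; exact hx
  have hinter : ∀ x ∈ W₁ ⊓ W₂, ∃ a ∈ 𝔪, x ∈ X.basicOpen (alphaRing A X ⊤ a) := by
    rintro x ⟨hx1, hx2⟩
    have hxZ : x ∉ Z := by
      intro hxZ
      rcases hcov hxZ with h | h
      · exact hx2 ⟨hxZ, h⟩
      · exact hx1 ⟨hxZ, h⟩
    by_contra hcon
    push Not at hcon
    exact hxZ hcon
  have huW₁ : u ∈ W₁ := by
    intro hu'
    have : u ∈ Z ∩ (t ∩ t') := ⟨huZ, hut, hu'.2⟩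
    rw [hne] at this
    exact this
  have hvW₂ : v ∈ W₂ := by
    intro hv'
    have : v ∈ Z ∩ (t ∩ t') := ⟨hvZ, hv'.2, hvt⟩
    rw [hne] at this
    exact this
  -- the modules
  let 𝒪 := Coh.structureModule X
  let G : ℕ → X.Modules := fun n => Formal.modPow 𝔪 (n + 1) 𝒪
  let π : ∀ n, 𝒪 ⟶ G n := fun n => Formal.modPowπ 𝔪 (n + 1) 𝒪
  -- the idempotent sections
  have hε : ∀ n, ∃ ε : Γ(G n, ⊤), res (G n) (le_top : W₁ ≤ ⊤) ε = (π n).app W₁ (toO W₁ 1) ∧
      res (G n) (le_top : W₂ ≤ ⊤) ε = 0 := by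
    intro n
    apply exists_glue_two (G n) W₁ W₂ hcov2
    rw [modPow_section_eq_zero 𝔪 (n + 1) 𝒪 (W₁ ⊓ W₂) hinter
      (res (G n) (inf_le_left : W₁ ⊓ W₂ ≤ W₁) ((π n).app W₁ (toO W₁ 1))), map_zero]
  choose ε hε1 hε2 using hε
  -- Mittag-Leffler
  obtain ⟨c, hc⟩ := FFMain2.mittag_leffler A 𝔪 𝒪 0 (isCoh_structureModule X)
  let τ : G c ⟶ G 0 := FFMain3.tau 𝔪 𝒪 (Nat.zero_le c)
  have hτ : π c ≫ τ = π 0 := FFMain3.π_tau 𝔪 𝒪 (Nat.zero_le c)
  have hτε : τ.app ⊤ (ε c) = ε 0 := by
    apply eq_of_two (G 0) W₁ W₂ hcov2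
    · rw [← app_res, hε1, hε1]
      change (π c ≫ τ).app W₁ (toO W₁ 1) = _
      rw [hτ]
    · rw [← app_res, hε2, hε2, map_zero]
  obtain ⟨x, hx⟩ := hc 0 c (by omega) τ hτ ((HH0.equiv X (G c)).symm (ε c))
  have hx2 := congrArg (HH0.equiv X (G 0)) hx
  rw [HH0_natural, HH0_natural, AddEquiv.apply_symm_apply, hτε] at hx2
  obtain ⟨a, ha⟩ := hsurj ((toO ⊤).symm (HH0.equiv X 𝒪 x))
  have ha' : HH0.equiv X 𝒪 x = toO ⊤ (alphaRing A X ⊤ a) := by
    rw [ha, LinearEquiv.apply_symm_apply]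
  rw [ha'] at hx2
  -- hx2 : (π 0).app ⊤ (toO ⊤ (alphaRing ⊤ a)) = ε 0
  have key : ∀ (W : X.Opens) (w : X), IsAffineOpen W → w ∈ W → w ∈ Z →
      (π 0).app W (toO W 1) ≠ 0 := by
    intro W w hW hwW hwZ
    exact modPowπ_one_ne_zero 𝔪 (0 + 1) (by omega) w hwZ W hW hwW
  by_cases haU : IsUnit a
  · -- `a` a unit: contradiction at `v`
    have h1 := congrArg (res (G 0) (le_top : W₂ ≤ ⊤)) hx2
    rw [hε2, ← app_res, res_toO] at h1
    have h2 : resR (le_top : W₂ ≤ ⊤) (alphaRing A X ⊤ a) = alphaRing A X W₂ a :=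
      alphaRing_res A (le_top : W₂ ≤ ⊤) a
    rw [h2] at h1
    change (π 0).app W₂ (toO W₂ (alphaRing A X W₂ a)) = 0 at h1
    rw [π_toO_alphaRing] at h1
    have h3 : (π 0).app W₂ (toO W₂ 1) = 0 :=
      ((haU.map (alphaRing A X W₂)).smul_eq_zero).mp h1
    obtain ⟨W, hWaff, hvW, hWle⟩ := Opens.isBasis_iff_nbhd.mp X.isBasis_affineOpens hvW₂
    have h4 := congrArg (res (G 0) hWle) h3
    rw [map_zero] at h4
    change res _ hWle ((Formal.modPowπ 𝔪 (0 + 1) (Coh.structureModule X)).app W₂ (toO W₂ 1)) = 0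
      at h4
    rw [res_π_toO_one] at h4
    exact key W v hWaff hvW hvZ h4
  · -- `a` in the maximal ideal: contradiction at `u`
    have ham : a ∈ 𝔪 := (IsLocalRing.mem_maximalIdeal a).mpr haU
    have h0 : (π 0).app ⊤ (toO ⊤ (alphaRing A X ⊤ a)) = 0 := by
      change (Formal.modPowπ 𝔪 (0 + 1) (Coh.structureModule X)).app ⊤ (toO ⊤ (alphaRing A X ⊤ a)) = 0
      rw [π_toO_alphaRing, ← IPow1.smulMod_app]
      rw [FFSheaf1.smulMod_modPow_zero 𝔪 (Coh.structureModule X) (by simpa using ham)]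
      rfl
    rw [h0] at hx2
    have h1 := hε1 0
    rw [← hx2, map_zero] at h1
    obtain ⟨W, hWaff, huW, hWle⟩ := Opens.isBasis_iff_nbhd.mp X.isBasis_affineOpens huW₁
    have h4 := congrArg (res (G 0) hWle) h1
    rw [map_zero] at h4
    change 0 = res _ hWle ((Formal.modPowπ 𝔪 (0 + 1) (Coh.structureModule X)).app W₁ (toO W₁ 1))
      at h4
    rw [res_π_toO_one] at h4
    exact key W u hWaff huW huZ h4.symm

end Local

end Groth.Agent.Helper7.GeomConn.ZC
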