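import Mathlib
import Groth.Agent.Lib.Helper7.GeomConn.ZarLocal
import Groth.Agent.Lib.Helper7.GeomConn.EtNbhd

set_option linter.style.haveILetI false
set_option linter.unusedVariables false
set_option linter.unusedSectionVars false
set_option autoImplicit false
set_option backward.isDefEq.respectTransparency.types false

universe u

/-! helper7: Zariski's connectedness theorem: flat base change of O_Y = f_*O_X on affine opens, reduction to the local ring, and geometric connectedness of fibres via the etale-neighbourhood criterion (S2431) -/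

open CategoryTheory CategoryTheory.Limits AlgebraicGeometry TopologicalSpace Opposite
open Groth.Agent.Lib.Helper4.BaseChgRing1 (alphaRing alphaRing_res)

namespace Groth.Agent.Helper7.GeomConn.ZC

theorem flat_fromSpecStalk' (X : Scheme.{u}) (x : X) : Flat (X.fromSpecStalk x) := by
  obtain ⟨_, ⟨U, hU, rfl⟩, hxU, -⟩ :=
    X.isBasis_affineOpens.exists_subset_of_mem_open (Set.mem_univ x) isOpen_univ
  rw [← hU.fromSpecStalk_eq_fromSpecStalk hxU, IsAffineOpen.fromSpecStalk]
  haveI : Flat (Spec.map (X.presheaf.germ U x hxU)) := by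
    rw [Flat.SpecMap_iff]
    let _ := X.presheaf.algebra_section_stalk ⟨x, hxU⟩
    have := hU.isLocalization_stalk ⟨x, hxU⟩
    exact IsLocalization.flat (X.presheaf.stalk x) (hU.primeIdealOf ⟨x, hxU⟩).asIdeal.primeCompl
  infer_instance

/-- flat base change of the property `O_Y(W) ≅ O_X(f⁻¹ W)` on affine opens -/
theorem isIso_app_of_flat_baseChange {X Y T X' : Scheme.{u}} (f : X ⟶ Y) (g : T ⟶ Y) [Flat g]
    [QuasiCompact f] [QuasiSeparated f] (f' : X' ⟶ T) (g' : X' ⟶ X) (H : IsPullback g' f' f g)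
    (W : Y.Opens) (hW : IsAffineOpen W) (V : T.Opens) (hV : IsAffineOpen V) (hVW : V ≤ g ⁻¹ᵁ W)
    (hiso : IsIso (f.app W)) : IsIso (f'.app V) := by
  have hUSX : f ⁻¹ᵁ W ≤ f ⁻¹ᵁ W := le_rfl
  have hle : f' ⁻¹ᵁ V ≤ g' ⁻¹ᵁ (f ⁻¹ᵁ W) := by
    intro x hx
    have h1 : g (f' x) ∈ W := hVW hx
    have h2 : f (g' x) = g (f' x) := by
      have := congrArg (fun φ : X' ⟶ Y => φ x) H.w
      simpa using this
    show f (g' x) ∈ W
    rw [h2]; exact h1
  have hUY : f' ⁻¹ᵁ V = g' ⁻¹ᵁ (f ⁻¹ᵁ W) ⊓ f' ⁻¹ᵁ V :=
    le_antisymm (le_inf hle le_rfl) inf_le_right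
  have h1 : IsIso (pushoutSection H hVW hUSX hUY) :=
    isIso_pushoutSection_of_isQuasiSeparated_of_flat_right H hVW hUSX hUY hW hV
      (f.isCompact_preimage hW.isCompact) (f.isQuasiSeparated_preimage hW.isQuasiSeparated)
  rw [isIso_pushoutSection_iff] at h1
  haveI : IsIso (f.appLE W (f ⁻¹ᵁ W) hUSX) := by
    rw [Scheme.Hom.appLE_eq_app]; exact hiso
  have h2 := h1.isIso_inr_of_isIso
  rw [Scheme.Hom.app_eq_appLE]
  exact h2

section Affine

variable {A : Type u} [CommRing A] {X : Scheme.{u}}

theorem mem_basicOpen_alphaRing_top [X.Over (Spec (CommRingCat.of A))] (a : A) (x : X) :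
    x ∈ X.basicOpen (alphaRing A X ⊤ a) ↔
      a ∉ (((X ↘ Spec (CommRingCat.of A)) x : PrimeSpectrum A)).asIdeal := by
  unfold alphaRing
  change x ∈ X.basicOpen (((X ↘ Spec (CommRingCat.of A)).appLE ⊤ ⊤ le_top)
    ((Scheme.ΓSpecIso (CommRingCat.of A)).inv a)) ↔ _
  rw [Scheme.basicOpen_appLE, basicOpen_eq_of_affine]
  constructor
  · rintro ⟨-, h⟩
    exact (PrimeSpectrum.mem_basicOpen a _).mp h
  · intro h
    exact ⟨trivial, (PrimeSpectrum.mem_basicOpen a _).mpr h⟩

theorem zeroLocus_eq_preimage [X.Over (Spec (CommRingCat.of A))] (I : Ideal A) :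
    zeroLocus (X := X) A I =
      (fun x : X => ((X ↘ Spec (CommRingCat.of A)) x : PrimeSpectrum A)) ⁻¹'
        (PrimeSpectrum.zeroLocus (I : Set A)) := by
  ext x
  constructor
  · intro h
    refine (PrimeSpectrum.mem_zeroLocus _ _).mpr (fun a ha => ?_)
    have := h a ha
    rw [mem_basicOpen_alphaRing_top, not_not] at this
    exact this
  · intro h a ha
    have h' := (PrimeSpectrum.mem_zeroLocus _ _).mp h
    rw [mem_basicOpen_alphaRing_top, not_not]
    exact h' ha

theorem zeroLocus_maximalIdeal [IsLocalRing A] :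
    PrimeSpectrum.zeroLocus ((IsLocalRing.maximalIdeal A : Ideal A) : Set A) =
      {IsLocalRing.closedPoint A} := by
  ext p
  rw [PrimeSpectrum.mem_zeroLocus, Set.mem_singleton_iff]
  constructor
  · intro h
    apply PrimeSpectrum.ext
    exact ((IsLocalRing.maximalIdeal.isMaximal A).eq_of_le p.isPrime.ne_top h).symm
  · rintro rfl
    exact le_rfl

/-- Zariski connectedness over a Noetherian local ring -/
theorem isPreconnected_preimage_closedPoint [IsNoetherianRing A] [IsLocalRing A]
    (f : X ⟶ Spec (CommRingCat.of A)) [IsProper f] (hsurj : Function.Surjective f.appTop.hom) :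
    _root_.IsPreconnected (f ⁻¹' {IsLocalRing.closedPoint A}) := by
  letI : X.Over (Spec (CommRingCat.of A)) := ⟨f⟩
  haveI : IsProper (X ↘ Spec (CommRingCat.of A)) := ‹IsProper f›
  have hs : Function.Surjective (alphaRing A X ⊤) := by
    unfold alphaRing
    rw [RingHom.coe_comp]
    refine Function.Surjective.comp ?_ ?_
    · have : (X ↘ Spec (CommRingCat.of A)).appLE ⊤ ⊤ le_top = f.appTop := by
        simp [Scheme.Hom.appLE]
        rfl
      rw [this]
      exact hsurj
    · exact Groth.Agent.Lib.Helper4.BaseChgRing1.surjective_ΓSpecIso_inv _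
  have := isPreconnected_closedFibre (A := A) (X := X) hs
  rw [zeroLocus_eq_preimage, zeroLocus_maximalIdeal] at this
  exact this

end Affine

theorem isPreconnected_preimage_closedPoint' {X : Scheme.{u}} (R : CommRingCat.{u})
    [IsNoetherianRing R] [IsLocalRing R] (f : X ⟶ Spec R) [IsProper f]
    (hsurj : Function.Surjective f.appTop.hom) :
    _root_.IsPreconnected (f ⁻¹' {IsLocalRing.closedPoint R}) :=
  isPreconnected_preimage_closedPoint (A := R) f hsurj

/-- Zariski connectedness at a point: if `O_Y(W) ≅ O_X(f⁻¹ W)` for an affine neighbourhood `W`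
of `y`, then the fibre over `y` is preconnected -/
theorem isPreconnected_preimage_singleton {X Y : Scheme.{u}} (f : X ⟶ Y) [IsProper f]
    [IsLocallyNoetherian Y] (y : Y) (W : Y.Opens) (hW : IsAffineOpen W) (hyW : y ∈ W)
    (hiso : IsIso (f.app W)) : _root_.IsPreconnected (f ⁻¹' {y}) := by
  let j := Y.fromSpecStalk y
  haveI := flat_fromSpecStalk' Y y
  let f' : pullback f j ⟶ Spec (Y.presheaf.stalk y) := pullback.snd f j
  let g' : pullback f j ⟶ X := pullback.fst f j
  have H : IsPullback g' f' f j := IsPullback.of_hasPullback f j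
  have hVW : (⊤ : (Spec (Y.presheaf.stalk y)).Opens) ≤ j ⁻¹ᵁ W := by
    intro p _
    have hp : j p ⤳ y := by
      have : j p ∈ Set.range j := ⟨p, rfl⟩
      rw [Scheme.range_fromSpecStalk] at this
      exact this
    exact hp.mem_open W.isOpen hyW
  have h1 : IsIso (f'.app ⊤) :=
    isIso_app_of_flat_baseChange f j f' g' H W hW ⊤ (isAffineOpen_top _) hVW hiso
  have hsurj : Function.Surjective f'.appTop.hom := by
    have h2 : IsIso f'.appTop := h1
    exact (ConcreteCategory.bijective_of_isIso f'.appTop).2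
  have hpre := isPreconnected_preimage_closedPoint' (Y.presheaf.stalk y) f' hsurj
  have himg : g' '' (f' ⁻¹' {IsLocalRing.closedPoint ↑(Y.presheaf.stalk y)}) = f ⁻¹' {y} := by
    ext x
    constructor
    · rintro ⟨x', hx', rfl⟩
      have h2 : f (g' x') = j (f' x') := by
        have := congrArg (fun φ : pullback f j ⟶ Y => φ x') H.w
        simpa using this
      show f (g' x') = y
      rw [h2, hx']
      exact Scheme.fromSpecStalk_closedPoint
    · intro hx
      have hx' : f x = j (IsLocalRing.closedPoint ↑(Y.presheaf.stalk y)) := by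
        rw [Scheme.fromSpecStalk_closedPoint]; exact hx
      obtain ⟨z, hz1, hz2⟩ := Scheme.Pullback.exists_preimage_pullback x _ hx'
      exact ⟨z, hz2, hz1⟩
  rw [← himg]
  exact hpre.image _ g'.continuous.continuousOn

/-- a proper morphism with `O_Y ≅ f_* O_X` is surjective -/
theorem surjective_of_isIso_app {X Y : Scheme.{u}} (f : X ⟶ Y) [IsProper f]
    (hf : ∀ U : Y.Opens, IsIso (f.app U)) : Surjective f := by
  constructor
  intro y
  by_contra hy
  have hcl : IsClosed (Set.range f) := f.isClosedMap.isClosed_range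
  let U : Y.Opens := ⟨(Set.range f)ᶜ, hcl.isOpen_compl⟩
  have hyU : y ∈ U := hy
  have hpre : f ⁻¹ᵁ U = ⊥ := by
    ext x
    simp only [Scheme.Hom.coe_preimage, Set.mem_preimage, Opens.coe_bot, Set.mem_empty_iff_false,
      iff_false]
    intro hx
    exact hx ⟨x, rfl⟩
  haveI : Subsingleton Γ(X, f ⁻¹ᵁ U) := by
    rw [hpre]; infer_instance
  haveI := hf U
  have hbij := ConcreteCategory.bijective_of_isIso (f.app U)
  haveI : Subsingleton Γ(Y, U) := hbij.1.subsingleton
  haveI : Nonempty ↥U := ⟨⟨y, hyU⟩⟩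
  haveI : Nontrivial Γ(Y, U) := inferInstance
  exact not_subsingleton Γ(Y, U) inferInstance

/-- **Zariski's connectedness theorem** -/
theorem geometricallyConnected_of_isIso_app {X Y : Scheme.{u}} (f : X ⟶ Y) [IsProper f]
    [IsLocallyNoetherian Y] (hf : ∀ U : Y.Opens, IsIso (f.app U)) : GeometricallyConnected f := by
  haveI hs : Surjective f := surjective_of_isIso_app f hf
  rw [GeometricallyConnected.iff_geometricallyConnected_fiber]
  intro s
  rw [geometricallyConnected_fibre_iff_etale]
  intro U g u hg hgu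
  haveI : Etale g := hg
  haveI : IsLocallyNoetherian U := LocallyOfFiniteType.isLocallyNoetherian g
  let f' : pullback f g ⟶ U := pullback.snd f g
  -- affine opens
  obtain ⟨W, hWaff, hsW, -⟩ := Opens.isBasis_iff_nbhd.mp Y.isBasis_affineOpens
    (show g u ∈ (⊤ : Y.Opens) from trivial)
  obtain ⟨V, hVaff, huV, hVW⟩ := Opens.isBasis_iff_nbhd.mp U.isBasis_affineOpens
    (show u ∈ g ⁻¹ᵁ W from hsW)
  have hiso : IsIso (f'.app V) :=
    isIso_app_of_flat_baseChange f g f' (pullback.fst f g) (IsPullback.of_hasPullback f g)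
      W hWaff V hVaff hVW (hf W)
  have hpre : _root_.IsPreconnected (f' ⁻¹' {u}) :=
    isPreconnected_preimage_singleton f' u V hVaff huV hiso
  haveI : Surjective f' := inferInstance
  obtain ⟨x, hx⟩ := f'.surjective u
  have hconn : _root_.IsConnected (f' ⁻¹' {u}) := ⟨⟨x, hx⟩, hpre⟩
  haveI : ConnectedSpace ↥(f' ⁻¹' {u}) := Subtype.connectedSpace hconn
  exact (f'.fiberHomeo u).connectedSpace_iff.mpr inferInstance

end Groth.Agent.Helper7.GeomConn.ZC
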