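import Mathlib
import Groth.Agent.Lib.Helper7.GeomConn.ZarFibre
import Groth.Agent.Lib.Helper4.ProperPush1
import Groth.Agent.Lib.Helper1.Stein1

set_option linter.style.haveILetI false
set_option linter.unusedVariables false
set_option linter.unusedSectionVars false
set_option autoImplicit false
set_option backward.isDefEq.respectTransparency.types false

universe u

/-! helper7: fibration near a normal point (local form of EGA III 4.3.12): common denominators via finiteness, iso on basic open, spreading to all opens inside, pointwise Zariski connectedness (S4480) -/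

open CategoryTheory CategoryTheory.Limits AlgebraicGeometry TopologicalSpace Opposite
open Groth.Agent.Lib.Helper4.ProperPush1

namespace Groth.Agent.Helper7.GeomConn.ZC

section Normal

variable {X Y : Scheme.{u}} [IsIntegral X] [IsIntegral Y] (f : X ⟶ Y) [IsProper f]
  (hdom : f.base (genericPoint X) ⤳ genericPoint Y)
  (halg : ∀ x : X.functionField,
      (∃ q : Polynomial Y.functionField, q ≠ 0 ∧
        Polynomial.eval₂ (CohIII.stalkToFunctionField f (genericPoint Y) hdom) x q = 0) →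
      x ∈ Set.range (CohIII.stalkToFunctionField f (genericPoint Y) hdom))
  (y : Y) (hy : IsIntegrallyClosed (Y.presheaf.stalk y))
  (W : Y.Opens) (hW : IsAffineOpen W) (hyW : y ∈ W)

include halg hy hW hyW in
/-- every function on `f⁻¹ W` becomes a function on the base after multiplication by a function
on `W` not vanishing at the normal point `y` -/
theorem exists_mul_mem_range (s : Γ(X, f ⁻¹ᵁ W)) :
    ∃ b : Γ(Y, W), y ∈ Y.basicOpen b ∧ ∃ a : Γ(Y, W), (f.app W).hom b * s = (f.app W).hom a := by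
  have hηW : genericPoint Y ∈ W :=
    ((genericPoint_spec Y).mem_open_set_iff W.isOpen).mpr ⟨y, trivial, hyW⟩
  have hηX : genericPoint X ∈ f ⁻¹ᵁ W := hdom.mem_open W.2 hηW
  obtain ⟨p, hp, hps⟩ := isIntegral_app_of_isProper f W hW s
  set σ := CohIII.stalkToFunctionField f (genericPoint Y) hdom with hσ
  set gY := (Y.presheaf.germ W (genericPoint Y) hηW).hom with hgY
  set gX := (X.presheaf.germ (f ⁻¹ᵁ W) (genericPoint X) hηX).hom with hgX
  have hsq : σ.comp gY = gX.comp (f.app W).hom :=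
    RingHom.ext (fun a => stalkToFunctionField_germ f hdom W hηW a)
  have hroot : Polynomial.eval₂ σ (gX s) (p.map gY) = 0 := by
    rw [Polynomial.eval₂_map, hsq, ← Polynomial.hom_eval₂, hps, map_zero]
  obtain ⟨t, ht⟩ := halg (gX s) ⟨p.map gY, (hp.map gY).ne_zero, hroot⟩
  have htroot : Polynomial.eval₂ gY t p = 0 := by
    apply σ.injective
    rw [Polynomial.hom_eval₂, map_zero, ht, ← Polynomial.eval₂_map]
    exact hroot
  -- pass to the local ring at `y`
  set gy := (Y.presheaf.germ W y hyW).hom with hgy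
  have hfac : gY = (algebraMap (Y.presheaf.stalk y) Y.functionField).comp gy := by
    ext a
    have := Y.presheaf.germ_stalkSpecializes (U := W) hyW
      ((genericPoint_spec Y).specializes (Set.mem_univ y))
    exact (ConcreteCategory.congr_hom this a).symm
  have htint : IsIntegral (Y.presheaf.stalk y) t := by
    refine ⟨p.map gy, hp.map gy, ?_⟩
    rw [Polynomial.eval₂_map, ← hfac]
    exact htroot
  obtain ⟨r, hr⟩ := IsIntegrallyClosed.isIntegral_iff.mp htint
  letI := Y.presheaf.algebra_section_stalk ⟨y, hyW⟩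
  haveI := hW.isLocalization_stalk ⟨y, hyW⟩
  obtain ⟨a, b, hab⟩ := IsLocalization.exists_mk'_eq
    (hW.primeIdealOf ⟨y, hyW⟩).asIdeal.primeCompl r
  have hspec : r * gy b = gy a := by
    rw [← hab]
    exact IsLocalization.mk'_spec _ a b
  have hbu : IsUnit (gy b) := IsLocalization.map_units (Y.presheaf.stalk y) b
  refine ⟨b, (Scheme.mem_basicOpen _ _ _ hyW).mpr hbu, a, ?_⟩
  apply germ_injective_of_isIntegral X (genericPoint X) hηX
  change gX ((f.app W).hom b * s) = gX ((f.app W).hom a)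
  have h1 : ∀ c, gX ((f.app W).hom c) = σ (gY c) := fun c =>
    (RingHom.congr_fun hsq c).symm
  rw [map_mul, h1, h1, ← ht, ← map_mul, hfac, RingHom.comp_apply, RingHom.comp_apply, ← hr,
    ← map_mul, mul_comm, hspec]

include halg hy hW hyW in
/-- a common denominator: finiteness of `Γ(f⁻¹ W)` over `Γ(W)` -/
theorem exists_common_mul_mem_range [IsLocallyNoetherian Y] :
    ∃ b : Γ(Y, W), y ∈ Y.basicOpen b ∧
      ∀ m : Γ(X, f ⁻¹ᵁ W), ∃ a : Γ(Y, W), (f.app W).hom b * m = (f.app W).hom a := by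
  letI := (f.app W).hom.toAlgebra
  haveI hfin : Module.Finite Γ(Y, W) Γ(X, f ⁻¹ᵁ W) :=
    Groth.Agent.Helper1.Stein.finite_app_of_isProper f W hW
  have hsmul : ∀ (c : Γ(Y, W)) (m : Γ(X, f ⁻¹ᵁ W)), c • m = (f.app W).hom c * m := fun c m => rfl
  let P : Submodule Γ(Y, W) Γ(X, f ⁻¹ᵁ W) → Prop := fun N =>
    ∃ b : Γ(Y, W), y ∈ Y.basicOpen b ∧
      ∀ m ∈ N, ∃ a : Γ(Y, W), (f.app W).hom b * m = (f.app W).hom a
  have hP : P ⊤ := by
    refine Submodule.fg_induction (motive := fun N _ => P N) ?_ ?_ ⊤ hfin.fg_top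
    · intro x
      obtain ⟨b, hb, a, hab⟩ := exists_mul_mem_range f hdom halg y hy W hW hyW x
      refine ⟨b, hb, fun m hm => ?_⟩
      obtain ⟨c, rfl⟩ := Submodule.mem_span_singleton.mp hm
      refine ⟨c * a, ?_⟩
      rw [hsmul, map_mul, ← hab]
      ring
    · rintro N₁ N₂ - - ⟨b₁, hb₁, h₁⟩ ⟨b₂, hb₂, h₂⟩
      refine ⟨b₁ * b₂, ?_, fun m hm => ?_⟩
      · rw [Scheme.basicOpen_mul]
        exact ⟨hb₁, hb₂⟩
      · obtain ⟨m₁, hm₁, m₂, hm₂, rfl⟩ := Submodule.mem_sup.mp hm
        obtain ⟨a₁, ha₁⟩ := h₁ m₁ hm₁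
        obtain ⟨a₂, ha₂⟩ := h₂ m₂ hm₂
        refine ⟨b₂ * a₁ + b₁ * a₂, ?_⟩
        rw [map_add, map_mul, map_mul, map_mul, ← ha₁, ← ha₂]
        ring
  obtain ⟨b, hb, h⟩ := hP
  exact ⟨b, hb, fun m => h m trivial⟩

omit [IsIntegral X] [IsIntegral Y] [IsProper f] in
theorem exists_pow_mul_eq_res {X : Scheme.{u}} (V : X.Opens) (hV : IsCompact V.1)
    (hV' : IsQuasiSeparated V.1) (g : Γ(X, V)) (O : X.Opens) (hO : O = X.basicOpen g)
    (t : Γ(X, O)) :
    ∃ (n : ℕ) (m : Γ(X, V)),
      (X.presheaf.map (homOfLE (hO.le.trans (X.basicOpen_le g))).op).hom m =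
        ((X.presheaf.map (homOfLE (hO.le.trans (X.basicOpen_le g))).op).hom g) ^ n * t := by
  subst hO
  exact exists_eq_pow_mul_of_isCompact_of_isQuasiSeparated X V hV hV' g t

include hdom hW in
/-- `O_Y(D(b)) ≅ O_X(f⁻¹ D(b))` when `b` is a common denominator -/
theorem isIso_app_basicOpen (b : Γ(Y, W)) (hyb : y ∈ Y.basicOpen b)
    (hb : ∀ m : Γ(X, f ⁻¹ᵁ W), ∃ a : Γ(Y, W), (f.app W).hom b * m = (f.app W).hom a) :
    IsIso (f.app (Y.basicOpen b)) := by
  set U := Y.basicOpen b with hU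
  have hUW : U ≤ W := Y.basicOpen_le b
  have hηU : genericPoint Y ∈ U :=
    ((genericPoint_spec Y).mem_open_set_iff U.isOpen).mpr ⟨y, trivial, hyb⟩
  refine (ConcreteCategory.isIso_iff_bijective _).mpr
    ⟨app_injective_of_dominant f hdom U hηU, ?_⟩
  intro t
  have hO : f ⁻¹ᵁ U = X.basicOpen ((f.app W).hom b) := Scheme.preimage_basicOpen f b
  obtain ⟨n, m, hm⟩ := exists_pow_mul_eq_res (f ⁻¹ᵁ W) (f.isCompact_preimage hW.isCompact)
    (f.isQuasiSeparated_preimage hW.isQuasiSeparated) ((f.app W).hom b) (f ⁻¹ᵁ U) hO t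
  obtain ⟨a, ha⟩ := hb m
  -- restriction maps
  let rY : Γ(Y, W) →+* Γ(Y, U) := (Y.presheaf.map (homOfLE hUW).op).hom
  let rX : Γ(X, f ⁻¹ᵁ W) →+* Γ(X, f ⁻¹ᵁ U) :=
    (X.presheaf.map (homOfLE (hO.le.trans (X.basicOpen_le _))).op).hom
  have hnat : ∀ c : Γ(Y, W), (f.app U).hom (rY c) = rX ((f.app W).hom c) := by
    intro c
    have := congrArg (fun φ => φ.hom c) (f.naturality (homOfLE hUW).op)
    exact this
  have hβ : IsUnit (rY b) := RingedSpace.isUnit_res_basicOpen Y.toRingedSpace b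
  obtain ⟨β, hβ'⟩ := hβ
  refine ⟨rY a * ((β⁻¹ : (Γ(Y, U))ˣ) : Γ(Y, U)) ^ (n + 1), ?_⟩
  have h1 : (f.app U).hom (rY b) * (f.app U).hom ((β⁻¹ : (Γ(Y, U))ˣ) : Γ(Y, U)) = 1 := by
    rw [← map_mul, ← hβ', Units.mul_inv, map_one]
  have h2 : (f.app U).hom (rY a) = ((f.app U).hom (rY b)) ^ (n + 1) * t := by
    rw [hnat a, ← ha, map_mul, hm, hnat b]
    ring
  change (f.app U).hom (rY a * ((β⁻¹ : (Γ(Y, U))ˣ) : Γ(Y, U)) ^ (n + 1)) = t
  rw [map_mul, map_pow, h2]
  calc ((f.app U).hom (rY b)) ^ (n + 1) * t *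
        ((f.app U).hom ((β⁻¹ : (Γ(Y, U))ˣ) : Γ(Y, U))) ^ (n + 1)
      = ((f.app U).hom (rY b) * (f.app U).hom ((β⁻¹ : (Γ(Y, U))ˣ) : Γ(Y, U))) ^ (n + 1) * t := by
        ring
    _ = t := by rw [h1, one_pow, one_mul]

end Normal

section Spread

variable {X Y : Scheme.{u}}

/-- from an affine open to the affine opens inside it -/
theorem isIso_app_of_le_affine (f : X ⟶ Y) [QuasiCompact f] [QuasiSeparated f] (U : Y.Opens)
    (hU : IsAffineOpen U) (hiso : IsIso (f.app U)) (V : Y.Opens) (hV : IsAffineOpen V)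
    (hVU : V ≤ U) : IsIso (f.app V) :=
  isIso_app_of_flat_baseChange f (𝟙 Y) f (𝟙 X) (IsPullback.of_horiz_isIso ⟨by simp⟩) U hU V hV
    (by simpa using hVU) hiso

/-- from the affine opens inside `U` to all opens inside `U` -/
theorem isIso_app_of_le (f : X ⟶ Y) (U : Y.Opens)
    (h : ∀ W : Y.Opens, IsAffineOpen W → W ≤ U → IsIso (f.app W)) (V : Y.Opens) (hVU : V ≤ U) :
    IsIso (f.app V) := by
  have h1 : ∀ W' : U.toScheme.affineOpens, IsIso ((f ∣_ U).app W'.1) := by
    intro W'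
    rw [morphismRestrict_app]
    have hi : IsIso (f.app (U.ι ''ᵁ W'.1)) :=
      h _ (W'.2.image_of_isOpenImmersion U.ι) (Scheme.Opens.ι_image_le U W'.1)
    refine @IsIso.comp_isIso _ _ _ _ _ _ _ hi ?_
    rw [eqToHom_op, eqToHom_map]
    have key : ∀ {C : Type (u + 1)} [Category.{u} C] {A B : C} (e : A = B), IsIso (eqToHom e) :=
      fun e => inferInstance
    exact key _
  have h2 := isIso_app_of_affine (f ∣_ U) h1 (U.ι ⁻¹ᵁ V)
  rw [morphismRestrict_app] at h2
  have h3 : IsIso (f.app (U.ι ''ᵁ U.ι ⁻¹ᵁ V)) :=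
    @IsIso.of_isIso_comp_right _ _ _ _ _ _
      (X.presheaf.map (eqToHom (image_morphismRestrict_preimage f U (U.ι ⁻¹ᵁ V))).op)
      inferInstance h2
  have h4 : U.ι ''ᵁ U.ι ⁻¹ᵁ V = V := by
    rw [Scheme.Hom.image_preimage_eq_opensRange_inf, Scheme.Opens.opensRange_ι]
    exact inf_eq_right.mpr hVU
  rw [h4] at h3
  exact h3

/-- Zariski connectedness at a point, geometric form -/
theorem geometricallyConnected_fibre_of_isIso_app_nhd (f : X ⟶ Y) [IsProper f]
    [IsLocallyNoetherian Y] (y : Y) (hy : y ∈ Set.range f) (U : Y.Opens) (hyU : y ∈ U)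
    (hU : ∀ W : Y.Opens, IsAffineOpen W → W ≤ U → IsIso (f.app W)) :
    GeometricallyConnected (f.fiberToSpecResidueField y) := by
  rw [geometricallyConnected_fibre_iff_etale]
  intro T g u hg hgu
  haveI : Etale g := hg
  haveI : IsLocallyNoetherian T := LocallyOfFiniteType.isLocallyNoetherian g
  let f' : pullback f g ⟶ T := pullback.snd f g
  obtain ⟨W, hWaff, hsW, hWU⟩ := Opens.isBasis_iff_nbhd.mp Y.isBasis_affineOpens
    (show g u ∈ U from hgu ▸ hyU)
  obtain ⟨V, hVaff, huV, hVW⟩ := Opens.isBasis_iff_nbhd.mp T.isBasis_affineOpens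
    (show u ∈ g ⁻¹ᵁ W from hsW)
  have hiso : IsIso (f'.app V) :=
    isIso_app_of_flat_baseChange f g f' (pullback.fst f g) (IsPullback.of_hasPullback f g)
      W hWaff V hVaff hVW (hU W hWaff hWU)
  have hpre : _root_.IsPreconnected (f' ⁻¹' {u}) :=
    isPreconnected_preimage_singleton f' u V hVaff huV hiso
  obtain ⟨x, hx⟩ := hy
  obtain ⟨z, hz1, hz2⟩ := Scheme.Pullback.exists_preimage_pullback x u (hx.trans hgu.symm)
  have hconn : _root_.IsConnected (f' ⁻¹' {u}) := ⟨⟨z, hz2⟩, hpre⟩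
  haveI : ConnectedSpace ↥(f' ⁻¹' {u}) := Subtype.connectedSpace hconn
  exact (f'.fiberHomeo u).connectedSpace_iff.mpr inferInstance

end Spread

section Main

variable {X Y : Scheme.{u}} [IsIntegral X] [IsIntegral Y] [IsLocallyNoetherian Y]
  (f : X ⟶ Y) [IsProper f]
  (hdom : f.base (genericPoint X) ⤳ genericPoint Y)
  (halg : ∀ x : X.functionField,
      (∃ q : Polynomial Y.functionField, q ≠ 0 ∧
        Polynomial.eval₂ (CohIII.stalkToFunctionField f (genericPoint Y) hdom) x q = 0) →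
      x ∈ Set.range (CohIII.stalkToFunctionField f (genericPoint Y) hdom))
  (y : Y) (hy : IsIntegrallyClosed (Y.presheaf.stalk y))

include halg hy in
/-- a proper dominant morphism of integral schemes with `R(Y)` algebraically closed in `R(X)` is a
fibration near every normal point of the target, with geometrically connected fibre there -/
theorem fibration_near_normal_point :
    GeometricallyConnected (f.fiberToSpecResidueField y) ∧
      ∃ U : Y.Opens, y ∈ U ∧ ∀ V : Y.Opens, V ≤ U → IsIso (f.app V) := by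
  obtain ⟨W, hWaff, hyW, -⟩ := Opens.isBasis_iff_nbhd.mp Y.isBasis_affineOpens
    (show y ∈ (⊤ : Y.Opens) from trivial)
  obtain ⟨b, hyb, hb⟩ := exists_common_mul_mem_range f hdom halg y hy W hWaff hyW
  have hiso := isIso_app_basicOpen f hdom y W hWaff b hyb hb
  have hUaff : IsAffineOpen (Y.basicOpen b) := hWaff.basicOpen b
  have hAff : ∀ W' : Y.Opens, IsAffineOpen W' → W' ≤ Y.basicOpen b → IsIso (f.app W') :=
    fun W' hW' hle => isIso_app_of_le_affine f _ hUaff hiso W' hW' hle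
  refine ⟨?_, Y.basicOpen b, hyb, isIso_app_of_le f _ hAff⟩
  have hrange : Set.range f = Set.univ := by
    have hcl : IsClosed (Set.range f) := f.isClosedMap.isClosed_range
    have hη : genericPoint Y ∈ Set.range f :=
      ⟨genericPoint X, map_genericPoint_of_specializes f hdom⟩
    have h1 : closure {genericPoint Y} ⊆ Set.range f :=
      hcl.closure_subset_iff.mpr (Set.singleton_subset_iff.mpr hη)
    rw [(genericPoint_spec Y).def] at h1
    exact Set.eq_univ_of_univ_subset h1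
  exact geometricallyConnected_fibre_of_isIso_app_nhd f y (hrange ▸ Set.mem_univ y)
    (Y.basicOpen b) hyb hAff

end Main

end Groth.Agent.Helper7.GeomConn.ZC
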