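import Mathlib
import Groth.Agent.Lib.Helper7.GeomConn.ZarNormal
import Groth.Prelude.Def_Models

set_option linter.style.haveILetI false
set_option linter.unusedVariables false
set_option linter.unusedSectionVars false
set_option autoImplicit false
set_option backward.isDefEq.respectTransparency.types false

universe u

/-! helper7: proper flat models over a DVR: R = global functions when the generic fibre has only constant functions; connectedness of the special fibre (S2209, S18427) -/

open CategoryTheory CategoryTheory.Limits AlgebraicGeometry TopologicalSpace Opposite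

namespace Groth.Agent.Helper7.GeomConn.ZC

/-- `Spec` of an injective ring map is scheme-theoretically dominant -/
theorem isSchemeTheoreticallyDominant_SpecMap {R S : CommRingCat.{u}} (φ : R ⟶ S)
    (hφ : Function.Injective φ.hom) : IsSchemeTheoreticallyDominant (Spec.map φ) := by
  constructor
  apply Scheme.IdealSheafData.ext_of_isAffine
  rw [Scheme.Hom.ker_apply, Scheme.IdealSheafData.ideal_bot, Pi.bot_apply]
  rw [← RingHom.injective_iff_ker_eq_bot]
  have h1 : (Spec.map φ).appTop ≫ (Scheme.ΓSpecIso S).hom = (Scheme.ΓSpecIso R).hom ≫ φ :=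
    Scheme.ΓSpecIso_naturality φ
  have h2 : (Spec.map φ).appTop =
      (Scheme.ΓSpecIso R).hom ≫ φ ≫ (Scheme.ΓSpecIso S).inv := by
    rw [← Category.assoc, ← h1, Category.assoc, Iso.hom_inv_id, Category.comp_id]
  show Function.Injective (Spec.map φ).appTop.hom
  rw [h2]
  simp only [CommRingCat.hom_comp, RingHom.coe_comp]
  exact ((ConcreteCategory.bijective_of_isIso (Scheme.ΓSpecIso S).inv).1.comp hφ).comp
    (ConcreteCategory.bijective_of_isIso (Scheme.ΓSpecIso R).hom).1

section Model

variable (R : Type u) [CommRing R] [IsDomain R] (K : Type u) [Field K] [Algebra R K]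
  [IsFractionRing R K] {X C : Scheme.{u}} (p : X ⟶ Spec (CommRingCat.of R))
  (f : C ⟶ Spec (CommRingCat.of K)) (g : C ⟶ X)
  (H : IsPullback g f p (Spec.map (CommRingCat.ofHom (algebraMap R K))))

include H in
/-- global functions of a flat `R`-scheme inject into those of its generic fibre -/
theorem appTop_injective_of_flat_generic [Flat p] : Function.Injective g.appTop.hom := by
  haveI : IsSchemeTheoreticallyDominant (Spec.map (CommRingCat.ofHom (algebraMap R K))) :=
    isSchemeTheoreticallyDominant_SpecMap _ (IsFractionRing.injective R K)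
  haveI : IsSchemeTheoreticallyDominant g := IsSchemeTheoreticallyDominant.of_isPullback H.flip
  haveI : QuasiCompact g := MorphismProperty.of_isPullback (P := @QuasiCompact) H.flip inferInstance
  exact g.app_injective ⊤

include H in
theorem appTop_comm : p.appTop ≫ g.appTop =
    (Spec.map (CommRingCat.ofHom (algebraMap R K))).appTop ≫ f.appTop := by
  rw [← Scheme.Hom.comp_appTop, ← Scheme.Hom.comp_appTop, H.w]

include H in
/-- For a flat `R`-scheme `X` over an integrally closed domain whose global functions are integral
over `R` and whose generic fibre has only constant global functions, `R → Γ(X, O_X)` is bijective. -/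
theorem appTop_bijective_of_model [IsIntegrallyClosed R] [Flat p]
    (hint : p.appTop.hom.IsIntegral) (hf : IsIso f.appTop) :
    Function.Bijective p.appTop.hom := by
  have hginj := appTop_injective_of_flat_generic R K p f g H
  have hcomm := appTop_comm R K p f g H
  have hcomm' : ∀ r, g.appTop.hom (p.appTop.hom r) =
      f.appTop.hom ((Spec.map (CommRingCat.ofHom (algebraMap R K))).appTop.hom r) := fun r =>
    congrArg (fun ψ => ψ.hom r) hcomm
  have hfbij : Function.Bijective f.appTop.hom := ConcreteCategory.bijective_of_isIso f.appTop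
  set ι := (Spec.map (CommRingCat.ofHom (algebraMap R K))).appTop with hι
  have hιnat : ι ≫ (Scheme.ΓSpecIso (CommRingCat.of K)).hom =
      (Scheme.ΓSpecIso (CommRingCat.of R)).hom ≫ CommRingCat.ofHom (algebraMap R K) :=
    Scheme.ΓSpecIso_naturality _
  have hιnat' : ∀ r, (Scheme.ΓSpecIso (CommRingCat.of K)).hom.hom (ι.hom r) =
      algebraMap R K ((Scheme.ΓSpecIso (CommRingCat.of R)).hom.hom r) := fun r =>
    congrArg (fun ψ => ψ.hom r) hιnat
  have hιinj : Function.Injective ι.hom := by
    intro r r' hrr'
    have h1 := congrArg (Scheme.ΓSpecIso (CommRingCat.of K)).hom.hom hrr'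
    rw [hιnat', hιnat'] at h1
    exact (ConcreteCategory.bijective_of_isIso (Scheme.ΓSpecIso (CommRingCat.of R)).hom).1
      (IsFractionRing.injective R K h1)
  constructor
  · intro r r' hrr'
    have h1 := congrArg g.appTop.hom hrr'
    rw [hcomm', hcomm'] at h1
    exact hιinj (hfbij.1 h1)
  · intro a
    obtain ⟨k, hk⟩ := hfbij.2 (g.appTop.hom a)
    obtain ⟨P, hPm, hP0⟩ := hint a
    -- `k` is integral over `Γ(Spec R)`
    have h1 : Polynomial.eval₂ ι.hom k P = 0 := by
      apply hfbij.1
      rw [Polynomial.hom_eval₂, map_zero, hk]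
      have h2 : f.appTop.hom.comp ι.hom = g.appTop.hom.comp p.appTop.hom := by
        ext r; exact (hcomm' r).symm
      rw [h2, ← Polynomial.hom_eval₂, hP0, map_zero]
    set eR := (Scheme.ΓSpecIso (CommRingCat.of R)).hom.hom with heR
    set eK := (Scheme.ΓSpecIso (CommRingCat.of K)).hom.hom with heK
    have h3 : IsIntegral R (eK k) := by
      refine ⟨P.map eR, hPm.map _, ?_⟩
      rw [Polynomial.eval₂_map]
      have h4 : (algebraMap R K).comp eR = eK.comp ι.hom := by
        ext r; exact (hιnat' r).symm
      rw [h4, ← Polynomial.hom_eval₂, h1, map_zero]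
    obtain ⟨r, hr⟩ := IsIntegrallyClosed.isIntegral_iff.mp h3
    obtain ⟨r', hr'⟩ :=
      (ConcreteCategory.bijective_of_isIso (Scheme.ΓSpecIso (CommRingCat.of R)).hom).2 r
    refine ⟨r', hginj ?_⟩
    rw [hcomm', ← hk]
    congr 1
    apply (ConcreteCategory.bijective_of_isIso (Scheme.ΓSpecIso (CommRingCat.of K)).hom).1
    show eK (ι.hom r') = eK k
    rw [hιnat']
    show algebraMap R K (eR r') = eK k
    rw [← hr]
    congr 1

end Model

section DVR

open Groth.Agent.Lib.Helper4.ProperPush1 in
/-- **S2209**: the special fibre of a proper flat model of a curve with `H⁰(C, O_C) = K` is connected -/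
theorem connectedSpace_specialFibre (R : Type u) [CommRing R] [IsDomain R]
    [IsDiscreteValuationRing R] (C X : Scheme.{u})
    (f : C ⟶ Spec (CommRingCat.of (FractionRing R))) (p : X ⟶ Spec (CommRingCat.of R))
    [Nonempty C] (hH0 : IsIso f.appTop) [Flat p] [IsProper p] (g : C ⟶ X)
    (H : IsPullback g f p (Spec.map (CommRingCat.ofHom (algebraMap R (FractionRing R))))) :
    ConnectedSpace ↥(Models.specialFibre R X p) := by
  have hbij := appTop_bijective_of_model R (FractionRing R) p f g H
    (isIntegral_app_of_isProper p ⊤ (isAffineOpen_top _)) hH0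
  have hpre : _root_.IsPreconnected (p ⁻¹' {IsLocalRing.closedPoint R}) :=
    isPreconnected_preimage_closedPoint (A := R) p hbij.2
  -- the closed fibre is nonempty
  have hne : ∃ x : X, p x = IsLocalRing.closedPoint R := by
    obtain ⟨c⟩ := ‹Nonempty C›
    have hcl : IsClosed (Set.range p) := p.isClosedMap.isClosed_range
    have h1 : p (g c) ⤳ IsLocalRing.closedPoint R := IsLocalRing.specializes_closedPoint _
    have h2 : IsLocalRing.closedPoint R ∈ closure {p (g c)} := specializes_iff_mem_closure.mp h1
    exact hcl.closure_subset_iff.mpr (Set.singleton_subset_iff.mpr ⟨_, rfl⟩) h2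
  -- the special fibre as a closed subspace of `X`
  have hsurj : Function.Surjective (algebraMap R (IsLocalRing.ResidueField R)) :=
    IsLocalRing.residue_surjective
  haveI hci : IsClosedImmersion
      (Spec.map (CommRingCat.ofHom (algebraMap R (IsLocalRing.ResidueField R)))) :=
    IsClosedImmersion.spec_of_surjective _ hsurj
  have hrange_i : Set.range (Spec.map (CommRingCat.ofHom
      (algebraMap R (IsLocalRing.ResidueField R)))) = {IsLocalRing.closedPoint R} := by
    have h1 := range_comap_of_surjective _
      (algebraMap R (IsLocalRing.ResidueField R)) hsurj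
    have h2 : RingHom.ker (algebraMap R (IsLocalRing.ResidueField R)) =
        IsLocalRing.maximalIdeal R := IsLocalRing.ker_residue
    rw [h2, zeroLocus_maximalIdeal] at h1
    exact h1
  have hrange : Set.range (pullback.fst p (Spec.map (CommRingCat.ofHom
      (algebraMap R (IsLocalRing.ResidueField R))))) = p ⁻¹' {IsLocalRing.closedPoint R} := by
    rw [Scheme.Pullback.range_fst, hrange_i]
  have hemb : Topology.IsInducing (pullback.fst p (Spec.map (CommRingCat.ofHom
      (algebraMap R (IsLocalRing.ResidueField R))))) :=
    (Scheme.Hom.isClosedEmbedding _).isInducing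
  have hpre' : _root_.IsPreconnected (Set.univ : Set ↥(Models.specialFibre R X p)) := by
    show _root_.IsPreconnected (Set.univ : Set ↥(pullback p (Spec.map (CommRingCat.ofHom
      (algebraMap R (IsLocalRing.ResidueField R))))))
    rw [← hemb.isPreconnected_image, Set.image_univ, hrange]
    exact hpre
  haveI : PreconnectedSpace ↥(Models.specialFibre R X p) := ⟨hpre'⟩
  obtain ⟨x, hx⟩ := hne
  have hx' : x ∈ Set.range (pullback.fst p (Spec.map (CommRingCat.ofHom
      (algebraMap R (IsLocalRing.ResidueField R))))) := by
    rw [hrange]; exact hx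
  obtain ⟨x₁, -⟩ := hx'
  haveI : Nonempty ↥(Models.specialFibre R X p) := ⟨x₁⟩
  exact ConnectedSpace.mk inferInstance

open Groth.Agent.Lib.Helper4.ProperPush1 in
/-- **S18427**: a proper flat model over a DVR of a scheme with only constant global functions has
geometrically connected fibres -/
theorem geometricallyConnected_model (R : Type u) [CommRing R] [IsDomain R]
    [IsDiscreteValuationRing R] (C X : Scheme.{u})
    (f : C ⟶ Spec (CommRingCat.of (FractionRing R))) (p : X ⟶ Spec (CommRingCat.of R))
    (hH0 : IsIso f.appTop) [Flat p] [IsProper p] (g : C ⟶ X)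
    (H : IsPullback g f p (Spec.map (CommRingCat.ofHom (algebraMap R (FractionRing R))))) :
    GeometricallyConnected p := by
  have hbij := appTop_bijective_of_model R (FractionRing R) p f g H
    (isIntegral_app_of_isProper p ⊤ (isAffineOpen_top _)) hH0
  have hiso : IsIso (p.app ⊤) := (ConcreteCategory.isIso_iff_bijective _).mpr hbij
  apply geometricallyConnected_of_isIso_app p
  intro U
  exact isIso_app_of_le p ⊤ (fun W hW _ =>
    isIso_app_of_le_affine p ⊤ (isAffineOpen_top _) hiso W hW le_top) U le_top

end DVR

end Groth.Agent.Helper7.GeomConn.ZC
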