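import Mathlib

set_option autoImplicit false
set_option linter.style.haveILetI false
set_option linter.unusedVariables false
set_option linter.unusedSectionVars false

universe u

/-! helper7: idempotents under a finite Galois group action: orbit decomposition and fixed-field homomorphism -/

open scoped Classical

namespace Groth.Agent.Helper7.GeomConn

section Prod

variable {B : Type*} [CommRing B] {G : Type*} [Group G] [Fintype G]

/-- product of a family of idempotents over a finset is idempotent -/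
theorem isIdempotentElem_prod {ι : Type*} (a : ι → B) (ha : ∀ i, IsIdempotentElem (a i))
    (S : Finset ι) : IsIdempotentElem (∏ i ∈ S, a i) := by
  unfold IsIdempotentElem
  rw [← Finset.prod_mul_distrib]
  exact Finset.prod_congr rfl fun i _ => ha i

theorem prod_mul_prod_of_subset {ι : Type*} (a : ι → B) (ha : ∀ i, IsIdempotentElem (a i))
    {S T : Finset ι} (h : T ⊆ S) : (∏ i ∈ S, a i) * (∏ i ∈ T, a i) = ∏ i ∈ S, a i := by
  rw [← Finset.prod_sdiff h]
  have := isIdempotentElem_prod a ha T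
  unfold IsIdempotentElem at this
  rw [mul_assoc, this]

theorem prod_mul_prod_eq_union {ι : Type*} (a : ι → B) (ha : ∀ i, IsIdempotentElem (a i))
    (S T : Finset ι) : (∏ i ∈ S, a i) * (∏ i ∈ T, a i) = ∏ i ∈ S ∪ T, a i := by
  rw [← Finset.prod_union_inter]
  exact prod_mul_prod_of_subset a ha
    (Finset.inter_subset_left.trans Finset.subset_union_left)

end Prod

section Orbit

variable {B : Type*} [CommRing B] {G : Type*} [Group G] [Fintype G]
  (ρ : G →* (B →+* B))

theorem rho_mul_apply (σ τ : G) (b : B) : ρ (σ * τ) b = ρ σ (ρ τ b) := by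
  rw [map_mul]; rfl

theorem rho_one_apply (b : B) : ρ 1 b = b := by
  rw [map_one]; rfl

theorem rho_inv_apply (σ : G) (b : B) : ρ σ⁻¹ (ρ σ b) = b := by
  rw [← rho_mul_apply, inv_mul_cancel, rho_one_apply]

theorem rho_injective (σ : G) : Function.Injective (ρ σ) := by
  intro a b h
  have := congrArg (ρ σ⁻¹) h
  rwa [rho_inv_apply, rho_inv_apply] at this

theorem rho_out (H : Subgroup G) (b : B) (hb : ∀ σ ∈ H, ρ σ b = b) (g : G) :
    ρ (QuotientGroup.mk (s := H) g).out b = ρ g b := by
  obtain ⟨h, hh⟩ := QuotientGroup.mk_out_eq_mul H g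
  rw [hh, rho_mul_apply, hb _ h.2]

theorem rho_orth (H : Subgroup G) (f : B) (hfnH : ∀ σ, σ ∉ H → ρ σ f * f = 0)
    (q q' : G ⧸ H) (hne : q ≠ q') : ρ q.out f * ρ q'.out f = 0 := by
  have hnot : (q.out)⁻¹ * q'.out ∉ H := by
    intro hmem
    apply hne
    have : (QuotientGroup.mk (s := H) q.out) = QuotientGroup.mk q'.out :=
      QuotientGroup.eq.mpr hmem
    rwa [QuotientGroup.out_eq', QuotientGroup.out_eq'] at this
  have h0 := hfnH _ hnot
  have : ρ q.out f * ρ q'.out f = ρ q.out (f * ρ ((q.out)⁻¹ * q'.out) f) := by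
    rw [map_mul, ← rho_mul_apply]
    congr 2
    group
  rw [this, mul_comm f, h0, map_zero]

theorem smul_eq_mk_mul_out (H : Subgroup G) (τ : G) (q : G ⧸ H) :
    τ • q = QuotientGroup.mk (s := H) (τ * q.out) := by
  conv_lhs => rw [← QuotientGroup.out_eq' q]
  rfl

/-- Key lemma: given a nonzero idempotent `e` in a ring with a finite group action whose only
invariant idempotents are `0, 1`, there are a subgroup `H` and an idempotent `f ≤ e` whose
`G`-conjugates form a complete orthogonal system indexed by `G ⧸ H`. -/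
theorem exists_subgroup_idem
    (hinv : ∀ e : B, IsIdempotentElem e → (∀ σ, ρ σ e = e) → e = 0 ∨ e = 1)
    (e : B) (he : IsIdempotentElem e) (he0 : e ≠ 0) :
    ∃ (H : Subgroup G) (f : B), IsIdempotentElem f ∧ f ≠ 0 ∧ f * e = f ∧
      (∀ σ ∈ H, ρ σ f = f) ∧ (∀ σ, σ ∉ H → ρ σ f * f = 0) ∧
      (∑ q : G ⧸ H, ρ q.out f = 1) := by
  let a : G → B := fun σ => ρ σ e
  have ha : ∀ σ, IsIdempotentElem (a σ) := fun σ => he.map (ρ σ)
  let P : Finset G → B := fun S => ∏ σ ∈ S, a σ
  -- the family of admissible subsets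
  let 𝒯 : Finset (Finset G) := Finset.univ.filter fun S => (1 : G) ∈ S ∧ P S ≠ 0
  have h𝒯 : 𝒯.Nonempty := by
    refine ⟨{1}, ?_⟩
    rw [Finset.mem_filter]
    refine ⟨Finset.mem_univ _, Finset.mem_singleton_self _, ?_⟩
    show ∏ σ ∈ ({1} : Finset G), a σ ≠ 0
    rw [Finset.prod_singleton]
    show ρ 1 e ≠ 0
    rw [rho_one_apply]; exact he0
  obtain ⟨S, hS𝒯, hSmax⟩ := Finset.exists_max_image 𝒯 Finset.card h𝒯
  simp only [𝒯, Finset.mem_filter, Finset.mem_univ, true_and] at hS𝒯 hSmax
  obtain ⟨h1S, hPS⟩ := hS𝒯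
  let f := P S
  have hf : IsIdempotentElem f := isIdempotentElem_prod a ha S
  -- translation
  have htr : ∀ τ : G, ρ τ f = P (S.image (τ * ·)) := by
    intro τ
    show ρ τ (∏ σ ∈ S, a σ) = ∏ σ ∈ S.image (τ * ·), a σ
    rw [map_prod, Finset.prod_image (fun x _ y _ h => mul_left_cancel h)]
    refine Finset.prod_congr rfl fun σ _ => ?_
    show ρ τ (ρ σ e) = ρ (τ * σ) e
    rw [rho_mul_apply]
  let H : Subgroup G :=
    { carrier := {τ | S.image (τ * ·) = S}
      one_mem' := by
        show S.image ((1 : G) * ·) = S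
        simp
      mul_mem' := by
        intro x y hx hy
        show S.image ((x * y) * ·) = S
        have : S.image ((x * y) * ·) = (S.image (y * ·)).image (x * ·) := by
          rw [Finset.image_image]
          refine Finset.image_congr ?_
          intro z _
          simp [mul_assoc]
        rw [this, hy, hx]
      inv_mem' := by
        intro x hx
        show S.image (x⁻¹ * ·) = S
        have hx' : S.image (x * ·) = S := hx
        conv_lhs => rw [← hx']
        rw [Finset.image_image]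
        convert Finset.image_id using 1
        · refine Finset.image_congr ?_
          intro z _
          simp }
  have hHmem : ∀ τ, τ ∈ H ↔ S.image (τ * ·) = S := fun τ => Iff.rfl
  have hfH : ∀ σ ∈ H, ρ σ f = f := by
    intro σ hσ
    rw [htr σ, (hHmem σ).mp hσ]
  have hfnH : ∀ σ, σ ∉ H → ρ σ f * f = 0 := by
    intro σ hσ
    rw [htr σ]
    show P (S.image (σ * ·)) * P S = 0
    rw [show P (S.image (σ * ·)) * P S = P (S.image (σ * ·) ∪ S) from
      prod_mul_prod_eq_union a ha _ _]
    by_contra hne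
    have h1 : (1 : G) ∈ S.image (σ * ·) ∪ S := Finset.mem_union_right _ h1S
    have hcard := hSmax _ ⟨h1, hne⟩
    -- card (image ∪ S) ≤ card S forces image ⊆ S hence = S
    have hsub : S ⊆ S.image (σ * ·) ∪ S := Finset.subset_union_right
    have heq : S.image (σ * ·) ∪ S = S := by
      symm
      exact Finset.eq_of_subset_of_card_le hsub hcard
    have himg : S.image (σ * ·) ⊆ S := by
      intro x hx
      rw [← heq]; exact Finset.mem_union_left _ hx
    have hcardimg : (S.image (σ * ·)).card = S.card :=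
      Finset.card_image_of_injective _ (fun x y h => mul_left_cancel h)
    have : S.image (σ * ·) = S := Finset.eq_of_subset_of_card_le himg (by rw [hcardimg])
    exact hσ ((hHmem σ).mpr this)
  have hfe : f * e = f := by
    show P S * e = P S
    have h1 : P ({1} : Finset G) = e := by
      show ∏ σ ∈ ({1} : Finset G), a σ = e
      rw [Finset.prod_singleton]
      show ρ 1 e = e
      exact rho_one_apply ρ e
    rw [← h1]
    exact prod_mul_prod_of_subset a ha (Finset.singleton_subset_iff.mpr h1S)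
  -- the function on the quotient
  have hwd : ∀ g₁ g₂ : G, g₁⁻¹ * g₂ ∈ H → ρ g₁ f = ρ g₂ f := by
    intro g₁ g₂ h
    have : g₂ = g₁ * (g₁⁻¹ * g₂) := by group
    rw [this, rho_mul_apply, hfH _ h]
  have hout : ∀ g : G, ρ (QuotientGroup.mk (s := H) g).out f = ρ g f := by
    intro g
    apply hwd
    have := QuotientGroup.mk_out_eq_mul H g
    obtain ⟨h, hh⟩ := this
    rw [hh]
    simp
  let s : B := ∑ q : G ⧸ H, ρ q.out f
  have horth : ∀ q q' : G ⧸ H, q ≠ q' → ρ q.out f * ρ q'.out f = 0 := by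
    intro q q' hne
    have hnot : (q.out)⁻¹ * q'.out ∉ H := by
      intro hmem
      apply hne
      have : (QuotientGroup.mk (s := H) q.out) = QuotientGroup.mk q'.out :=
        QuotientGroup.eq.mpr hmem
      rwa [QuotientGroup.out_eq', QuotientGroup.out_eq'] at this
    have h0 := hfnH _ hnot
    have : ρ q.out f * ρ q'.out f = ρ q.out (f * ρ ((q.out)⁻¹ * q'.out) f) := by
      rw [map_mul, ← rho_mul_apply]
      congr 2
      group
    rw [this, mul_comm f, h0, map_zero]
  have hs_idem : IsIdempotentElem s := by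
    unfold IsIdempotentElem
    show (∑ q : G ⧸ H, ρ q.out f) * (∑ q : G ⧸ H, ρ q.out f) = ∑ q : G ⧸ H, ρ q.out f
    rw [Finset.sum_mul_sum]
    refine Finset.sum_congr rfl fun q _ => ?_
    rw [Finset.sum_eq_single q]
    · exact (hf.map (ρ q.out))
    · intro q' _ hne
      exact horth q q' (Ne.symm hne)
    · intro h; exact absurd (Finset.mem_univ q) h
  have hs_inv : ∀ τ, ρ τ s = s := by
    intro τ
    show ρ τ (∑ q : G ⧸ H, ρ q.out f) = ∑ q : G ⧸ H, ρ q.out f
    rw [map_sum]
    refine Fintype.sum_equiv (MulAction.toPerm τ) _ _ ?_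
    intro q
    show ρ τ (ρ q.out f) = ρ (τ • q).out f
    rw [← rho_mul_apply]
    have : τ • q = QuotientGroup.mk (s := H) (τ * q.out) := by
      conv_lhs => rw [← QuotientGroup.out_eq' q]
      rfl
    rw [this, hout]
  have hs_ne : s ≠ 0 := by
    intro h0
    have : s * f = f := by
      show (∑ q : G ⧸ H, ρ q.out f) * f = f
      rw [Finset.sum_mul, Finset.sum_eq_single (QuotientGroup.mk (s := H) 1)]
      · rw [hout, rho_one_apply]; exact hf
      · intro q _ hne
        have h1 : ρ (QuotientGroup.mk (s := H) (1 : G)).out f = f := by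
          rw [hout, rho_one_apply]
        have := horth q _ hne
        rwa [h1] at this
      · intro h; exact absurd (Finset.mem_univ _) h
    rw [h0, zero_mul] at this
    exact hPS this.symm
  have hs1 : s = 1 := (hinv s hs_idem hs_inv).resolve_left hs_ne
  exact ⟨H, f, hf, hPS, hfe, hfH, hfnH, hs1⟩

end Orbit

end Groth.Agent.Helper7.GeomConn

namespace Groth.Agent.Helper7.GeomConn

section Field

variable {L E : Type u} [Field L] [Field E] [Algebra L E] [FiniteDimensional L E]
  {B : Type*} [CommRing B] (β : E →+* B) (ρ : (E ≃ₐ[L] E) →* (B →+* B))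

/-- From a complete orthogonal system of conjugate idempotents indexed by `G ⧸ H`, build a ring
homomorphism from the fixed field of `H` to the invariants of `B`. -/
theorem exists_ringHom_fixedField
    (hβ : ∀ (σ : E ≃ₐ[L] E) (c : E), ρ σ (β c) = β (σ c))
    (H : Subgroup (E ≃ₐ[L] E)) (f : B) (hf : IsIdempotentElem f)
    (hfH : ∀ σ ∈ H, ρ σ f = f) (hfnH : ∀ σ, σ ∉ H → ρ σ f * f = 0)
    (hsum : ∑ q : (E ≃ₐ[L] E) ⧸ H, ρ q.out f = 1) :
    ∃ φ : ↥(IntermediateField.fixedField H) →+* B,
      (∀ c τ, ρ τ (φ c) = φ c) ∧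
      (∀ c : L, φ (algebraMap L _ c) = β (algebraMap L E c)) := by
  let F := IntermediateField.fixedField H
  have hcH : ∀ (c : F) (σ : E ≃ₐ[L] E), σ ∈ H → σ (c : E) = c := by
    intro c σ hσ
    exact c.2 ⟨σ, hσ⟩
  have hbH : ∀ (c : F) (σ : E ≃ₐ[L] E), σ ∈ H → ρ σ (β c * f) = β c * f := by
    intro c σ hσ
    rw [map_mul, hβ, hcH c σ hσ, hfH σ hσ]
  let φ₀ : F → B := fun c => ∑ q : (E ≃ₐ[L] E) ⧸ H, ρ q.out (β c * f)
  have hone : φ₀ 1 = 1 := by
    show ∑ q : (E ≃ₐ[L] E) ⧸ H, ρ q.out (β ((1 : F) : E) * f) = 1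
    rw [← hsum]
    refine Finset.sum_congr rfl fun q _ => ?_
    simp
  have hmul : ∀ c d : F, φ₀ (c * d) = φ₀ c * φ₀ d := by
    intro c d
    show ∑ q : (E ≃ₐ[L] E) ⧸ H, ρ q.out (β ((c * d : F) : E) * f) =
      (∑ q : (E ≃ₐ[L] E) ⧸ H, ρ q.out (β c * f)) * ∑ q : (E ≃ₐ[L] E) ⧸ H, ρ q.out (β d * f)
    rw [Finset.sum_mul_sum]
    refine Finset.sum_congr rfl fun q _ => ?_
    rw [Finset.sum_eq_single q]
    · rw [← map_mul]
      congr 1
      have : ((c * d : F) : E) = (c : E) * (d : E) := rfl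
      rw [this, map_mul]
      have hff : f * f = f := hf
      calc β c * β d * f = β c * β d * (f * f) := by rw [hff]
        _ = β c * f * (β d * f) := by ring
    · intro q' _ hne
      rw [map_mul, map_mul]
      have := rho_orth ρ H f hfnH q q' (Ne.symm hne)
      calc ρ q.out (β c) * ρ q.out f * (ρ q'.out (β d) * ρ q'.out f)
          = ρ q.out (β c) * ρ q'.out (β d) * (ρ q.out f * ρ q'.out f) := by ring
        _ = 0 := by rw [this, mul_zero]
    · intro h; exact absurd (Finset.mem_univ q) h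
  have hzero : φ₀ 0 = 0 := by
    show ∑ q : (E ≃ₐ[L] E) ⧸ H, ρ q.out (β ((0 : F) : E) * f) = 0
    refine Finset.sum_eq_zero fun q _ => ?_
    simp
  have hadd : ∀ c d : F, φ₀ (c + d) = φ₀ c + φ₀ d := by
    intro c d
    show ∑ q : (E ≃ₐ[L] E) ⧸ H, ρ q.out (β ((c + d : F) : E) * f) =
      (∑ q : (E ≃ₐ[L] E) ⧸ H, ρ q.out (β c * f)) + ∑ q : (E ≃ₐ[L] E) ⧸ H, ρ q.out (β d * f)
    rw [← Finset.sum_add_distrib]
    refine Finset.sum_congr rfl fun q _ => ?_
    rw [← map_add]
    congr 1
    have : ((c + d : F) : E) = (c : E) + (d : E) := rfl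
    rw [this, map_add, add_mul]
  let φ : F →+* B :=
    { toFun := φ₀
      map_one' := hone
      map_mul' := hmul
      map_zero' := hzero
      map_add' := hadd }
  refine ⟨φ, ?_, ?_⟩
  · intro c τ
    show ρ τ (∑ q : (E ≃ₐ[L] E) ⧸ H, ρ q.out (β c * f)) =
      ∑ q : (E ≃ₐ[L] E) ⧸ H, ρ q.out (β c * f)
    rw [map_sum]
    refine Fintype.sum_equiv (MulAction.toPerm τ) _ _ ?_
    intro q
    show ρ τ (ρ q.out (β c * f)) = ρ (τ • q).out (β c * f)
    rw [← rho_mul_apply, smul_eq_mk_mul_out, rho_out ρ H _ (hbH c)]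
  · intro c
    show ∑ q : (E ≃ₐ[L] E) ⧸ H, ρ q.out (β ((algebraMap L F c : F) : E) * f) =
      β (algebraMap L E c)
    have h1 : ((algebraMap L F c : F) : E) = algebraMap L E c := rfl
    have h2 : ∀ q : (E ≃ₐ[L] E) ⧸ H, ρ q.out (β (algebraMap L E c) * f) =
        β (algebraMap L E c) * ρ q.out f := by
      intro q
      rw [map_mul, hβ, AlgEquiv.commutes]
    rw [h1]
    simp_rw [h2]
    rw [← Finset.mul_sum, hsum, mul_one]

end Field

end Groth.Agent.Helper7.GeomConn

namespace Groth.Agent.Helper7.GeomConn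

section Main

variable {L E : Type u} [Field L] [Field E] [Algebra L E] [FiniteDimensional L E] [IsGalois L E]
  {A B : Type u} [CommRing A] [CommRing B]

/-- Main algebraic statement: a ring `B` with a semilinear action of a finite Galois group whose
invariants are a ring `A` without nontrivial idempotents in which `L` is "separably closed"
has no nontrivial idempotents. -/
theorem idempotent_trivial_of_max
    (α : A →+* B) (hα : Function.Injective α) (β : E →+* B) (ι : L →+* A)
    (hιβ : ∀ c : L, α (ι c) = β (algebraMap L E c))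
    (ρ : (E ≃ₐ[L] E) →* (B →+* B))
    (hβ : ∀ (σ : E ≃ₐ[L] E) (c : E), ρ σ (β c) = β (σ c))
    (hρα : ∀ (σ : E ≃ₐ[L] E) (a : A), ρ σ (α a) = α a)
    (hinvB : ∀ b : B, (∀ σ, ρ σ b = b) → ∃ a : A, α a = b)
    (hA : ∀ a : A, IsIdempotentElem a → a = 0 ∨ a = 1)
    (hmax : ∀ (L₁ : Type u) [Field L₁] [Algebra L L₁] [FiniteDimensional L L₁]
      [Algebra.IsSeparable L L₁] (ψ : L₁ →+* A), (∀ c, ψ (algebraMap L L₁ c) = ι c) →
      Function.Surjective (algebraMap L L₁))
    (e : B) (he : IsIdempotentElem e) : e = 0 ∨ e = 1 := by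
  have hinv : ∀ e : B, IsIdempotentElem e → (∀ σ, ρ σ e = e) → e = 0 ∨ e = 1 := by
    intro b hb hσ
    obtain ⟨a, rfl⟩ := hinvB b hσ
    have ha : IsIdempotentElem a := by
      apply hα
      rw [map_mul]; exact hb
    rcases hA a ha with h | h
    · left; rw [h, map_zero]
    · right; rw [h, map_one]
  by_cases he0 : e = 0
  · exact Or.inl he0
  right
  obtain ⟨H, f, hf, hf0, hfe, hfH, hfnH, hsum⟩ := exists_subgroup_idem ρ hinv e he he0
  obtain ⟨φ, hφinv, hφL⟩ := exists_ringHom_fixedField β ρ hβ H f hf hfH hfnH hsum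
  let F := IntermediateField.fixedField H
  have hex : ∀ c : F, ∃ a : A, α a = φ c := fun c => hinvB (φ c) (hφinv c)
  let ψ₀ : F → A := fun c => (hex c).choose
  have hψ₀ : ∀ c, α (ψ₀ c) = φ c := fun c => (hex c).choose_spec
  let ψ : F →+* A :=
    { toFun := ψ₀
      map_one' := hα (by rw [hψ₀, map_one, map_one])
      map_mul' := fun c d => hα (by rw [hψ₀, map_mul, map_mul, hψ₀, hψ₀])
      map_zero' := hα (by rw [hψ₀, map_zero, map_zero])
      map_add' := fun c d => hα (by rw [hψ₀, map_add, map_add, hψ₀, hψ₀]) }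
  have hψL : ∀ c : L, ψ (algebraMap L F c) = ι c := by
    intro c
    apply hα
    show α (ψ₀ (algebraMap L F c)) = α (ι c)
    rw [hψ₀, hφL, hιβ]
  have hsurj := hmax F ψ hψL
  have hFbot : F = ⊥ := by
    rw [eq_bot_iff]
    intro x hx
    obtain ⟨c, hc⟩ := hsurj ⟨x, hx⟩
    rw [IntermediateField.mem_bot]
    refine ⟨c, ?_⟩
    have := congrArg (fun y : F => (y : E)) hc
    exact this
  have hHtop : H = ⊤ := by
    have h1 := IntermediateField.fixingSubgroup_fixedField H
    rw [show IntermediateField.fixedField H = ⊥ from hFbot] at h1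
    rw [← h1]
    exact IntermediateField.fixingSubgroup_bot
  have hfinv : ∀ σ, ρ σ f = f := fun σ => hfH σ (by rw [hHtop]; trivial)
  have hf1 : f = 1 := (hinv f hf hfinv).resolve_left hf0
  rw [hf1, one_mul] at hfe
  exact hfe

end Main

end Groth.Agent.Helper7.GeomConn
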