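import Mathlib

set_option autoImplicit false
set_option linter.style.haveILetI false
set_option linter.unusedVariables false
set_option linter.unusedSectionVars false

universe u

/-! helper7: Galois invariants of a tensor product / pushout of rings -/

open scoped Classical TensorProduct
open CategoryTheory

namespace Groth.Agent.Helper7.GeomConn

section Tensor

variable {L E : Type u} [Field L] [Field E] [Algebra L E] [FiniteDimensional L E] [IsGalois L E]
  {R : Type u} [CommRing R] [Algebra L R]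

/-- coefficients w.r.t. a basis of the left factor transform by `σ` under `id ⊗ σ` -/
theorem equiv_map_eq {ι : Type*} (𝔟 : Module.Basis ι L R) (σ : E ≃ₐ[L] E) (t : R ⊗[L] E) (i : ι) :
    TensorProduct.equivFinsuppOfBasisLeft 𝔟
      (Algebra.TensorProduct.map (AlgHom.id L R) (σ : E →ₐ[L] E) t) i =
    σ (TensorProduct.equivFinsuppOfBasisLeft 𝔟 t i) := by
  induction t using TensorProduct.induction_on with
  | zero => simp
  | tmul m n =>
    rw [Algebra.TensorProduct.map_tmul]
    rw [TensorProduct.equivFinsuppOfBasisLeft_apply_tmul_apply,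
      TensorProduct.equivFinsuppOfBasisLeft_apply_tmul_apply]
    simp
  | add x y hx hy =>
    rw [map_add, map_add, map_add, Finsupp.add_apply, Finsupp.add_apply, hx, hy, map_add]

/-- Galois descent for elements of a tensor product: invariants of `R ⊗ E` are `R`. -/
theorem exists_tmul_one_of_invariant (t : R ⊗[L] E)
    (ht : ∀ σ : E ≃ₐ[L] E, Algebra.TensorProduct.map (AlgHom.id L R) (σ : E →ₐ[L] E) t = t) :
    ∃ r : R, r ⊗ₜ[L] (1 : E) = t := by
  let 𝔟 := Module.Free.chooseBasis L R
  let eqv := TensorProduct.equivFinsuppOfBasisLeft (N := E) 𝔟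
  have hfix : ∀ i, ∀ σ : E ≃ₐ[L] E, σ (eqv t i) = eqv t i := by
    intro i σ
    rw [← equiv_map_eq 𝔟 σ t i, ht σ]
  have hex : ∀ i, ∃ l : L, algebraMap L E l = eqv t i := fun i =>
    (IsGalois.mem_range_algebraMap_iff_fixed (eqv t i)).mpr (hfix i)
  let l : _ → L := fun i => (hex i).choose
  have hl : ∀ i, algebraMap L E (l i) = eqv t i := fun i => (hex i).choose_spec
  refine ⟨∑ i ∈ (eqv t).support, l i • 𝔟 i, ?_⟩
  have h1 : t = eqv.symm (eqv t) := (eqv.symm_apply_apply t).symm
  have h2 : eqv.symm (eqv t) = (eqv t).sum fun i n => 𝔟 i ⊗ₜ[L] n := by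
    have := TensorProduct.equivFinsuppOfBasisLeft_symm (N := E) 𝔟
    have h3 := congrArg (fun φ : (_ →₀ E) →ₗ[L] R ⊗[L] E => φ (eqv t)) this
    simp only [LinearEquiv.coe_coe] at h3
    rw [h3, Finsupp.lsum_apply]
    rfl
  conv_rhs => rw [h1, h2]
  rw [Finsupp.sum, TensorProduct.sum_tmul]
  refine Finset.sum_congr rfl fun i _ => ?_
  rw [← hl i, Algebra.algebraMap_eq_smul_one, TensorProduct.smul_tmul]

end Tensor

section Pushout

variable {L E : Type u} [Field L] [Field E] [Algebra L E] [FiniteDimensional L E] [IsGalois L E]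
  {R B : Type u} [CommRing R] [CommRing B]

/-- Invariants in a pushout `R ⊗_L E ≅ B`: injectivity and descent of invariant elements. -/
theorem pushout_invariants (a : L →+* R) (α : R →+* B) (β : E →+* B)
    (hPO : IsPushout (CommRingCat.ofHom a) (CommRingCat.ofHom (algebraMap L E))
      (CommRingCat.ofHom α) (CommRingCat.ofHom β))
    (ρ : (E ≃ₐ[L] E) → (B →+* B))
    (hρα : ∀ σ r, ρ σ (α r) = α r) (hρβ : ∀ σ c, ρ σ (β c) = β (σ c)) :
    Function.Injective α ∧ ∀ b : B, (∀ σ, ρ σ b = b) → ∃ r : R, α r = b := by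
  letI : Algebra L R := a.toAlgebra
  have hT := CommRingCat.isPushout_tensorProduct L R E
  have ha : CommRingCat.ofHom (algebraMap L R) = CommRingCat.ofHom a := rfl
  rw [ha] at hT
  let θiso := hT.isoIsPushout _ _ hPO
  let θ : R ⊗[L] E →+* B := θiso.hom.hom
  have hθl : ∀ r : R, θ (r ⊗ₜ 1) = α r := by
    intro r
    have := hT.inl_isoIsPushout_hom _ _ hPO
    exact congrArg (fun φ : CommRingCat.of R ⟶ CommRingCat.of B => φ.hom r) this
  have hθr : ∀ c : E, θ (1 ⊗ₜ c) = β c := by
    intro c
    have := hT.inr_isoIsPushout_hom _ _ hPO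
    exact congrArg (fun φ : CommRingCat.of E ⟶ CommRingCat.of B => φ.hom c) this
  have hθbij : Function.Bijective θ := by
    have : IsIso θiso.hom := inferInstance
    exact ConcreteCategory.bijective_of_isIso θiso.hom
  have hθtmul : ∀ (r : R) (c : E), θ (r ⊗ₜ c) = α r * β c := by
    intro r c
    have : r ⊗ₜ[L] c = (r ⊗ₜ 1) * (1 ⊗ₜ c) := by
      rw [Algebra.TensorProduct.tmul_mul_tmul, mul_one, one_mul]
    rw [this, map_mul, hθl, hθr]
  have hθσ : ∀ (σ : E ≃ₐ[L] E) (t : R ⊗[L] E),
      ρ σ (θ t) = θ (Algebra.TensorProduct.map (AlgHom.id L R) (σ : E →ₐ[L] E) t) := by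
    intro σ t
    induction t using TensorProduct.induction_on with
    | zero => simp
    | tmul r c =>
      rw [Algebra.TensorProduct.map_tmul, hθtmul, hθtmul, map_mul, hρα, hρβ]
      rfl
    | add x y hx hy => rw [map_add, map_add, map_add, map_add, hx, hy]
  refine ⟨?_, ?_⟩
  · intro r r' h
    have h1 : θ (r ⊗ₜ 1) = θ (r' ⊗ₜ 1) := by rw [hθl, hθl, h]
    have h2 := hθbij.1 h1
    have hinj : Function.Injective
        (Algebra.TensorProduct.includeLeft : R →ₐ[L] R ⊗[L] E) :=
      Algebra.TensorProduct.includeLeft_injective (algebraMap L E).injective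
    exact hinj h2
  · intro b hb
    obtain ⟨t, rfl⟩ := hθbij.2 b
    have ht : ∀ σ : E ≃ₐ[L] E,
        Algebra.TensorProduct.map (AlgHom.id L R) (σ : E →ₐ[L] E) t = t := by
      intro σ
      apply hθbij.1
      rw [← hθσ, hb σ]
    obtain ⟨r, hr⟩ := exists_tmul_one_of_invariant t ht
    exact ⟨r, by rw [← hθl, hr]⟩

end Pushout

end Groth.Agent.Helper7.GeomConn
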