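import Mathlib
import Groth.Agent.Lib.Helper7.GeomConn.GalIdem
import Groth.Agent.Lib.Helper7.GeomConn.TensorInv
import Groth.Agent.Lib.Helper7.GeomConn.SchemeGlue

set_option autoImplicit false
set_option linter.style.haveILetI false
set_option linter.unusedVariables false
set_option linter.unusedSectionVars false
set_option backward.isDefEq.respectTransparency.types false

universe u

/-! helper7: Galois action on a finite Galois base change; invariant global sections descend; connectedness of the base change under a maximality hypothesis -/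

open CategoryTheory AlgebraicGeometry TopologicalSpace Opposite Limits

namespace Groth.Agent.Helper7.GeomConn

section Act

variable {L E : Type u} [Field L] [Field E] [Algebra L E]
  {X : Scheme.{u}} (g : X ⟶ Spec (CommRingCat.of L))

/-- the structure morphism `Spec E ⟶ Spec L` -/
noncomputable abbrev sE (L E : Type u) [Field L] [Field E] [Algebra L E] :
    Spec (CommRingCat.of E) ⟶ Spec (CommRingCat.of L) :=
  Spec.map (CommRingCat.ofHom (algebraMap L E))

/-- the morphism of `Spec E` induced by an automorphism -/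
noncomputable abbrev specσ (σ : E ≃ₐ[L] E) : Spec (CommRingCat.of E) ⟶ Spec (CommRingCat.of E) :=
  Spec.map (CommRingCat.ofHom ((σ : E →ₐ[L] E) : E →+* E))

theorem specσ_sE (σ : E ≃ₐ[L] E) : specσ σ ≫ sE L E = sE L E := by
  rw [← Spec.map_comp, ← CommRingCat.ofHom_comp]
  congr 2
  ext c
  simp

/-- action of an automorphism on the base change -/
noncomputable def act (σ : E ≃ₐ[L] E) : pullback g (sE L E) ⟶ pullback g (sE L E) :=
  pullback.lift (pullback.fst _ _) (pullback.snd _ _ ≫ specσ σ) (by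
    rw [Category.assoc, specσ_sE, pullback.condition])

@[reassoc (attr := simp)]
theorem act_fst (σ : E ≃ₐ[L] E) : act g σ ≫ pullback.fst _ _ = pullback.fst _ _ :=
  pullback.lift_fst _ _ _

@[reassoc (attr := simp)]
theorem act_snd (σ : E ≃ₐ[L] E) : act g σ ≫ pullback.snd _ _ = pullback.snd _ _ ≫ specσ σ :=
  pullback.lift_snd _ _ _

theorem act_one : act g (1 : E ≃ₐ[L] E) = 𝟙 _ := by
  apply pullback.hom_ext
  · simp
  · rw [act_snd, Category.id_comp]
    have : specσ (1 : E ≃ₐ[L] E) = 𝟙 _ := by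
      show Spec.map (CommRingCat.ofHom (RingHom.id E)) = 𝟙 _
      rw [CommRingCat.ofHom_id, Spec.map_id]
    rw [this, Category.comp_id]

theorem act_mul (σ τ : E ≃ₐ[L] E) : act g (σ * τ) = act g σ ≫ act g τ := by
  apply pullback.hom_ext
  · simp
  · rw [act_snd, Category.assoc, act_snd, act_snd_assoc]
    congr 1
    show Spec.map (CommRingCat.ofHom (((σ * τ : E ≃ₐ[L] E) : E →ₐ[L] E) : E →+* E)) = _
    rw [← Spec.map_comp, ← CommRingCat.ofHom_comp]
    rfl

end Act

section Local

variable {L E : Type u} [Field L] [Field E] [Algebra L E]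
  {X : Scheme.{u}} (g : X ⟶ Spec (CommRingCat.of L))

theorem le_act_preimage (σ : E ≃ₐ[L] E) (W : X.Opens) :
    pullback.fst g (sE L E) ⁻¹ᵁ W ≤ act g σ ⁻¹ᵁ (pullback.fst g (sE L E) ⁻¹ᵁ W) := by
  rw [← Scheme.Hom.comp_preimage, act_fst]

/-- `L → Γ(X, W)` -/
noncomputable def aW (W : X.Opens) : CommRingCat.of L ⟶ Γ(X, W) :=
  (Scheme.ΓSpecIso (CommRingCat.of L)).inv ≫ g.appLE ⊤ W le_top

/-- `E → Γ(Y, q⁻¹ W)` -/
noncomputable def βW (W : X.Opens) :
    CommRingCat.of E ⟶ Γ(pullback g (sE L E), pullback.fst g (sE L E) ⁻¹ᵁ W) :=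
  (Scheme.ΓSpecIso (CommRingCat.of E)).inv ≫
    (pullback.snd g (sE L E)).appLE ⊤ (pullback.fst g (sE L E) ⁻¹ᵁ W) le_top

/-- `Γ(X, W) → Γ(Y, q⁻¹ W)` -/
noncomputable def αW (W : X.Opens) :
    Γ(X, W) ⟶ Γ(pullback g (sE L E), pullback.fst g (sE L E) ⁻¹ᵁ W) :=
  (pullback.fst g (sE L E)).app W

/-- the action on `Γ(Y, q⁻¹ W)` -/
noncomputable def ρW (σ : E ≃ₐ[L] E) (W : X.Opens) :
    Γ(pullback g (sE L E), pullback.fst g (sE L E) ⁻¹ᵁ W) ⟶
      Γ(pullback g (sE L E), pullback.fst g (sE L E) ⁻¹ᵁ W) :=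
  (act g σ).appLE _ _ (le_act_preimage g σ W)

theorem appLE_top_top' {X Y : Scheme.{u}} (f : X ⟶ Y) (h : (⊤ : X.Opens) ≤ f ⁻¹ᵁ ⊤) :
    f.appLE ⊤ ⊤ h = f.appTop := by
  simp [Scheme.Hom.appLE]

theorem isPushout_local (W : X.Opens) (hW : IsAffineOpen W) :
    IsPushout (aW g W) (CommRingCat.ofHom (algebraMap L E)) (αW g W) (βW (E := E) g W) := by
  have H : IsPullback (pullback.fst g (sE L E)) (pullback.snd g (sE L E)) g (sE L E) :=
    IsPullback.of_hasPullback g (sE L E)
  have hUY : pullback.fst g (sE L E) ⁻¹ᵁ W =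
      pullback.fst g (sE L E) ⁻¹ᵁ W ⊓ pullback.snd g (sE L E) ⁻¹ᵁ ⊤ := by
    ext y; simp
  have hiso := isIso_pushoutSection_of_isAffineOpen H (US := ⊤) (UT := ⊤) (UX := W)
    (UY := pullback.fst g (sE L E) ⁻¹ᵁ W) le_top le_top hUY (isAffineOpen_top _)
    (isAffineOpen_top _) hW
  have hPO := (isIso_pushoutSection_iff H (US := ⊤) (UT := ⊤) (UX := W)
    (UY := pullback.fst g (sE L E) ⁻¹ᵁ W) le_top le_top hUY).mp hiso
  refine hPO.of_iso (Scheme.ΓSpecIso _) (Iso.refl _) (Scheme.ΓSpecIso _) (Iso.refl _) ?_ ?_ ?_ ?_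
  · simp [aW]
  · rw [appLE_top_top']
    exact Scheme.ΓSpecIso_naturality _
  · simp only [Iso.refl_hom, Category.comp_id, Category.id_comp, αW]
    exact Scheme.Hom.appLE_eq_app _
  · simp [βW]

theorem αW_ρW (σ : E ≃ₐ[L] E) (W : X.Opens) : αW g W ≫ ρW g σ W = αW (E := E) g W := by
  unfold αW ρW
  rw [Scheme.Hom.app_eq_appLE, Scheme.Hom.appLE_comp_appLE]
  simp only [act_fst]

theorem βW_ρW (σ : E ≃ₐ[L] E) (W : X.Opens) :
    βW g W ≫ ρW g σ W =
      CommRingCat.ofHom ((σ : E →ₐ[L] E) : E →+* E) ≫ βW (E := E) g W := by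
  unfold βW ρW
  rw [Category.assoc, Scheme.Hom.appLE_comp_appLE]
  simp only [act_snd]
  rw [← Scheme.Hom.appLE_comp_appLE _ _ ⊤ ⊤ _ le_top le_top, appLE_top_top']
  rw [← Category.assoc, ← Category.assoc]
  congr 1
  exact (Scheme.ΓSpecIso_inv_naturality _).symm

end Local

section Global

variable {L E : Type u} [Field L] [Field E] [Algebra L E] [FiniteDimensional L E] [IsGalois L E]
  {X : Scheme.{u}} (g : X ⟶ Spec (CommRingCat.of L))

theorem local_invariants (W : X.Opens) (hW : IsAffineOpen W) :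
    Function.Injective (αW (E := E) g W).hom ∧
    ∀ b : Γ(pullback g (sE L E), pullback.fst g (sE L E) ⁻¹ᵁ W),
      (∀ σ : E ≃ₐ[L] E, (ρW g σ W).hom b = b) → ∃ a : Γ(X, W), (αW g W).hom a = b := by
  have hPO := isPushout_local (E := E) g W hW
  refine pushout_invariants (aW g W).hom (αW g W).hom (βW g W).hom hPO
    (fun σ => (ρW g σ W).hom) ?_ ?_
  · intro σ r
    have := αW_ρW g σ W
    exact congrArg (fun φ => φ.hom r) this
  · intro σ c
    have := βW_ρW g σ W
    exact congrArg (fun φ => φ.hom c) this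

/-- the global action on `Γ(Y, ⊤)` -/
noncomputable def ρ : (E ≃ₐ[L] E) →* (Γ(pullback g (sE L E), ⊤) →+* Γ(pullback g (sE L E), ⊤)) where
  toFun σ := (act g σ).appTop.hom
  map_one' := by rw [act_one]; rfl
  map_mul' σ τ := by rw [act_mul, Scheme.Hom.comp_appTop]; rfl

theorem ρ_apply (σ : E ≃ₐ[L] E) (b : Γ(pullback g (sE L E), ⊤)) :
    ρ g σ b = (act g σ).appTop.hom b := rfl

theorem res_ρ (σ : E ≃ₐ[L] E) (W : X.Opens) :
    (act g σ).appTop ≫ (pullback g (sE L E)).presheaf.map
        (homOfLE (le_top : pullback.fst g (sE L E) ⁻¹ᵁ W ≤ ⊤)).op =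
      (pullback g (sE L E)).presheaf.map
        (homOfLE (le_top : pullback.fst g (sE L E) ⁻¹ᵁ W ≤ ⊤)).op ≫ ρW g σ W := by
  unfold ρW
  rw [Scheme.Hom.map_appLE, ← appLE_top_top' (act g σ) le_top, Scheme.Hom.appLE_map]

theorem res_α (W : X.Opens) :
    (pullback.fst g (sE L E)).appTop ≫ (pullback g (sE L E)).presheaf.map
        (homOfLE (le_top : pullback.fst g (sE L E) ⁻¹ᵁ W ≤ ⊤)).op =
      X.presheaf.map (homOfLE (le_top : W ≤ ⊤)).op ≫ αW g W := by
  unfold αW
  rw [Scheme.Hom.app_eq_appLE, Scheme.Hom.map_appLE,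
    ← appLE_top_top' (pullback.fst g (sE L E)) le_top, Scheme.Hom.appLE_map]

theorem res_αW (V W : X.Opens) (h : V ≤ W) :
    αW (E := E) g W ≫ (pullback g (sE L E)).presheaf.map
        (homOfLE ((pullback.fst g (sE L E)).preimage_mono h)).op =
      X.presheaf.map (homOfLE h).op ≫ αW g V := by
  unfold αW
  rw [Scheme.Hom.app_eq_appLE, Scheme.Hom.app_eq_appLE, Scheme.Hom.map_appLE,
    Scheme.Hom.appLE_map]

theorem appTop_injective :
    Function.Injective (pullback.fst g (sE L E)).appTop.hom := by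
  intro a a' h
  apply eq_of_forall_affine
  intro W
  apply (local_invariants (E := E) g W.1 W.2).1
  have h1 := res_α (E := E) g W.1
  have e1 := congrArg (fun φ => φ.hom a) h1
  have e2 := congrArg (fun φ => φ.hom a') h1
  simp only [CommRingCat.hom_comp, RingHom.coe_comp, Function.comp_apply] at e1 e2
  rw [← e1, ← e2, h]

theorem exists_of_invariant (b : Γ(pullback g (sE L E), ⊤)) (hb : ∀ σ : E ≃ₐ[L] E, ρ g σ b = b) :
    ∃ a : Γ(X, ⊤), (pullback.fst g (sE L E)).appTop.hom a = b := by
  -- local sections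
  have hloc : ∀ W : X.affineOpens, ∃ a : Γ(X, W.1), (αW (E := E) g W.1).hom a =
      (pullback g (sE L E)).presheaf.map
        (homOfLE (le_top : pullback.fst g (sE L E) ⁻¹ᵁ W.1 ≤ ⊤)).op b := by
    intro W
    apply (local_invariants (E := E) g W.1 W.2).2
    intro σ
    have h1 := res_ρ g σ W.1
    have e1 := congrArg (fun φ => φ.hom b) h1
    simp only [CommRingCat.hom_comp, RingHom.coe_comp, Function.comp_apply] at e1
    rw [← e1]
    congr 1
    exact hb σ
  choose s hs using hloc
  have hcompat : ∀ (V W : X.affineOpens) (h : V.1 ≤ W.1),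
      X.presheaf.map (homOfLE h).op (s W) = s V := by
    intro V W h
    apply (local_invariants (E := E) g V.1 V.2).1
    have h1 := res_αW (E := E) g V.1 W.1 h
    have e1 := congrArg (fun φ => φ.hom (s W)) h1
    simp only [CommRingCat.hom_comp, RingHom.coe_comp, Function.comp_apply] at e1
    rw [← e1, hs W, hs V, ← ConcreteCategory.comp_apply, ← Functor.map_comp]
    rfl
  obtain ⟨a, ha⟩ := exists_section_of_affine_family X s hcompat
  refine ⟨a, ?_⟩
  apply eq_of_forall_preimage_affine (pullback.fst g (sE L E))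
  intro W
  have h1 := res_α (E := E) g W.1
  have e1 := congrArg (fun φ => φ.hom a) h1
  simp only [CommRingCat.hom_comp, RingHom.coe_comp, Function.comp_apply] at e1
  rw [e1, ha W, hs W]

end Global

section Conn

variable {L E : Type u} [Field L] [Field E] [Algebra L E]
  {X : Scheme.{u}} (g : X ⟶ Spec (CommRingCat.of L))

theorem surjective_sE : Surjective (sE L E) := by
  constructor
  intro x
  haveI : Unique (PrimeSpectrum L) := inferInstance
  haveI : Nonempty (PrimeSpectrum E) := inferInstance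
  obtain ⟨y⟩ : Nonempty ↥(Spec (CommRingCat.of E)) := ‹Nonempty (PrimeSpectrum E)›
  refine ⟨y, ?_⟩
  exact Subsingleton.elim (α := PrimeSpectrum L) _ _

instance : Surjective (pullback.fst g (sE L E)) :=
  haveI := surjective_sE (L := L) (E := E)
  MorphismProperty.pullback_fst (P := @Surjective) _ _ inferInstance

/-- `L → Γ(X, ⊤)` -/
noncomputable def ιT : CommRingCat.of L ⟶ Γ(X, ⊤) :=
  (Scheme.ΓSpecIso (CommRingCat.of L)).inv ≫ g.appTop

/-- `E → Γ(Y, ⊤)` -/
noncomputable def βT : CommRingCat.of E ⟶ Γ(pullback g (sE L E), ⊤) :=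
  (Scheme.ΓSpecIso (CommRingCat.of E)).inv ≫ (pullback.snd g (sE L E)).appTop

theorem ιT_appTop :
    ιT g ≫ (pullback.fst g (sE L E)).appTop =
      CommRingCat.ofHom (algebraMap L E) ≫ βT (E := E) g := by
  unfold ιT βT
  rw [Category.assoc, ← Scheme.Hom.comp_appTop, pullback.condition, Scheme.Hom.comp_appTop,
    ← Category.assoc, ← Category.assoc]
  congr 1
  exact (Scheme.ΓSpecIso_inv_naturality _).symm

theorem βT_act (σ : E ≃ₐ[L] E) :
    βT g ≫ (act g σ).appTop =
      CommRingCat.ofHom ((σ : E →ₐ[L] E) : E →+* E) ≫ βT (E := E) g := by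
  unfold βT
  rw [Category.assoc, ← Scheme.Hom.comp_appTop, act_snd, Scheme.Hom.comp_appTop,
    ← Category.assoc, ← Category.assoc]
  congr 1
  exact (Scheme.ΓSpecIso_inv_naturality _).symm

theorem fst_act_appTop (σ : E ≃ₐ[L] E) :
    (pullback.fst g (sE L E)).appTop ≫ (act g σ).appTop = (pullback.fst g (sE L E)).appTop := by
  rw [← Scheme.Hom.comp_appTop, act_fst]

variable [FiniteDimensional L E] [IsGalois L E]

/-- If `L` admits no proper finite separable extension inside `Γ(X, ⊤)` and `X` is connected,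
then the base change of `X` to a finite Galois extension of `L` is connected. -/
theorem connectedSpace_pullback_of_max [ConnectedSpace X]
    (hmax : ∀ (L₁ : Type u) [Field L₁] [Algebra L L₁] [FiniteDimensional L L₁]
      [Algebra.IsSeparable L L₁] (ψ : L₁ →+* Γ(X, ⊤)),
      (∀ c, ψ (algebraMap L L₁ c) = (ιT g).hom c) → Function.Surjective (algebraMap L L₁)) :
    ConnectedSpace ↥(pullback g (sE L E)) := by
  haveI : Nonempty ↥(pullback g (sE L E)) := by
    obtain ⟨x⟩ : Nonempty X := inferInstance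
    obtain ⟨y, -⟩ := (pullback.fst g (sE L E)).surjective x
    exact ⟨y⟩
  apply connectedSpace_of_idempotent_trivial
  intro e he
  refine idempotent_trivial_of_max (L := L) (E := E) (pullback.fst g (sE L E)).appTop.hom
    (appTop_injective g) (βT g).hom (ιT g).hom ?_ (ρ g) ?_ ?_ (exists_of_invariant g)
    (idempotent_trivial_of_connected X) hmax e he
  · intro c
    have := ιT_appTop (E := E) g
    exact congrArg (fun φ => φ.hom c) this
  · intro σ c
    have := βT_act g σ
    exact congrArg (fun φ => φ.hom c) this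
  · intro σ a
    have := fst_act_appTop g σ
    exact congrArg (fun φ => φ.hom a) this

end Conn

end Groth.Agent.Helper7.GeomConn
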