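import Mathlib

set_option autoImplicit false
set_option linter.style.haveILetI false
set_option linter.unusedVariables false
set_option linter.unusedSectionVars false

universe u

/-! helper7: Zorn: a maximal separable algebraic subfield of a k-algebra, and its maximality property -/

open scoped Classical

namespace Groth.Agent.Helper7.GeomConn

section Zorn

variable {k : Type u} [Field k] {A : Type u} [CommRing A] [Algebra k A] [Nontrivial A]

/-- the property of subalgebras we maximize: being a field, separable algebraic over `k` -/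
def IsSepSubfield (S : Subalgebra k A) : Prop :=
  IsField S ∧ ∀ x : S, IsSeparable k (x : A)

theorem isSepSubfield_bot : IsSepSubfield (⊥ : Subalgebra k A) := by
  constructor
  · have e : (⊥ : Subalgebra k A) ≃ₐ[k] k :=
      Algebra.botEquivOfInjective (algebraMap k A).injective
    exact e.toMulEquiv.isField (Field.toIsField k)
  · rintro ⟨x, hx⟩
    obtain ⟨c, rfl⟩ := Algebra.mem_bot.mp hx
    exact isSeparable_algebraMap c

theorem isSepSubfield_sSup (c : Set (Subalgebra k A)) (hc : ∀ S ∈ c, IsSepSubfield S)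
    (hchain : IsChain (· ≤ ·) c) (y : Subalgebra k A) (hy : y ∈ c) :
    IsSepSubfield (sSup c) := by
  haveI : Nonempty c := ⟨⟨y, hy⟩⟩
  have hdir : Directed (· ≤ ·) (fun i : c => i.1) := hchain.directed
  have hmem : ∀ x : A, x ∈ sSup c ↔ ∃ S ∈ c, x ∈ S := by
    intro x
    rw [sSup_eq_iSup', ← SetLike.mem_coe, Subalgebra.coe_iSup_of_directed hdir]
    simp only [Set.mem_iUnion, SetLike.mem_coe, Subtype.exists, exists_prop]
  constructor
  · refine ⟨⟨0, 1, ?_⟩, mul_comm, ?_⟩
    · intro h
      have := congrArg Subtype.val h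
      exact zero_ne_one this
    · rintro ⟨x, hx⟩ hx0
      obtain ⟨S, hS, hxS⟩ := (hmem x).mp hx
      have hne : (⟨x, hxS⟩ : S) ≠ 0 := by
        intro h
        apply hx0
        have h' : x = 0 := congrArg (fun t : S => (t : A)) h
        exact Subtype.ext h'
      obtain ⟨⟨b, hbS⟩, hb⟩ := (hc S hS).1.mul_inv_cancel hne
      refine ⟨⟨b, (hmem b).mpr ⟨S, hS, hbS⟩⟩, ?_⟩
      have hb' : x * b = 1 := congrArg (fun t : S => (t : A)) hb
      exact Subtype.ext hb'
  · rintro ⟨x, hx⟩
    obtain ⟨S, hS, hxS⟩ := (hmem x).mp hx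
    exact (hc S hS).2 ⟨x, hxS⟩

theorem exists_max_sepSubfield :
    ∃ S : Subalgebra k A, IsSepSubfield S ∧
      ∀ S' : Subalgebra k A, IsSepSubfield S' → S ≤ S' → S' ≤ S := by
  obtain ⟨m, -, hm⟩ := zorn_le_nonempty₀ {S : Subalgebra k A | IsSepSubfield S}
    (fun c hc hchain y hy => ⟨sSup c, isSepSubfield_sSup c (fun S hS => hc hS) hchain y hy,
      fun z hz => le_sSup hz⟩) ⊥ isSepSubfield_bot
  exact ⟨m, hm.prop, fun S' hS' hle => hm.le_of_ge hS' hle⟩

end Zorn

section Max

variable {k : Type u} [Field k] {A : Type u} [CommRing A] [Algebra k A] [Nontrivial A]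

/-- the maximality property in the form used for the Galois argument: there are a field `L`,
algebraic over `k`, with an injection `j : L → A` of `k`-algebras, such that every finite separable
extension `L₁` of `L` equipped with an extension `ψ : L₁ → A` of `j` is trivial. -/
theorem exists_max_field :
    ∃ (L : Type u) (_ : Field L) (_ : Algebra k L) (j : L →ₐ[k] A),
      ∀ (L₁ : Type u) [Field L₁] [Algebra L L₁] [FiniteDimensional L L₁]
        [Algebra.IsSeparable L L₁] (ψ : L₁ →+* A),
        (∀ c, ψ (algebraMap L L₁ c) = j c) → Function.Surjective (algebraMap L L₁) := by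
  obtain ⟨S, hS, hmax⟩ := exists_max_sepSubfield (k := k) (A := A)
  letI : Field S := hS.1.toField
  refine ⟨S, inferInstance, inferInstance, S.val, ?_⟩
  intro L₁ _ _ _ _ ψ hψ
  letI : Algebra k L₁ := ((algebraMap S L₁).comp (algebraMap k S)).toAlgebra
  haveI : IsScalarTower k S L₁ := IsScalarTower.of_algebraMap_eq fun _ => rfl
  haveI : Algebra.IsSeparable k S := ⟨fun x => by
    have h := hS.2 x
    unfold IsSeparable at h ⊢
    rwa [← minpoly.algHom_eq S.val Subtype.val_injective x]⟩
  haveI : Algebra.IsSeparable k L₁ := Algebra.IsSeparable.trans k S L₁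
  let ψa : L₁ →ₐ[k] A :=
    { ψ with
      commutes' := fun c => by
        show ψ (algebraMap S L₁ (algebraMap k S c)) = algebraMap k A c
        rw [hψ]
        rfl }
  have hψinj : Function.Injective ψa := ψ.injective
  let S' : Subalgebra k A := ψa.range
  have hS' : IsSepSubfield S' := by
    constructor
    · have e : L₁ ≃ₐ[k] S' := AlgEquiv.ofInjective ψa hψinj
      exact e.symm.toMulEquiv.isField (Field.toIsField L₁)
    · rintro ⟨y, x, rfl⟩
      show IsSeparable k (ψa x)
      have h := Algebra.IsSeparable.isSeparable k x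
      unfold IsSeparable at h ⊢
      rwa [minpoly.algHom_eq ψa hψinj x]
  have hle : S ≤ S' := by
    intro s hs
    exact ⟨algebraMap S L₁ ⟨s, hs⟩, hψ ⟨s, hs⟩⟩
  have hle' := hmax S' hS' hle
  intro x
  have hx : ψa x ∈ S := hle' ⟨x, rfl⟩
  refine ⟨⟨ψa x, hx⟩, ?_⟩
  apply hψinj
  exact hψ ⟨ψa x, hx⟩

end Max

end Groth.Agent.Helper7.GeomConn
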