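import Mathlib
import Groth.Agent.Lib.Helper7.GeomConn.GaloisBC
import Groth.Agent.Lib.Helper7.GeomConn.MaxField
import Groth.Agent.S7591

set_option autoImplicit false
set_option linter.style.haveILetI false
set_option linter.unusedVariables false
set_option linter.unusedSectionVars false
set_option backward.isDefEq.respectTransparency.types false

universe u

/-! helper7: geometric connectedness over the maximal separable subfield of global sections and the image of a connected component under base field extension (Stacks 04PZ) -/

open CategoryTheory AlgebraicGeometry TopologicalSpace Opposite Limits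

namespace Groth.Agent.Helper7.GeomConn

theorem surjective_to_spec_field {L : Type u} [Field L] {Z : Scheme.{u}} [Nonempty Z]
    (w : Z ⟶ Spec (CommRingCat.of L)) : Surjective w := by
  constructor
  intro x
  obtain ⟨z⟩ : Nonempty Z := inferInstance
  exact ⟨z, Subsingleton.elim (α := PrimeSpectrum L) _ _⟩

section Trans

variable {L K N : Type u} [Field L] [Field K] [Field N] [Algebra L K] [Algebra K N] [Algebra L N]
  [IsScalarTower L K N] {X : Scheme.{u}} (g : X ⟶ Spec (CommRingCat.of L))

theorem sE_comp : sE K N ≫ sE L K = sE L N := by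
  rw [← Spec.map_comp, ← CommRingCat.ofHom_comp, ← IsScalarTower.algebraMap_eq]

/-- transition map between base changes along a tower `L → K → N` -/
noncomputable def bcT : pullback g (sE L N) ⟶ pullback g (sE L K) :=
  pullback.lift (pullback.fst _ _) (pullback.snd _ _ ≫ sE K N) (by
    rw [Category.assoc, sE_comp, pullback.condition])

theorem bcT_fst : bcT (K := K) (N := N) g ≫ pullback.fst _ _ = pullback.fst _ _ :=
  pullback.lift_fst _ _ _

theorem bcT_snd : bcT (K := K) (N := N) g ≫ pullback.snd _ _ = pullback.snd _ _ ≫ sE K N :=
  pullback.lift_snd _ _ _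

theorem isPullback_bcT :
    IsPullback (bcT (K := K) (N := N) g) (pullback.snd g (sE L N)) (pullback.snd g (sE L K))
      (sE K N) := by
  apply IsPullback.of_right _ (bcT_snd g) (IsPullback.of_hasPullback g _)
  rw [bcT_fst, sE_comp]
  exact IsPullback.of_hasPullback g _

theorem surjective_bcT : Surjective (bcT (K := K) (N := N) g) := by
  haveI : Surjective (sE K N) := surjective_sE
  exact MorphismProperty.of_isPullback (P := @Surjective) (isPullback_bcT g).flip inferInstance

end Trans

section GeomConn

variable {L : Type u} [Field L] {X : Scheme.{u}} [ConnectedSpace X]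
  (g : X ⟶ Spec (CommRingCat.of L))

/-- maximality of `L` inside `Γ(X, ⊤)` implies geometric connectedness over `L` -/
theorem geometricallyConnected_of_max
    (hmax : ∀ (L₁ : Type u) [Field L₁] [Algebra L L₁] [FiniteDimensional L L₁]
      [Algebra.IsSeparable L L₁] (ψ : L₁ →+* Γ(X, ⊤)),
      (∀ c, ψ (algebraMap L L₁ c) = (ιT g).hom c) → Function.Surjective (algebraMap L L₁)) :
    GeometricallyConnected g := by
  letI : X.Over (Spec (CommRingCat.of L)) := ⟨g⟩
  have key := (Groth.Agent.S7591.result L X).mpr ?_
  · exact key
  intro k' _ _ _ _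
  haveI : IsSepClosure L (SeparableClosure k') :=
    ⟨inferInstance, Algebra.IsSeparable.trans L k' _⟩
  let N := IntermediateField.normalClosure L k' (SeparableClosure k')
  haveI : ConnectedSpace ↥(pullback g (sE L N)) := connectedSpace_pullback_of_max g hmax
  show ConnectedSpace ↥(pullback g (sE L k'))
  have hs := surjective_bcT (L := L) (K := k') (N := N) g
  exact Function.Surjective.connectedSpace hs.surj (bcT (K := k') (N := N) g).continuous

end GeomConn

section Structure

variable {k : Type u} [Field k]

/-- a connected `k`-scheme is geometrically connected over a suitable algebraic extension `L`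
of `k` through which its structure morphism factors -/
theorem exists_geomConn_structure (X : Scheme.{u}) [ConnectedSpace X]
    (f : X ⟶ Spec (CommRingCat.of k)) :
    ∃ (L : Type u) (_ : Field L) (_ : Algebra k L) (g : X ⟶ Spec (CommRingCat.of L)),
      g ≫ sE k L = f ∧ GeometricallyConnected g := by
  letI : Algebra k Γ(X, ⊤) := (ιT f).hom.toAlgebra
  haveI : Nonempty (⊤ : X.Opens) := by
    obtain ⟨x⟩ : Nonempty X := inferInstance
    exact ⟨⟨x, trivial⟩⟩
  haveI : Nontrivial Γ(X, ⊤) := Scheme.component_nontrivial X ⊤
  obtain ⟨L, hL, hkL, j, hj⟩ := exists_max_field (k := k) (A := Γ(X, ⊤))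
  letI := hL
  letI := hkL
  let g : X ⟶ Spec (CommRingCat.of L) :=
    X.toSpecΓ ≫ Spec.map (CommRingCat.ofHom (j : L →+* Γ(X, ⊤)))
  have hιg : ιT g = CommRingCat.ofHom (j : L →+* Γ(X, ⊤)) := by
    unfold ιT
    rw [Scheme.Hom.comp_appTop, Scheme.toSpecΓ_appTop, ← Category.assoc,
      ← Scheme.ΓSpecIso_inv_naturality, Category.assoc, Iso.inv_hom_id, Category.comp_id]
  refine ⟨L, hL, hkL, g, ?_, ?_⟩
  · show (X.toSpecΓ ≫ Spec.map _) ≫ Spec.map _ = f
    rw [Category.assoc, ← Spec.map_comp, ← CommRingCat.ofHom_comp]
    have h1 : (j : L →+* Γ(X, ⊤)).comp (algebraMap k L) = (ιT f).hom := by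
      ext c
      exact j.commutes c
    rw [h1, CommRingCat.ofHom_hom]
    unfold ιT
    rw [Spec.map_comp, ← Scheme.toSpecΓ_naturality_assoc, toSpecΓ_SpecMap_ΓSpecIso_inv,
      Category.comp_id]
  · apply geometricallyConnected_of_max g
    intro L₁ _ _ _ _ ψ hψ
    refine hj L₁ ψ ?_
    intro c
    rw [hψ c, hιg]
    rfl

end Structure

section Image

variable {k K : Type u} [Field k] [Field K] [Algebra k K]

/-- connected case: every connected component of `X_K` surjects onto `X` -/
theorem image_connectedComponent_eq_univ (X : Scheme.{u}) [ConnectedSpace X]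
    (f : X ⟶ Spec (CommRingCat.of k)) (x' : ↥(pullback f (sE k K))) :
    (pullback.fst f (sE k K)) '' connectedComponent x' = Set.univ := by
  obtain ⟨L, hL, hkL, g, hgf, hgc⟩ := exists_geomConn_structure X f
  letI := hL
  letI := hkL
  let φ : Spec ((pullback f (sE k K)).residueField x') ⟶ pullback f (sE k K) :=
    (pullback f (sE k K)).fromSpecResidueField x'
  let u : Spec ((pullback f (sE k K)).residueField x') ⟶ Spec (CommRingCat.of L) :=
    φ ≫ pullback.fst f (sE k K) ≫ g
  haveI hZ : ConnectedSpace ↥(pullback g u) :=
    hgc.geometrically_connectedSpace (K := ↑((pullback f (sE k K)).residueField x')) u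
      (pullback.fst g u) (pullback.snd g u) (IsPullback.of_hasPullback g u)
  -- the comparison morphism
  have hcond : pullback.fst g u ≫ f =
      (pullback.snd g u ≫ φ ≫ pullback.snd f (sE k K)) ≫ sE k K := by
    have e1 : pullback.fst g u ≫ f = (pullback.fst g u ≫ g) ≫ sE k L := by
      rw [Category.assoc, hgf]
    rw [e1, pullback.condition]
    show (pullback.snd g u ≫ φ ≫ pullback.fst f (sE k K) ≫ g) ≫ sE k L = _
    simp only [Category.assoc]
    rw [hgf, pullback.condition]
  let h : pullback g u ⟶ pullback f (sE k K) :=
    pullback.lift (pullback.fst g u) (pullback.snd g u ≫ φ ≫ pullback.snd f (sE k K)) hcond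
  have hfst : h ≫ pullback.fst f (sE k K) = pullback.fst g u := pullback.lift_fst _ _ _
  have hsnd : h ≫ pullback.snd f (sE k K) = pullback.snd g u ≫ φ ≫ pullback.snd f (sE k K) :=
    pullback.lift_snd _ _ _
  -- the section
  let s₀ : Spec ((pullback f (sE k K)).residueField x') ⟶ pullback g u :=
    pullback.lift (φ ≫ pullback.fst f (sE k K)) (𝟙 _) (by simp [u])
  have hs₀ : s₀ ≫ h = φ := by
    apply pullback.hom_ext
    · rw [Category.assoc, hfst]
      exact pullback.lift_fst _ _ _
    · rw [Category.assoc, hsnd, ← Category.assoc]
      have : s₀ ≫ pullback.snd g u = 𝟙 _ := pullback.lift_snd _ _ _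
      rw [this, Category.id_comp]
  obtain ⟨pt⟩ : Nonempty ↥(Spec ((pullback f (sE k K)).residueField x')) := inferInstance
  have hx' : h (s₀ pt) = x' := by
    rw [← Scheme.Hom.comp_apply, hs₀]
    exact Scheme.fromSpecResidueField_apply _ _
  have hrange : Set.range h ⊆ connectedComponent x' := by
    apply IsPreconnected.subset_connectedComponent
    · exact isPreconnected_range h.continuous
    · exact ⟨s₀ pt, hx'⟩
  haveI : Surjective u := surjective_to_spec_field u
  haveI : Surjective (pullback.fst g u) :=
    MorphismProperty.pullback_fst (P := @Surjective) _ _ inferInstance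
  rw [Set.eq_univ_iff_forall]
  intro x
  obtain ⟨z, hz⟩ := (pullback.fst g u).surjective x
  refine ⟨h z, hrange ⟨z, rfl⟩, ?_⟩
  rw [← Scheme.Hom.comp_apply, hfst, hz]

theorem image_connectedComponent (X : Scheme.{u})
    (f : X ⟶ Spec (CommRingCat.of k)) (x' : ↥(pullback f (sE k K))) :
    (pullback.fst f (sE k K)) '' connectedComponent x' =
      connectedComponent (pullback.fst f (sE k K) x') := by
  apply Set.Subset.antisymm
  · apply IsPreconnected.subset_connectedComponent
    · exact (isPreconnected_connectedComponent).image _
        (pullback.fst f (sE k K)).continuous.continuousOn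
    · exact ⟨x', mem_connectedComponent, rfl⟩
  · let C : Set X := connectedComponent (pullback.fst f (sE k K) x')
    have hC : IsClosed C := isClosed_connectedComponent
    let I : X.IdealSheafData := Scheme.IdealSheafData.vanishingIdeal ⟨C, hC⟩
    let ι : I.subscheme ⟶ X := I.subschemeι
    have hrange : Set.range ι = C := by
      rw [Scheme.IdealSheafData.range_subschemeι,
        Scheme.IdealSheafData.coe_support_vanishingIdeal]
      rfl
    haveI hconn : ConnectedSpace ↥I.subscheme := by
      have hemb : Topology.IsEmbedding ι := ι.isEmbedding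
      have hpre : _root_.IsPreconnected (Set.univ : Set ↥I.subscheme) := by
        rw [← hemb.isInducing.isPreconnected_image, Set.image_univ, hrange]
        exact isPreconnected_connectedComponent
      have hne : Nonempty ↥I.subscheme := by
        have : (pullback.fst f (sE k K) x') ∈ Set.range ι := by
          rw [hrange]; exact mem_connectedComponent
        obtain ⟨z, -⟩ := this
        exact ⟨z⟩
      exact { toPreconnectedSpace := ⟨hpre⟩, toNonempty := hne }
    let fZ : I.subscheme ⟶ Spec (CommRingCat.of k) := ι ≫ f
    let ιK : pullback fZ (sE k K) ⟶ pullback f (sE k K) :=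
      pullback.lift (pullback.fst fZ (sE k K) ≫ ι) (pullback.snd fZ (sE k K))
        (by rw [Category.assoc]; exact pullback.condition)
    have hιK_fst : ιK ≫ pullback.fst f (sE k K) = pullback.fst fZ (sE k K) ≫ ι :=
      pullback.lift_fst _ _ _
    have hιK_snd : ιK ≫ pullback.snd f (sE k K) = pullback.snd fZ (sE k K) :=
      pullback.lift_snd _ _ _
    have hpb : IsPullback ιK (pullback.fst fZ (sE k K)) (pullback.fst f (sE k K)) ι := by
      have h1 : IsPullback (pullback.fst f (sE k K)) (pullback.snd f (sE k K)) f (sE k K) :=
        IsPullback.of_hasPullback f (sE k K)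
      have h2 : IsPullback (pullback.fst fZ (sE k K)) (pullback.snd fZ (sE k K)) (ι ≫ f)
          (sE k K) := IsPullback.of_hasPullback fZ (sE k K)
      refine IsPullback.of_right (h₁₁ := ιK) ?_ hιK_fst h1.flip
      rw [hιK_snd]
      exact h2.flip
    intro y hy
    -- y in C, so y = ι z
    obtain ⟨z, rfl⟩ : y ∈ Set.range ι := by rw [hrange]; exact hy
    -- x' in the range of ιK
    have hx'C : pullback.fst f (sE k K) x' ∈ Set.range ι := by
      rw [hrange]; exact mem_connectedComponent
    obtain ⟨z₀, hz₀⟩ := hx'C
    obtain ⟨t, ht1, ht2⟩ := Scheme.Pullback.exists_preimage_pullback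
      (f := pullback.fst f (sE k K)) (g := ι) x' z₀ hz₀.symm
    let z' := hpb.isoPullback.inv t
    have hz'1 : ιK z' = x' := by
      show ιK (hpb.isoPullback.inv t) = x'
      rw [← Scheme.Hom.comp_apply, hpb.isoPullback_inv_fst]; exact ht1
    have hall := image_connectedComponent_eq_univ (K := K) I.subscheme fZ z'
    have hz : z ∈ (pullback.fst fZ (sE k K)) '' connectedComponent z' := by
      rw [hall]; exact Set.mem_univ _
    obtain ⟨w, hw, rfl⟩ := hz
    refine ⟨ιK w, ?_, ?_⟩
    · have hsub : ιK '' connectedComponent z' ⊆ connectedComponent x' := by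
        apply IsPreconnected.subset_connectedComponent
        · exact (isPreconnected_connectedComponent).image _ ιK.continuous.continuousOn
        · exact ⟨z', mem_connectedComponent, hz'1⟩
      exact hsub ⟨w, hw, rfl⟩
    · rw [← Scheme.Hom.comp_apply, hιK_fst, Scheme.Hom.comp_apply]

end Image

end Groth.Agent.Helper7.GeomConn
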