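import Mathlib
import Groth.Agent.Lib.Helper7.GeomConn.Main
import Groth.Prelude.Def_MoreMor

set_option autoImplicit false
set_option linter.style.haveILetI false
set_option linter.unusedVariables false
set_option linter.unusedSectionVars false
set_option backward.isDefEq.respectTransparency.types false

universe u

/-! helper7: section components of a morphism with a section commute with base change (a connected component of a fibre through a rational point is geometrically connected) -/

open CategoryTheory AlgebraicGeometry TopologicalSpace Opposite Limits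

namespace Groth.Agent.Helper7.GeomConn

/-- connected components inside the range of an embedding -/
theorem connectedComponentIn_range_embedding {A B : Type*} [TopologicalSpace A]
    [TopologicalSpace B] {e : A → B} (he : Topology.IsEmbedding e) (F : Set B)
    (hF : Set.range e = F) (a : A) :
    connectedComponentIn F (e a) = e '' connectedComponent a := by
  apply Set.Subset.antisymm
  · intro b hb
    have hsub : connectedComponentIn F (e a) ⊆ Set.range e := by
      rw [hF]; exact connectedComponentIn_subset F (e a)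
    have hpre : _root_.IsPreconnected (e ⁻¹' connectedComponentIn F (e a)) := by
      rw [← he.isInducing.isPreconnected_image, Set.image_preimage_eq_inter_range,
        Set.inter_eq_left.mpr hsub]
      exact isPreconnected_connectedComponentIn
    have ha : a ∈ e ⁻¹' connectedComponentIn F (e a) :=
      mem_connectedComponentIn (by rw [← hF]; exact ⟨a, rfl⟩)
    obtain ⟨a', rfl⟩ := hsub hb
    exact ⟨a', hpre.subset_connectedComponent ha hb, rfl⟩
  · apply IsPreconnected.subset_connectedComponentIn
    · exact (isPreconnected_connectedComponent).image _ he.continuous.continuousOn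
    · exact ⟨a, mem_connectedComponent, rfl⟩
    · rw [← hF]; exact Set.image_subset_range _ _

theorem exists_preimage_of_isPullback {P X Y Z : Scheme.{u}} {fst : P ⟶ X} {snd : P ⟶ Y}
    {f : X ⟶ Z} {g : Y ⟶ Z} (h : IsPullback fst snd f g) (x : X) (y : Y) (hxy : f x = g y) :
    ∃ p : P, fst p = x ∧ snd p = y := by
  obtain ⟨t, ht1, ht2⟩ := Scheme.Pullback.exists_preimage_pullback (f := f) (g := g) x y hxy
  refine ⟨h.isoPullback.inv t, ?_, ?_⟩
  · rw [← Scheme.Hom.comp_apply, h.isoPullback_inv_fst]; exact ht1
  · rw [← Scheme.Hom.comp_apply, h.isoPullback_inv_snd]; exact ht2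

section Field

variable {k K : Type u} [Field k] [Field K]

/-- the fibre of a base field extension over a rational point is a single point -/
theorem eq_of_fst_eq_section (φ : CommRingCat.of k ⟶ CommRingCat.of K) {V : Scheme.{u}}
    (b : V ⟶ Spec (.of k)) (σ : Spec (.of k) ⟶ V) (hσ : σ ≫ b = 𝟙 _) (v₀ : V)
    (hv₀ : v₀ ∈ Set.range σ) (u u' : ↥(pullback b (Spec.map φ)))
    (hu : pullback.fst b (Spec.map φ) u = v₀) (hu' : pullback.fst b (Spec.map φ) u' = v₀) :
    u = u' := by
  let σK : Spec (.of K) ⟶ pullback b (Spec.map φ) :=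
    pullback.lift (Spec.map φ ≫ σ) (𝟙 _) (by rw [Category.assoc, hσ, Category.comp_id,
      Category.id_comp])
  have h1 : σK ≫ pullback.fst b (Spec.map φ) = Spec.map φ ≫ σ := pullback.lift_fst _ _ _
  have h2 : σK ≫ pullback.snd b (Spec.map φ) = 𝟙 _ := pullback.lift_snd _ _ _
  have hpb : IsPullback σK (Spec.map φ) (pullback.fst b (Spec.map φ)) σ := by
    refine IsPullback.of_right (h₁₁ := σK) ?_ h1 (IsPullback.of_hasPullback b (Spec.map φ)).flip
    rw [h2, hσ]
    exact IsPullback.of_horiz_isIso ⟨by simp⟩
  obtain ⟨pt, rfl⟩ := hv₀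
  obtain ⟨q, hq, -⟩ := exists_preimage_of_isPullback hpb u pt hu
  obtain ⟨q', hq', -⟩ := exists_preimage_of_isPullback hpb u' pt hu'
  have : q = q' := Subsingleton.elim (α := PrimeSpectrum K) _ _
  rw [← hq, ← hq', this]

theorem mem_connectedComponent_of_section (φ : CommRingCat.of k ⟶ CommRingCat.of K)
    {V W : Scheme.{u}} (b : V ⟶ Spec (.of k)) (a : W ⟶ Spec (.of K)) (t : W ⟶ V)
    (h : IsPullback t a b (Spec.map φ)) (σ : Spec (.of k) ⟶ V) (hσ : σ ≫ b = 𝟙 _) (v₀ : V)
    (hv₀ : v₀ ∈ Set.range σ) (w₀ : W) (hw₀ : t w₀ = v₀) (w : W)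
    (hw : t w ∈ connectedComponent v₀) : w ∈ connectedComponent w₀ := by
  letI : Algebra k K := φ.hom.toAlgebra
  have hφ : Spec.map φ = sE k K := rfl
  let e := h.isoPullback
  have he1 : e.hom ≫ pullback.fst b (Spec.map φ) = t := h.isoPullback_hom_fst
  have himg := image_connectedComponent (K := K) V b (e.hom w)
  have htw : pullback.fst b (sE k K) (e.hom w) = t w := by
    show pullback.fst b (Spec.map φ) (e.hom w) = t w
    rw [← Scheme.Hom.comp_apply, he1]
  rw [htw, ← connectedComponent_eq hw] at himg
  have hv : v₀ ∈ pullback.fst b (sE k K) '' connectedComponent (e.hom w) := by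
    rw [himg]; exact mem_connectedComponent
  obtain ⟨u, hu, huv⟩ := hv
  have hu0 : u = e.hom w₀ := by
    apply eq_of_fst_eq_section φ b σ hσ v₀ hv₀ u (e.hom w₀) huv
    rw [← Scheme.Hom.comp_apply, he1]; exact hw₀
  rw [hu0] at hu
  -- transport back along the inverse
  have hsub := (e.inv.continuous).image_connectedComponent_subset (e.hom w)
  have hmem : e.inv (e.hom w₀) ∈ connectedComponent (e.inv (e.hom w)) := hsub ⟨_, hu, rfl⟩
  have hid : ∀ z : W, e.inv (e.hom z) = z := fun z => by
    rw [← Scheme.Hom.comp_apply, e.hom_inv_id]; rfl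
  rw [hid, hid] at hmem
  rw [← connectedComponent_eq hmem]
  exact mem_connectedComponent

end Field

section SectionComponents

variable {X Y : Scheme.{u}} (f : X ⟶ Y) (s : Y ⟶ X) (hs : s ≫ f = 𝟙 Y)

/-- the section of the fibre over `y` induced by a section of `f` -/
noncomputable def fibreSection (y : Y) : Spec (Y.residueField y) ⟶ f.fiber y :=
  pullback.lift (Y.fromSpecResidueField y ≫ s) (𝟙 _) (by
    rw [Category.assoc, hs, Category.comp_id, Category.id_comp])

theorem fibreSection_fiberι (y : Y) :
    fibreSection f s hs y ≫ f.fiberι y = Y.fromSpecResidueField y ≫ s :=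
  pullback.lift_fst _ _ _

theorem fibreSection_toSpec (y : Y) :
    fibreSection f s hs y ≫ f.fiberToSpecResidueField y = 𝟙 _ :=
  pullback.lift_snd _ _ _

/-- the rational point of the fibre given by the section -/
noncomputable def fibrePt (y : Y) : ↥(f.fiber y) :=
  fibreSection f s hs y (IsLocalRing.closedPoint (Y.residueField y))

theorem fiberι_fibrePt (y : Y) : f.fiberι y (fibrePt f s hs y) = s y := by
  unfold fibrePt
  rw [← Scheme.Hom.comp_apply, fibreSection_fiberι, Scheme.Hom.comp_apply,
    Scheme.fromSpecResidueField_apply]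

theorem mem_sectionComponents_iff (x : X) :
    x ∈ MoreMor.sectionComponents f s ↔
      f.asFiber x ∈ connectedComponent (fibrePt f s hs (f x)) := by
  unfold MoreMor.sectionComponents
  rw [Set.mem_ofPred_eq, ← fiberι_fibrePt f s hs (f x),
    connectedComponentIn_range_embedding (f.fiberι (f x)).isEmbedding _ (f.range_fiberι (f x))]
  constructor
  · rintro ⟨z, hz, hzx⟩
    have : z = f.asFiber x := by
      apply (f.fiberι (f x)).isEmbedding.injective
      rw [hzx, f.fiberι_asFiber]
    rwa [← this]
  · intro h
    exact ⟨_, h, f.fiberι_asFiber x⟩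

end SectionComponents

section BaseChange

variable {X Y X' Y' : Scheme.{u}} (f : X ⟶ Y) (s : Y ⟶ X) (hs : s ≫ f = 𝟙 Y)
    (f' : X' ⟶ Y') (g' : X' ⟶ X) (g : Y' ⟶ Y) (hc : IsPullback g' f' f g)
    (s' : Y' ⟶ X') (hs' : s' ≫ f' = 𝟙 Y') (hs'g : s' ≫ g' = g ≫ s)

/-- the map between fibres induced by a cartesian square -/
noncomputable def fibreMap (y' : Y') : f'.fiber y' ⟶ f.fiber (g y') :=
  pullback.map _ _ _ _ g' (Spec.map (g.residueFieldMap y')) g hc.w.symm (by simp)

theorem fibreMap_fiberι (y' : Y') :
    fibreMap f f' g' g hc y' ≫ f.fiberι (g y') = f'.fiberι y' ≫ g' :=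
  pullback.lift_fst _ _ _

theorem isPullback_fibreMap (y' : Y') :
    IsPullback (fibreMap f f' g' g hc y') (f'.fiberToSpecResidueField y')
      (f.fiberToSpecResidueField (g y')) (Spec.map (g.residueFieldMap y')) :=
  isPullback_fiberToSpecResidueField_of_isPullback hc y'

include hs'g in
theorem fibreMap_fibrePt (y' : Y') :
    fibreMap f f' g' g hc y' (fibrePt f' s' hs' y') = fibrePt f s hs (g y') := by
  apply (f.fiberι (g y')).isEmbedding.injective
  rw [← Scheme.Hom.comp_apply, fibreMap_fiberι, Scheme.Hom.comp_apply, fiberι_fibrePt,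
    fiberι_fibrePt, ← Scheme.Hom.comp_apply, hs'g, Scheme.Hom.comp_apply]

include hs'g in
theorem mem_connectedComponent_fibrePt_iff (y' : Y') (w : ↥(f'.fiber y')) :
    w ∈ connectedComponent (fibrePt f' s' hs' y') ↔
      fibreMap f f' g' g hc y' w ∈ connectedComponent (fibrePt f s hs (g y')) := by
  constructor
  · intro hw
    have := (fibreMap f f' g' g hc y').continuous.image_connectedComponent_subset
      (fibrePt f' s' hs' y') ⟨w, hw, rfl⟩
    rwa [fibreMap_fibrePt f s hs f' g' g hc s' hs' hs'g] at this
  · intro hw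
    exact mem_connectedComponent_of_section (g.residueFieldMap y')
      (f.fiberToSpecResidueField (g y')) (f'.fiberToSpecResidueField y')
      (fibreMap f f' g' g hc y') (isPullback_fibreMap f f' g' g hc y')
      (fibreSection f s hs (g y')) (fibreSection_toSpec f s hs (g y'))
      (fibrePt f s hs (g y')) ⟨_, rfl⟩ (fibrePt f' s' hs' y')
      (fibreMap_fibrePt f s hs f' g' g hc s' hs' hs'g y') w hw

include hs hs' hc hs'g in
theorem sectionComponents_baseChange :
    MoreMor.sectionComponents f' s' = g' ⁻¹' MoreMor.sectionComponents f s := by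
  ext x'
  rw [Set.mem_preimage, mem_sectionComponents_iff f' s' hs', mem_sectionComponents_iff f s hs]
  have key : ∀ (y : Y) (hy : y = g (f' x')) (z : ↥(f.fiber y)) (hz : f.fiberι y z = g' x'),
      (z ∈ connectedComponent (fibrePt f s hs y) ↔
        f'.asFiber x' ∈ connectedComponent (fibrePt f' s' hs' (f' x'))) := by
    intro y hy z hz
    subst hy
    rw [mem_connectedComponent_fibrePt_iff f s hs f' g' g hc s' hs' hs'g (f' x') (f'.asFiber x')]
    have : fibreMap f f' g' g hc (f' x') (f'.asFiber x') = z := by
      apply (f.fiberι (g (f' x'))).isEmbedding.injective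
      rw [← Scheme.Hom.comp_apply, fibreMap_fiberι, Scheme.Hom.comp_apply, f'.fiberι_asFiber, hz]
    rw [this]
  refine (key (f (g' x')) ?_ (f.asFiber (g' x')) (f.fiberι_asFiber (g' x'))).symm
  rw [← Scheme.Hom.comp_apply, ← Scheme.Hom.comp_apply, hc.w]

end BaseChange

end Groth.Agent.Helper7.GeomConn
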