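import Mathlib
import Groth.Agent.Lib.Helper7.GeomConn.SectionComp
import Groth.Prelude.Def_MoreMor

set_option autoImplicit false
set_option linter.style.haveILetI false
set_option linter.unusedVariables false
set_option linter.unusedSectionVars false
set_option backward.isDefEq.respectTransparency.types false

universe u

/-! helper7: the number of connected components of the geometric fibres commutes with base change (connected components are insensitive to extensions of separably closed fields) -/

open CategoryTheory AlgebraicGeometry TopologicalSpace Opposite Limits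

namespace Groth.Agent.Helper7.GeomConn

theorem iso_image_connectedComponent {W W' : Scheme.{u}} (e : W ≅ W') (w : W) :
    e.hom '' connectedComponent w = connectedComponent (e.hom w) := by
  apply Set.Subset.antisymm
  · exact e.hom.continuous.image_connectedComponent_subset w
  · intro z hz
    have h1 := e.inv.continuous.image_connectedComponent_subset (e.hom w) ⟨z, hz, rfl⟩
    have hid : e.inv (e.hom w) = w := by
      rw [← Scheme.Hom.comp_apply, e.hom_inv_id]; rfl
    rw [hid] at h1
    refine ⟨e.inv z, h1, ?_⟩
    rw [← Scheme.Hom.comp_apply, e.inv_hom_id]; rfl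

section Field

variable {k K : Type u} [Field k] [Field K]

theorem image_connectedComponent_of_isPullback (φ : CommRingCat.of k ⟶ CommRingCat.of K)
    {V W : Scheme.{u}} (b : V ⟶ Spec (.of k)) (a : W ⟶ Spec (.of K)) (t : W ⟶ V)
    (h : IsPullback t a b (Spec.map φ)) (w : W) :
    t '' connectedComponent w = connectedComponent (t w) := by
  letI : Algebra k K := φ.hom.toAlgebra
  have hφ : Spec.map φ = sE k K := rfl
  let e := h.isoPullback
  have he1 : e.hom ≫ pullback.fst b (Spec.map φ) = t := h.isoPullback_hom_fst
  have himg := image_connectedComponent (K := K) V b (e.hom w)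
  have htw : ∀ z : W, pullback.fst b (sE k K) (e.hom z) = t z := by
    intro z
    show pullback.fst b (Spec.map φ) (e.hom z) = t z
    rw [← Scheme.Hom.comp_apply, he1]
  rw [htw, ← iso_image_connectedComponent e w] at himg
  rw [← himg]
  ext v
  constructor
  · rintro ⟨z, hz, rfl⟩
    exact ⟨e.hom z, ⟨z, hz, rfl⟩, htw z⟩
  · rintro ⟨_, ⟨z, hz, rfl⟩, rfl⟩
    exact ⟨z, hz, (htw z).symm⟩

end Field

section SepClosed

variable {Ω : Type u} [Field Ω] [IsSepClosed Ω]

theorem geometricallyConnected_of_isSepClosed {Z : Scheme.{u}} [ConnectedSpace Z]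
    (a : Z ⟶ Spec (.of Ω)) : GeometricallyConnected a := by
  letI : Z.Over (Spec (CommRingCat.of Ω)) := ⟨a⟩
  have key := (Groth.Agent.S7591.result Ω Z).mpr ?_
  · exact key
  intro k' _ _ _ _
  have hbij : Function.Bijective (algebraMap Ω k') := IsSepClosed.algebraMap_bijective Ω k'
  haveI : IsIso (CommRingCat.ofHom (algebraMap Ω k')) := by
    rw [ConcreteCategory.isIso_iff_bijective]
    exact hbij
  haveI : IsIso (Spec.map (CommRingCat.ofHom (algebraMap Ω k'))) := inferInstance
  haveI : IsIso (pullback.fst (Z ↘ Spec (CommRingCat.of Ω))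
      (Spec.map (CommRingCat.ofHom (algebraMap Ω k')))) := inferInstance
  let e := asIso (pullback.fst (Z ↘ Spec (CommRingCat.of Ω))
      (Spec.map (CommRingCat.ofHom (algebraMap Ω k'))))
  have hsurj : Function.Surjective e.inv := by
    intro z
    refine ⟨e.hom z, ?_⟩
    rw [← Scheme.Hom.comp_apply, e.hom_inv_id]; rfl
  exact hsurj.connectedSpace e.inv.continuous

variable {Ω' : Type u} [Field Ω'] (ψ : CommRingCat.of Ω ⟶ CommRingCat.of Ω')
  {Z Z' : Scheme.{u}} (a : Z ⟶ Spec (.of Ω)) (a' : Z' ⟶ Spec (.of Ω')) (τ : Z' ⟶ Z)
  (h : IsPullback τ a' a (Spec.map ψ))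

include h in
theorem isPreconnected_fibre_of_isSepClosed (v : Z) : _root_.IsPreconnected (τ ⁻¹' {v}) := by
  let c : Spec (Z.residueField v) ⟶ Spec (.of Ω) := Z.fromSpecResidueField v ≫ a
  haveI : GeometricallyConnected c := geometricallyConnected_of_isSepClosed c
  haveI hP : ConnectedSpace ↥(pullback c (Spec.map ψ)) :=
    GeometricallyConnected.geometrically_connectedSpace (f := c) (K := Ω') (Spec.map ψ)
      (pullback.fst c (Spec.map ψ)) (pullback.snd c (Spec.map ψ))
      (IsPullback.of_hasPullback c (Spec.map ψ))
  let hv : pullback c (Spec.map ψ) ⟶ Z' :=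
    h.lift (pullback.fst c (Spec.map ψ) ≫ Z.fromSpecResidueField v)
      (pullback.snd c (Spec.map ψ)) (by rw [Category.assoc]; exact pullback.condition)
  have hv1 : hv ≫ τ = pullback.fst c (Spec.map ψ) ≫ Z.fromSpecResidueField v := h.lift_fst _ _ _
  have hv2 : hv ≫ a' = pullback.snd c (Spec.map ψ) := h.lift_snd _ _ _
  have hpb : IsPullback hv (pullback.fst c (Spec.map ψ)) τ (Z.fromSpecResidueField v) := by
    refine IsPullback.of_right (h₁₁ := hv) ?_ hv1 h.flip
    rw [hv2]
    exact (IsPullback.of_hasPullback c (Spec.map ψ)).flip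
  have hrange : τ ⁻¹' {v} = Set.range hv := by
    ext u
    constructor
    · intro hu
      have hu' : τ u = Z.fromSpecResidueField v
          (IsLocalRing.closedPoint (Z.residueField v)) := by
        rw [Scheme.fromSpecResidueField_apply]; exact hu
      obtain ⟨p, hp, -⟩ := exists_preimage_of_isPullback hpb u _ hu'
      exact ⟨p, hp⟩
    · rintro ⟨p, rfl⟩
      show τ (hv p) = v
      rw [← Scheme.Hom.comp_apply, hv1, Scheme.Hom.comp_apply, Scheme.fromSpecResidueField_apply]
  rw [hrange]
  exact isPreconnected_range hv.continuous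

include h in
theorem connectedComponentsMap_bijective_of_isSepClosed :
    Function.Bijective τ.continuous.connectedComponentsMap := by
  constructor
  · intro c₁ c₂ hc
    obtain ⟨w₁, rfl⟩ := ConnectedComponents.surjective_coe c₁
    obtain ⟨w₂, rfl⟩ := ConnectedComponents.surjective_coe c₂
    rw [Continuous.connectedComponentsMap_mk, Continuous.connectedComponentsMap_mk,
      ConnectedComponents.coe_eq_coe] at hc
    rw [ConnectedComponents.coe_eq_coe]
    have himg := image_connectedComponent_of_isPullback ψ a a' τ h w₂
    have hmem : τ w₁ ∈ τ '' connectedComponent w₂ := by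
      rw [himg, ← hc]; exact mem_connectedComponent
    obtain ⟨u, hu, huw⟩ := hmem
    have hpre := isPreconnected_fibre_of_isSepClosed ψ a a' τ h (τ w₁)
    have hw₁ : w₁ ∈ connectedComponent u :=
      hpre.subset_connectedComponent (x := u) huw (show τ w₁ = τ w₁ from rfl)
    rw [connectedComponent_eq hu, ← connectedComponent_eq hw₁]
  · haveI : Surjective (Spec.map ψ) := surjective_to_spec_field _
    haveI : Surjective τ := MorphismProperty.of_isPullback (P := @Surjective) h.flip inferInstance
    exact Continuous.connectedComponentsMap_surjective _ τ.surjective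

end SepClosed

section Count

variable {X Y X' Y' : Scheme.{u}} (f : X ⟶ Y) (f' : X' ⟶ Y') (g' : X' ⟶ X) (g : Y' ⟶ Y)
    (hc : IsPullback g' f' f g)

include hc in
theorem nGeomConnComp_baseChange (y' : Y') :
    MoreMor.nGeomConnComp f' y' = MoreMor.nGeomConnComp f (g y') := by
  unfold MoreMor.nGeomConnComp MoreMor.geomFiber
  let φ := g.residueFieldMap y'
  letI : Algebra (Y.residueField (g y')) (SeparableClosure (Y'.residueField y')) :=
    ((algebraMap (Y'.residueField y') (SeparableClosure (Y'.residueField y'))).comp φ.hom).toAlgebra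
  let ψ₀ : SeparableClosure (Y.residueField (g y')) →ₐ[Y.residueField (g y')]
      SeparableClosure (Y'.residueField y') := IsSepClosed.lift
  let ψ : CommRingCat.of (SeparableClosure (Y.residueField (g y'))) ⟶
      CommRingCat.of (SeparableClosure (Y'.residueField y')) := CommRingCat.ofHom ψ₀.toRingHom
  let i := Spec.map (CommRingCat.ofHom
    (algebraMap (Y.residueField (g y')) (SeparableClosure (Y.residueField (g y')))))
  let i' := Spec.map (CommRingCat.ofHom
    (algebraMap (Y'.residueField y') (SeparableClosure (Y'.residueField y'))))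
  have hcompat : i' ≫ Spec.map φ = Spec.map ψ ≫ i := by
    rw [← Spec.map_comp, ← Spec.map_comp]
    congr 1
    refine CommRingCat.hom_ext (RingHom.ext fun x => ?_)
    exact (ψ₀.commutes x).symm
  let b := f.fiberToSpecResidueField (g y')
  let b' := f'.fiberToSpecResidueField y'
  let T := fibreMap f f' g' g hc y'
  have hT : IsPullback T b' b (Spec.map φ) := isPullback_fibreMap f f' g' g hc y'
  let τ : pullback b' i' ⟶ pullback b i :=
    pullback.lift (pullback.fst b' i' ≫ T) (pullback.snd b' i' ≫ Spec.map ψ) (by
      rw [Category.assoc, hT.w, ← Category.assoc, pullback.condition, Category.assoc,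
        Category.assoc, hcompat])
  have hτ1 : τ ≫ pullback.fst b i = pullback.fst b' i' ≫ T := pullback.lift_fst _ _ _
  have hτ2 : τ ≫ pullback.snd b i = pullback.snd b' i' ≫ Spec.map ψ := pullback.lift_snd _ _ _
  have hpb : IsPullback τ (pullback.snd b' i') (pullback.snd b i) (Spec.map ψ) := by
    refine IsPullback.of_right (h₁₁ := τ) ?_ hτ2 (IsPullback.of_hasPullback b i)
    rw [hτ1, ← hcompat]
    exact (IsPullback.of_hasPullback b' i').paste_horiz hT
  exact ENat.card_congr (Equiv.ofBijective _
    (connectedComponentsMap_bijective_of_isSepClosed ψ (pullback.snd b i) (pullback.snd b' i')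
      τ hpb))

end Count

end Groth.Agent.Helper7.GeomConn
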