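import Mathlib
import Groth.Agent.Lib.Helper7.GeomConn.CompCount
import Groth.Agent.S1538

set_option autoImplicit false
set_option linter.style.haveILetI false
set_option linter.unusedVariables false
set_option linter.unusedSectionVars false
set_option backward.isDefEq.respectTransparency.types false

universe u

/-! helper7: the number of irreducible components of the geometric fibres commutes with base change (irreducible over a separably closed field is geometrically irreducible, via S1538) -/

open CategoryTheory AlgebraicGeometry TopologicalSpace Opposite Limits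

namespace Groth.Agent.Helper7.GeomConn

section SepClosed

variable {Ω : Type u} [Field Ω] [IsSepClosed Ω]

theorem geometricallyIrreducible_of_isSepClosed {Z : Scheme.{u}} [IrreducibleSpace Z]
    (a : Z ⟶ Spec (.of Ω)) : GeometricallyIrreducible a := by
  letI : Z.Over (Spec (CommRingCat.of Ω)) := ⟨a⟩
  have hbij : Function.Bijective (algebraMap Ω (SeparableClosure Ω)) :=
    IsSepClosed.algebraMap_bijective Ω (SeparableClosure Ω)
  haveI : IsIso (CommRingCat.ofHom (algebraMap Ω (SeparableClosure Ω))) := by
    rw [ConcreteCategory.isIso_iff_bijective]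
    exact hbij
  haveI : IsIso (Spec.map (CommRingCat.ofHom (algebraMap Ω (SeparableClosure Ω)))) := inferInstance
  haveI : IsIso (pullback.fst (Z ↘ Spec (CommRingCat.of Ω))
      (Spec.map (CommRingCat.ofHom (algebraMap Ω (SeparableClosure Ω))))) := inferInstance
  let e := asIso (pullback.fst (Z ↘ Spec (CommRingCat.of Ω))
      (Spec.map (CommRingCat.ofHom (algebraMap Ω (SeparableClosure Ω)))))
  have hsurj : Function.Surjective e.inv := by
    intro z
    refine ⟨e.hom z, ?_⟩
    rw [← Scheme.Hom.comp_apply, e.hom_inv_id]; rfl
  haveI : IrreducibleSpace (Curv2.bc Ω Z (SeparableClosure Ω)) :=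
    hsurj.irreducibleSpace e.inv.continuous
  exact Groth.Agent.S1538.result Ω Z

variable {Ω' : Type u} [Field Ω'] (ψ : CommRingCat.of Ω ⟶ CommRingCat.of Ω')
  {Z Z' : Scheme.{u}} (a : Z ⟶ Spec (.of Ω)) (a' : Z' ⟶ Spec (.of Ω')) (τ : Z' ⟶ Z)
  (h : IsPullback τ a' a (Spec.map ψ))

include h in
theorem encard_irreducibleComponents_of_isSepClosed :
    (irreducibleComponents ↥Z').encard = (irreducibleComponents ↥Z).encard := by
  haveI : GeometricallyIrreducible (Spec.map ψ) := geometricallyIrreducible_of_isSepClosed _
  haveI : GeometricallyIrreducible τ :=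
    MorphismProperty.of_isPullback (P := @GeometricallyIrreducible) h.flip inferInstance
  haveI : UniversallyOpen (Spec.map ψ) := inferInstance
  haveI : UniversallyOpen τ :=
    MorphismProperty.of_isPullback (P := @UniversallyOpen) h.flip inferInstance
  exact Set.encard_congr (τ.irreducibleComponentsEquiv τ.isOpenMap)

end SepClosed

section Count

variable {X Y X' Y' : Scheme.{u}} (f : X ⟶ Y) (f' : X' ⟶ Y') (g' : X' ⟶ X) (g : Y' ⟶ Y)
    (hc : IsPullback g' f' f g)

include hc in
theorem exists_isPullback_geomFiber (y' : Y') :
    ∃ (ψ : CommRingCat.of (SeparableClosure (Y.residueField (g y'))) ⟶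
        CommRingCat.of (SeparableClosure (Y'.residueField y')))
      (τ : MoreMor.geomFiber f' y' ⟶ MoreMor.geomFiber f (g y')),
      IsPullback τ
        (pullback.snd (f'.fiberToSpecResidueField y') (Spec.map (CommRingCat.ofHom
          (algebraMap (Y'.residueField y') (SeparableClosure (Y'.residueField y'))))))
        (pullback.snd (f.fiberToSpecResidueField (g y')) (Spec.map (CommRingCat.ofHom
          (algebraMap (Y.residueField (g y')) (SeparableClosure (Y.residueField (g y')))))))
        (Spec.map ψ) := by
  unfold MoreMor.geomFiber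
  let φ := g.residueFieldMap y'
  letI : Algebra (Y.residueField (g y')) (SeparableClosure (Y'.residueField y')) :=
    ((algebraMap (Y'.residueField y') (SeparableClosure (Y'.residueField y'))).comp φ.hom).toAlgebra
  let ψ₀ : SeparableClosure (Y.residueField (g y')) →ₐ[Y.residueField (g y')]
      SeparableClosure (Y'.residueField y') := IsSepClosed.lift
  let ψ : CommRingCat.of (SeparableClosure (Y.residueField (g y'))) ⟶
      CommRingCat.of (SeparableClosure (Y'.residueField y')) := CommRingCat.ofHom ψ₀.toRingHom
  let i := Spec.map (CommRingCat.ofHom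
    (algebraMap (Y.residueField (g y')) (SeparableClosure (Y.residueField (g y')))))
  let i' := Spec.map (CommRingCat.ofHom
    (algebraMap (Y'.residueField y') (SeparableClosure (Y'.residueField y'))))
  have hcompat : i' ≫ Spec.map φ = Spec.map ψ ≫ i := by
    rw [← Spec.map_comp, ← Spec.map_comp]
    congr 1
    refine CommRingCat.hom_ext (RingHom.ext fun x => ?_)
    exact (ψ₀.commutes x).symm
  let b := f.fiberToSpecResidueField (g y')
  let b' := f'.fiberToSpecResidueField y'
  let T := fibreMap f f' g' g hc y'
  have hT : IsPullback T b' b (Spec.map φ) := isPullback_fibreMap f f' g' g hc y'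
  let τ : pullback b' i' ⟶ pullback b i :=
    pullback.lift (pullback.fst b' i' ≫ T) (pullback.snd b' i' ≫ Spec.map ψ) (by
      rw [Category.assoc, hT.w, ← Category.assoc, pullback.condition, Category.assoc,
        Category.assoc, hcompat])
  have hτ1 : τ ≫ pullback.fst b i = pullback.fst b' i' ≫ T := pullback.lift_fst _ _ _
  have hτ2 : τ ≫ pullback.snd b i = pullback.snd b' i' ≫ Spec.map ψ := pullback.lift_snd _ _ _
  have hpb : IsPullback τ (pullback.snd b' i') (pullback.snd b i) (Spec.map ψ) := by
    refine IsPullback.of_right (h₁₁ := τ) ?_ hτ2 (IsPullback.of_hasPullback b i)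
    rw [hτ1, ← hcompat]
    exact (IsPullback.of_hasPullback b' i').paste_horiz hT
  exact ⟨ψ, τ, hpb⟩

include hc in
theorem nGeomIrredComp_baseChange (y' : Y') :
    MoreMor.nGeomIrredComp f' y' = MoreMor.nGeomIrredComp f (g y') := by
  obtain ⟨ψ, τ, hpb⟩ := exists_isPullback_geomFiber f f' g' g hc y'
  unfold MoreMor.nGeomIrredComp
  exact encard_irreducibleComponents_of_isSepClosed ψ _ _ τ hpb

end Count

end Groth.Agent.Helper7.GeomConn
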