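import Mathlib
import Groth.Agent.Lib.Helper4.ProperPush1
import Groth.Agent.Lib.Helper7.GeomConn.SchemeGlue

set_option linter.style.haveILetI false
set_option linter.unusedVariables false
set_option linter.unusedSectionVars false
set_option autoImplicit false
set_option backward.isDefEq.respectTransparency.types false

universe u

/-! helper7: gluing sections over the affine opens inside an open; on a normal integral scheme elements of the function field integral over sections are sections; for a fibration with normal source R(Y) is algebraically closed in R(X) (S14821) -/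

open CategoryTheory CategoryTheory.Limits AlgebraicGeometry TopologicalSpace Opposite
open Groth.Agent.Lib.Helper4.ProperPush1 Groth.Agent.Lib.Helper4.ZMTBirational

namespace Groth.Agent.Helper7.GeomConn.NG

section Glue

/-- gluing a family of sections over all affine opens inside `U`, compatible with restriction -/
theorem exists_section_of_affine_family_le (X : Scheme.{u}) (U : X.Opens)
    (s : ∀ W : X.affineOpens, W.1 ≤ U → Γ(X, W.1))
    (hs : ∀ (V W : X.affineOpens) (hV : V.1 ≤ U) (hW : W.1 ≤ U) (h : V.1 ≤ W.1),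
      X.presheaf.map (homOfLE h).op (s W hW) = s V hV) :
    ∃ a : Γ(X, U), ∀ (W : X.affineOpens) (hW : W.1 ≤ U),
      X.presheaf.map (homOfLE hW).op a = s W hW := by
  let ι := {W : X.affineOpens // W.1 ≤ U}
  let Uf : ι → X.Opens := fun i => i.1.1
  let sf : ∀ i : ι, Γ(X, Uf i) := fun i => s i.1 i.2
  have hcompat : TopCat.Presheaf.IsCompatible X.presheaf Uf sf := by
    intro i j
    apply eq_of_forall_affine_le X (Uf i ⊓ Uf j)
    intro V hV
    have h1 : V.1 ≤ i.1.1 := hV.trans inf_le_left
    have h2 : V.1 ≤ j.1.1 := hV.trans inf_le_right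
    rw [← ConcreteCategory.comp_apply, ← ConcreteCategory.comp_apply, ← Functor.map_comp,
      ← Functor.map_comp]
    exact (hs V i.1 (h1.trans i.2) i.2 h1).trans (hs V j.1 (h1.trans i.2) j.2 h2).symm
  have hcov : U ≤ iSup Uf := by
    intro x hx
    obtain ⟨V, hVaff, hxV, hVU⟩ := Opens.isBasis_iff_nbhd.mp X.isBasis_affineOpens hx
    exact Opens.mem_iSup.mpr ⟨⟨⟨V, hVaff⟩, hVU⟩, hxV⟩
  obtain ⟨a, ha, -⟩ := X.sheaf.existsUnique_gluing' (U := Uf) U
    (fun i => homOfLE i.2) hcov sf hcompat
  exact ⟨a, fun W hW => ha ⟨W, hW⟩⟩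

end Glue

section Normal

variable {X : Scheme.{u}} [IsIntegral X]

/-- on a normal integral scheme, an element of the function field integral over the sections over a
nonempty open `W` is a section over `W` -/
theorem exists_section_of_isIntegral (hN : ∀ x : X, IsIntegrallyClosed (X.presheaf.stalk x))
    (W : X.Opens) [Nonempty W] (x : X.functionField) (hx : IsIntegral Γ(X, W) x) :
    ∃ a : Γ(X, W), (X.germToFunctionField W).hom a = x := by
  classical
  obtain ⟨P, hPm, hP⟩ := hx
  -- local solutions
  have hloc : ∀ (V : X.affineOpens) (hV : V.1 ≤ W) [Nonempty V.1],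
      ∃ c : Γ(X, V.1), (X.germToFunctionField V.1).hom c = x := by
    intro V hV _
    haveI : IsIntegrallyClosed Γ(X, V.1) := isIntegrallyClosed_sections hN V.2
    haveI := functionField_isFractionRing_of_isAffineOpen X V.1 V.2
    have hint : IsIntegral Γ(X, V.1) x := by
      refine ⟨P.map (X.presheaf.map (homOfLE hV).op).hom, hPm.map _, ?_⟩
      rw [Polynomial.eval₂_map]
      have : (algebraMap Γ(X, V.1) X.functionField).comp (X.presheaf.map (homOfLE hV).op).hom =
          algebraMap Γ(X, W) X.functionField := by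
        ext t
        have hηV : genericPoint X ∈ V.1 :=
          ((genericPoint_spec X).mem_open_set_iff V.1.isOpen).mpr (by simpa using ‹Nonempty V.1›)
        exact congrArg (fun φ : Γ(X, W) ⟶ X.functionField => φ.hom t)
          (X.presheaf.germ_res (homOfLE hV) (genericPoint X) hηV)
      rw [this]
      exact hP
    exact IsIntegrallyClosed.isIntegral_iff.mp hint
  let s : ∀ V : X.affineOpens, V.1 ≤ W → Γ(X, V.1) := fun V hV =>
    if h : Nonempty V.1 then (hloc V hV).choose else 0
  have hsne : ∀ (V : X.affineOpens) (hV : V.1 ≤ W) [Nonempty V.1],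
      (X.germToFunctionField V.1).hom (s V hV) = x := by
    intro V hV h
    simp only [s, dif_pos h]
    exact (hloc V hV).choose_spec
  obtain ⟨a, ha⟩ := exists_section_of_affine_family_le X W s (by
    intro V V' hV hV' h
    by_cases hne : Nonempty V.1
    · haveI := hne
      haveI : Nonempty V'.1 := ⟨⟨hne.some.1, h hne.some.2⟩⟩
      apply X.germToFunctionField_injective V.1
      rw [hsne V hV]
      have := congrArg (fun φ => φ.hom (s V' hV')) (X.presheaf.germ_res (homOfLE h) (genericPoint X)
        (((genericPoint_spec X).mem_open_set_iff V.1.isOpen).mpr (by simpa using hne)))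
      exact this.trans (hsne V' hV')
    · have hbot : V.1 = ⊥ := by
        ext z
        simp only [Opens.coe_bot, Set.mem_empty_iff_false, iff_false]
        intro hz
        exact hne ⟨⟨z, hz⟩⟩
      haveI : Subsingleton Γ(X, V.1) := by rw [hbot]; infer_instance
      exact Subsingleton.elim _ _)
  refine ⟨a, ?_⟩
  -- evaluate on a nonempty affine inside `W`
  obtain ⟨V, hVaff, hηV, hVW⟩ := Opens.isBasis_iff_nbhd.mp X.isBasis_affineOpens
    (show genericPoint X ∈ W from
      ((genericPoint_spec X).mem_open_set_iff W.isOpen).mpr (by simpa using ‹Nonempty W›))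
  haveI : Nonempty V := ⟨⟨_, hηV⟩⟩
  have h1 := hsne ⟨V, hVaff⟩ hVW
  rw [← ha ⟨V, hVaff⟩ hVW] at h1
  rw [← h1]
  exact (congrArg (fun φ => φ.hom a) (X.presheaf.germ_res (homOfLE hVW) (genericPoint X) hηV)).symm

end Normal

section AlgClosed

variable {X Y : Scheme.{u}} [IsIntegral X] [IsIntegral Y] (f : X ⟶ Y)

/-- for a fibration `O_Y ≅ f_* O_X` with normal integral source, `R(Y)` is algebraically closed in
`R(X)` -/
theorem mem_range_of_isIntegralElem_of_fibration
    (hN : ∀ x : X, IsIntegrallyClosed (X.presheaf.stalk x))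
    (hdom : f.base (genericPoint X) ⤳ genericPoint Y)
    (hfib : ∀ U : Y.Opens, IsIso (f.app U))
    (x : X.functionField)
    (hx : (CohIII.stalkToFunctionField f (genericPoint Y) hdom).IsIntegralElem x) :
    x ∈ (CohIII.stalkToFunctionField f (genericPoint Y) hdom).range := by
  set Φ := CohIII.stalkToFunctionField f (genericPoint Y) hdom with hΦ
  obtain ⟨U₀, hU₀, hηU₀, -⟩ := Opens.isBasis_iff_nbhd.mp Y.isBasis_affineOpens
    (show genericPoint Y ∈ (⊤ : Y.Opens) from trivial)
  haveI : Nonempty U₀ := ⟨⟨_, hηU₀⟩⟩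
  have hξW : genericPoint X ∈ f ⁻¹ᵁ U₀ := hdom.mem_open U₀.2 hηU₀
  haveI : Nonempty (f ⁻¹ᵁ U₀ : X.Opens) := ⟨⟨_, hξW⟩⟩
  haveI := functionField_isFractionRing_of_isAffineOpen Y U₀ hU₀
  letI a1 : Algebra Y.functionField X.functionField := Φ.toAlgebra
  letI a2 : Algebra Γ(Y, U₀) X.functionField :=
    (Φ.comp (algebraMap Γ(Y, U₀) Y.functionField)).toAlgebra
  haveI : IsScalarTower Γ(Y, U₀) Y.functionField X.functionField :=
    IsScalarTower.of_algebraMap_eq' rfl
  have hint : IsIntegral Y.functionField x := hx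
  have halg : IsAlgebraic Γ(Y, U₀) x :=
    (IsFractionRing.isAlgebraic_iff Γ(Y, U₀) Y.functionField X.functionField).mpr
      hint.isAlgebraic
  obtain ⟨s, hs0, hsx⟩ := halg.exists_integral_multiple
  have hsq : ∀ a : Γ(Y, U₀), algebraMap Γ(Y, U₀) X.functionField a =
      (X.germToFunctionField (f ⁻¹ᵁ U₀)).hom ((f.app U₀).hom a) :=
    fun a => stalkToFunctionField_germ f hdom U₀ hηU₀ a
  have hint2 : IsIntegral Γ(X, f ⁻¹ᵁ U₀) (s • x) := by
    obtain ⟨P, hPm, hP⟩ := hsx
    refine ⟨P.map (f.app U₀).hom, hPm.map _, ?_⟩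
    rw [Polynomial.eval₂_map]
    have : (algebraMap Γ(X, f ⁻¹ᵁ U₀) X.functionField).comp (f.app U₀).hom =
        algebraMap Γ(Y, U₀) X.functionField := by
      ext a; exact (hsq a).symm
    rw [this]; exact hP
  obtain ⟨a, ha⟩ := exists_section_of_isIntegral hN (f ⁻¹ᵁ U₀) (s • x) hint2
  haveI := hfib U₀
  obtain ⟨b, hb⟩ := (ConcreteCategory.bijective_of_isIso (f.app U₀)).2 a
  have h1 : s • x = Φ (algebraMap Γ(Y, U₀) Y.functionField b) := by
    rw [← ha, ← hb]; exact (hsq b).symm
  have hs' : algebraMap Γ(Y, U₀) Y.functionField s ≠ 0 := by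
    intro h0
    exact hs0 ((IsFractionRing.injective Γ(Y, U₀) Y.functionField) (by rw [h0, map_zero]))
  refine ⟨algebraMap Γ(Y, U₀) Y.functionField b / algebraMap Γ(Y, U₀) Y.functionField s, ?_⟩
  rw [map_div₀, ← h1]
  have h2 : s • x = Φ (algebraMap Γ(Y, U₀) Y.functionField s) * x := rfl
  rw [h2]
  have h3 : Φ (algebraMap Γ(Y, U₀) Y.functionField s) ≠ 0 := (map_ne_zero Φ).mpr hs'
  field_simp

end AlgClosed

end Groth.Agent.Helper7.GeomConn.NG
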