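import Mathlib
import Groth.Agent.Lib.Helper7.GeomConn.ZarNormal

set_option linter.style.haveILetI false
set_option linter.unusedVariables false
set_option linter.unusedSectionVars false
set_option autoImplicit false
set_option backward.isDefEq.respectTransparency.types false

universe u

/-! helper7: Stein factorisation over a locally Noetherian base: first factor is a fibration over preimages of affines, has preconnected fibres; connected components of fibres = points of the fibre of the finite part (S4463) -/

open CategoryTheory CategoryTheory.Limits AlgebraicGeometry TopologicalSpace Opposite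
open Groth.Agent.Lib.Helper4.ProperPush1

namespace Groth.Agent.Helper7.GeomConn.ZC

section Stein

variable {X Y : Scheme.{u}} (f : X ⟶ Y) [IsProper f]

/-- the Stein factor of a proper morphism is a fibration over the preimages of affine opens -/
theorem isIso_toNormalization_app_preimage (U : Y.Opens) (hU : IsAffineOpen U) :
    IsIso (f.toNormalization.app (f.fromNormalization ⁻¹ᵁ U)) := by
  letI := (f.app U).hom.toAlgebra
  have hint : Algebra.IsIntegral Γ(Y, U) Γ(X, f ⁻¹ᵁ U) := ⟨isIntegral_app_of_isProper f U hU⟩
  have htop : integralClosure Γ(Y, U) Γ(X, f ⁻¹ᵁ U) = ⊤ := integralClosure_eq_top_iff.mpr hint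
  have h := f.toNormalization_app_preimage ⟨U, hU⟩
  dsimp only at h
  rw [h]
  have h2 : IsIso (CommRingCat.ofHom
      (integralClosure Γ(Y, U) Γ(X, f ⁻¹ᵁ U)).val.toRingHom) := by
    rw [ConcreteCategory.isIso_iff_bijective]
    constructor
    · exact Subtype.val_injective
    · intro s
      exact ⟨⟨s, by rw [htop]; trivial⟩, rfl⟩
  have key : ∀ {C : Type (u + 1)} [Category.{u} C] {A B : C} (e : A = B), IsIso (eqToHom e) :=
    fun e => inferInstance
  refine @IsIso.comp_isIso _ _ _ _ _ _ _ inferInstance (@IsIso.comp_isIso _ _ _ _ _ _ _ h2 ?_)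
  rw [eqToHom_op, eqToHom_map]
  exact key _

variable [IsLocallyNoetherian Y]

theorem isFinite_fromNormalization' : IsFinite f.fromNormalization :=
  Groth.Agent.Helper1.Stein.isFinite_fromNormalization f

theorem isProper_toNormalization : IsProper f.toNormalization := by
  haveI : IsProper (f.toNormalization ≫ f.fromNormalization) := by
    rw [f.toNormalization_fromNormalization]; infer_instance
  exact IsProper.of_comp f.toNormalization f.fromNormalization

/-- the fibres of the first Stein factor are preconnected -/
theorem isPreconnected_toNormalization_preimage (y' : f.normalization) :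
    _root_.IsPreconnected (f.toNormalization ⁻¹' {y'}) := by
  haveI := isFinite_fromNormalization' f
  haveI : IsLocallyNoetherian f.normalization :=
    LocallyOfFiniteType.isLocallyNoetherian f.fromNormalization
  haveI := isProper_toNormalization f
  obtain ⟨U, hUaff, hyU, -⟩ := Opens.isBasis_iff_nbhd.mp Y.isBasis_affineOpens
    (show f.fromNormalization y' ∈ (⊤ : Y.Opens) from trivial)
  exact isPreconnected_preimage_singleton f.toNormalization y' (f.fromNormalization ⁻¹ᵁ U)
    (hUaff.preimage f.fromNormalization) hyU (isIso_toNormalization_app_preimage f U hUaff)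

/-- **Stein factorisation and connected components of fibres** -/
theorem stein_fibre (y : Y) :
    Finite ↥(f.fromNormalization.fiber y) ∧
    Function.Surjective (CohIII.fiberMapOver f.toNormalization f f.fromNormalization
        f.toNormalization_fromNormalization y).base ∧
    ∀ x x' : ↥(f.fiber y),
      (CohIII.fiberMapOver f.toNormalization f f.fromNormalization
          f.toNormalization_fromNormalization y).base x =
        (CohIII.fiberMapOver f.toNormalization f f.fromNormalization
          f.toNormalization_fromNormalization y).base x' ↔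
      connectedComponent x = connectedComponent x' := by
  haveI := isFinite_fromNormalization' f
  set ν := f.fromNormalization with hν
  set f' := f.toNormalization with hf'
  set φ := CohIII.fiberMapOver f' f ν f.toNormalization_fromNormalization y with hφ
  let ι := f.fiberι y
  let ι' := ν.fiberι y
  have hfac : φ ≫ ι' = ι ≫ f' := by
    rw [hφ]
    unfold CohIII.fiberMapOver
    exact pullback.lift_fst _ _ _
  have hfac' : ∀ x : ↥(f.fiber y), ι' (φ x) = f' (ι x) := by
    intro x
    have := congrArg (fun ψ : f.fiber y ⟶ f.normalization => ψ x) hfac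
    simpa using this
  have hw : ∀ x₀ : X, ν (f' x₀) = f x₀ := by
    intro x₀
    have := congrArg (fun ψ : X ⟶ Y => ψ x₀) f.toNormalization_fromNormalization
    exact this
  have hι'inj : Function.Injective ι' := (ν.fiberι y).isEmbedding.injective
  have hι'y : ∀ z : ↥(ν.fiber y), ν (ι' z) = y := by
    intro z
    have : ι' z ∈ Set.range (ν.fiberι y) := ⟨z, rfl⟩
    rw [ν.range_fiberι] at this
    exact this
  -- lifting points of `X` over a point of the fibre of `Y'`
  have hlift : ∀ (z : ↥(ν.fiber y)) (x₀ : X), f' x₀ = ι' z → ∃ x₁ : ↥(f.fiber y), ι x₁ = x₀ ∧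
      φ x₁ = z := by
    intro z x₀ hx₀
    have h1 : f x₀ = y := by rw [← hw, hx₀, hι'y]
    have h2 : x₀ ∈ Set.range (f.fiberι y) := by rw [f.range_fiberι]; exact h1
    obtain ⟨x₁, hx₁⟩ := h2
    refine ⟨x₁, hx₁, hι'inj ?_⟩
    rw [hfac' x₁]
    show f' (f.fiberι y x₁) = ι' z
    rw [hx₁, hx₀]
  haveI : Surjective f' := inferInstance
  refine ⟨inferInstance, ?_, ?_⟩
  · intro z
    obtain ⟨x₀, hx₀⟩ := f'.surjective (ι' z)
    obtain ⟨x₁, -, hx₁⟩ := hlift z x₀ hx₀
    exact ⟨x₁, hx₁⟩
  · intro x x'
    constructor
    · intro hxx'
      have hS : _root_.IsPreconnected (φ ⁻¹' {φ x}) := by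
        have hemb : Topology.IsInducing ι := (f.fiberι y).isEmbedding.toIsInducing
        rw [← hemb.isPreconnected_image]
        have himg : ι '' (φ ⁻¹' {φ x}) = f' ⁻¹' {ι' (φ x)} := by
          ext x₀
          constructor
          · rintro ⟨x₁, hx₁, rfl⟩
            show f' (ι x₁) = ι' (φ x)
            rw [← hfac' x₁, hx₁]
          · intro hx₀
            obtain ⟨x₁, hx₁, hx₁'⟩ := hlift (φ x) x₀ hx₀
            exact ⟨x₁, hx₁', hx₁⟩
        rw [himg]
        exact isPreconnected_toNormalization_preimage f _
      have h1 : φ ⁻¹' {φ x} ⊆ connectedComponent x :=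
        hS.subset_connectedComponent (show x ∈ φ ⁻¹' {φ x} from rfl)
      have h2 : x' ∈ connectedComponent x := h1 (show φ x' = φ x from hxx'.symm)
      exact connectedComponent_eq h2
    · intro hcc
      have hx' : x' ∈ connectedComponent x := by
        rw [hcc]; exact mem_connectedComponent
      have hpre : _root_.IsPreconnected (φ '' connectedComponent x) :=
        isPreconnected_connectedComponent.image _ φ.continuous.continuousOn
      exact (hpre.subsingleton ⟨x, mem_connectedComponent, rfl⟩ ⟨x', hx', rfl⟩)

end Stein

end Groth.Agent.Helper7.GeomConn.ZC
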