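import Mathlib
import Groth.Prelude.Def_CAlg2

set_option linter.style.haveILetI false
set_option linter.unusedVariables false
set_option linter.unusedSectionVars false
set_option autoImplicit false

universe u

/-! helper7: the integral closure of a unibranch local domain in a field extension whose algebraic part is radicial has a unique maximal ideal (algebra input for S4464) -/

namespace Groth.Agent.Helper7.GeomConn.ZC

/-- an integral radicial extension of a local ring has at most one maximal ideal -/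
theorem maximal_unique_of_integral_of_radicial {L B : Type*} [CommRing L] [IsLocalRing L]
    [CommRing B] (θ : L →+* B) (hθ : θ.IsIntegral)
    (hpow : ∀ b : B, ∃ n : ℕ, 0 < n ∧ b ^ n ∈ θ.range)
    (N₁ N₂ : Ideal B) [h₁ : N₁.IsMaximal] [h₂ : N₂.IsMaximal] : N₁ = N₂ := by
  have key : ∀ (N N' : Ideal B) [N.IsMaximal] [N'.IsMaximal], N ≤ N' := by
    intro N N' hN hN' b hb
    have e1 : N.comap θ = IsLocalRing.maximalIdeal L :=
      IsLocalRing.eq_maximalIdeal (Ideal.isMaximal_comap_of_isIntegral_of_isMaximal' θ hθ N)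
    have e2 : N'.comap θ = IsLocalRing.maximalIdeal L :=
      IsLocalRing.eq_maximalIdeal (Ideal.isMaximal_comap_of_isIntegral_of_isMaximal' θ hθ N')
    obtain ⟨n, hn, l, hl⟩ := hpow b
    have h1 : l ∈ N.comap θ := by
      rw [Ideal.mem_comap, hl]
      exact Ideal.pow_mem_of_mem N hb n hn
    rw [e1, ← e2, Ideal.mem_comap, hl] at h1
    exact hN'.isPrime.mem_of_pow_mem n h1
  exact le_antisymm (key N₁ N₂) (key N₂ N₁)

open Polynomial in
/-- Let `R` be a unibranch local domain with fraction field `K₀`, `K₀ → K` a field extension in which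
the algebraic closure of `K₀` is radicial over `K₀`. Then the integral closure of `R` in `K` has at
most one maximal ideal. -/
theorem maximal_unique_of_unibranch_of_radicial {R K₀ K : Type u} [CommRing R] [IsLocalRing R]
    [Field K₀] [Field K] [Algebra R K₀] [IsFractionRing R K₀] (hy : CAlg2.IsUnibranch R)
    (ι : K₀ →+* K) (ρ : R →+* K) (hρ : ρ = ι.comp (algebraMap R K₀)) (p : ℕ) (hp : 0 < p)
    (hrad : ∀ x : K, (∃ q : Polynomial K₀, q ≠ 0 ∧ Polynomial.eval₂ ι x q = 0) →
      ∃ e : ℕ, x ^ (p ^ e) ∈ Set.range ι)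
    (B : Subring K) (hB : ∀ x, x ∈ B ↔ ρ.IsIntegralElem x)
    (N₁ N₂ : Ideal B) [h₁ : N₁.IsMaximal] [h₂ : N₂.IsMaximal] : N₁ = N₂ := by
  haveI hdom : IsDomain (CAlg2.red R) := hy.1
  haveI hloc : IsLocalRing (CAlg2.normRed R) := hy.2
  have hιinj : Function.Injective ι := ι.injective
  have hρinj : Function.Injective ρ := by
    rw [hρ]
    exact hιinj.comp (IsFractionRing.injective R K₀)
  -- the map from the reduction
  let ρ' : CAlg2.red R →+* K := Ideal.Quotient.lift (nilradical R) ρ (by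
    intro a ha
    have h1 : IsNilpotent a := ha
    exact (h1.map ρ).eq_zero)
  have hρ'mk : ∀ a : R, ρ' (Ideal.Quotient.mk (nilradical R) a) = ρ a := fun a => rfl
  have hρ'inj : Function.Injective ρ' := by
    apply RingHom.lift_injective_of_ker_le_ideal
    rw [(RingHom.injective_iff_ker_eq_bot ρ).mp hρinj]
    exact bot_le
  let Θ : FractionRing (CAlg2.red R) →+* K := IsFractionRing.lift hρ'inj
  have hΘ : ∀ a : CAlg2.red R, Θ (algebraMap _ _ a) = ρ' a := fun a =>
    IsFractionRing.lift_algebraMap hρ'inj a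
  have hΘinj : Function.Injective Θ := Θ.injective
  let θ : CAlg2.normRed R →+* K :=
    Θ.comp (algebraMap (CAlg2.normRed R) (FractionRing (CAlg2.red R)))
  have hρ'comp : ρ'.comp (Ideal.Quotient.mk (nilradical R)) = ρ := RingHom.ext hρ'mk
  have hΘcomp : Θ.comp (algebraMap (CAlg2.red R) (FractionRing (CAlg2.red R))) = ρ' :=
    RingHom.ext hΘ
  have hmksurj : Function.Surjective (Ideal.Quotient.mk (nilradical R)) :=
    Ideal.Quotient.mk_surjective
  -- `θ` lands in `B`
  have hθB : ∀ l : CAlg2.normRed R, θ l ∈ B := by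
    intro l
    rw [hB]
    obtain ⟨P, hPm, hP0⟩ := l.2
    obtain ⟨Q, hQP, -, hQm⟩ := Polynomial.lifts_and_natDegree_eq_and_monic
      ((Polynomial.mem_lifts _).mpr (Polynomial.map_surjective _ hmksurj P)) hPm
    refine ⟨Q, hQm, ?_⟩
    rw [← hρ'comp, ← Polynomial.eval₂_map, hQP, ← hΘcomp]
    show Polynomial.eval₂ _ (Θ (l : FractionRing (CAlg2.red R))) P = 0
    rw [← Polynomial.hom_eval₂, hP0, map_zero]
  let θ' : CAlg2.normRed R →+* B := θ.codRestrict B hθB
  let σ : R →+* CAlg2.normRed R :=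
    (algebraMap (CAlg2.red R) (CAlg2.normRed R)).comp (Ideal.Quotient.mk (nilradical R))
  have hθσ : θ.comp σ = ρ := by
    ext a
    show Θ (algebraMap (CAlg2.normRed R) (FractionRing (CAlg2.red R))
      (algebraMap (CAlg2.red R) (CAlg2.normRed R) (Ideal.Quotient.mk (nilradical R) a))) = ρ a
    rw [← IsScalarTower.algebraMap_apply, hΘ, hρ'mk]
  have hθ' : θ'.IsIntegral := by
    intro b
    obtain ⟨Q, hQm, hQ0⟩ := (hB b.1).mp b.2
    refine ⟨Q.map σ, hQm.map σ, ?_⟩
    apply Subtype.ext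
    have h1 : (B.subtype) (Polynomial.eval₂ θ' b (Q.map σ)) =
        Polynomial.eval₂ (B.subtype.comp θ') (B.subtype b) (Q.map σ) :=
      Polynomial.hom_eval₂ _ _ _ _
    have h2 : B.subtype.comp θ' = θ := RingHom.ext fun l => rfl
    have h3 : Polynomial.eval₂ θ (B.subtype b) (Q.map σ) = 0 := by
      rw [Polynomial.eval₂_map, hθσ]
      exact hQ0
    show (B.subtype) (Polynomial.eval₂ θ' b (Q.map σ)) = 0
    rw [h1, h2, h3]
  have hpow : ∀ b : B, ∃ n : ℕ, 0 < n ∧ b ^ n ∈ θ'.range := by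
    intro b
    obtain ⟨Q, hQm, hQ0⟩ := (hB b.1).mp b.2
    have hq : ∃ q : Polynomial K₀, q ≠ 0 ∧ Polynomial.eval₂ ι b.1 q = 0 := by
      refine ⟨Q.map (algebraMap R K₀), (hQm.map _).ne_zero, ?_⟩
      rw [Polynomial.eval₂_map, ← hρ]
      exact hQ0
    obtain ⟨e, c, hc⟩ := hrad b.1 hq
    refine ⟨p ^ e, Nat.pow_pos hp, ?_⟩
    have hcB : ι c ∈ B := by
      rw [hc]
      exact B.pow_mem b.2 _
    obtain ⟨Q', hQ'm, hQ'0⟩ := (hB _).mp hcB
    obtain ⟨a, s, hs, rfl⟩ := IsFractionRing.div_surjective (A := R) c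
    let c' : FractionRing (CAlg2.red R) :=
      algebraMap (CAlg2.red R) (FractionRing (CAlg2.red R)) (Ideal.Quotient.mk (nilradical R) a) /
      algebraMap (CAlg2.red R) (FractionRing (CAlg2.red R)) (Ideal.Quotient.mk (nilradical R) s)
    have hΘc' : Θ c' = ι (algebraMap R K₀ a / algebraMap R K₀ s) := by
      show Θ (_ / _) = _
      rw [map_div₀, hΘ, hΘ, hρ'mk, hρ'mk, map_div₀, hρ]
      rfl
    have hc'int : IsIntegral (CAlg2.red R) c' := by
      refine ⟨Q'.map (Ideal.Quotient.mk (nilradical R)), hQ'm.map _, ?_⟩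
      apply hΘinj
      rw [Polynomial.hom_eval₂, hΘcomp, map_zero, Polynomial.eval₂_map, hρ'comp, hΘc']
      exact hQ'0
    refine ⟨⟨c', hc'int⟩, ?_⟩
    apply Subtype.ext
    show Θ c' = ((b ^ (p ^ e) : B) : K)
    rw [hΘc', hc]
    rfl
  exact maximal_unique_of_integral_of_radicial θ' hθ' hpow N₁ N₂

end Groth.Agent.Helper7.GeomConn.ZC
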