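import Mathlib
import Groth.Agent.Lib.Helper7.GeomConn.SteinCount
import Groth.Agent.Lib.Helper7.GeomConn.RadicialLocal

set_option linter.style.haveILetI false
set_option linter.unusedVariables false
set_option linter.unusedSectionVars false
set_option autoImplicit false
set_option backward.isDefEq.respectTransparency.types false

universe u

/-! helper7: fibres of a proper dominant morphism of integral schemes over unibranch points are connected when the algebraic closure of R(Y) in R(X) is radicial (S4464) -/

open CategoryTheory CategoryTheory.Limits AlgebraicGeometry TopologicalSpace Opposite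

namespace Groth.Agent.Helper7.GeomConn.ZC

section Unibranch

variable {X Y : Scheme.{u}} [IsIntegral X] [IsIntegral Y] (f : X ⟶ Y)

/-- `O_{Y,y} → R(X)` factors through `R(Y)` -/
theorem stalkToFunctionField_eq_comp (hdom : f.base (genericPoint X) ⤳ genericPoint Y) (y : Y)
    (h : f.base (genericPoint X) ⤳ y) :
    CohIII.stalkToFunctionField f y h =
      (CohIII.stalkToFunctionField f (genericPoint Y) hdom).comp
        (algebraMap (Y.presheaf.stalk y) Y.functionField) := by
  unfold CohIII.stalkToFunctionField
  rw [RingHom.comp_assoc]
  congr 1
  rw [RingHom.algebraMap_toAlgebra, ← CommRingCat.hom_comp, Y.presheaf.stalkSpecializes_comp]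

/-- a proper morphism of integral schemes mapping generic point to generic point is surjective -/
theorem surjective_of_isProper_of_dominant [IsProper f]
    (hdom : f.base (genericPoint X) ⤳ genericPoint Y) : Function.Surjective f := by
  intro y
  have h1 : f (genericPoint X) ⤳ y := hdom.trans ((genericPoint_spec Y).specializes trivial)
  have hcl : IsClosed (Set.range f) := f.isClosedMap.isClosed_range
  have h2 : y ∈ closure {f (genericPoint X)} := specializes_iff_mem_closure.mp h1
  exact hcl.closure_subset_iff.mpr (Set.singleton_subset_iff.mpr ⟨_, rfl⟩) h2

end Unibranch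

section Main

variable {X Y : Scheme.{u}} [IsIntegral X] [IsIntegral Y] [IsLocallyNoetherian Y] (f : X ⟶ Y)
  [IsProper f]

/-- a space whose set of connected components has at most one element is preconnected -/
theorem preconnectedSpace_of_subsingleton_connectedComponents {α : Type*} [TopologicalSpace α]
    [Subsingleton (_root_.ConnectedComponents α)] : PreconnectedSpace α := by
  constructor
  rcases isEmpty_or_nonempty α with he | ⟨⟨x⟩⟩
  · have : (Set.univ : Set α) = ∅ := Set.eq_empty_of_isEmpty _
    rw [this]; exact isPreconnected_empty
  · have : (Set.univ : Set α) = connectedComponent x := by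
      ext z
      simp only [Set.mem_univ, true_iff]
      have h1 : connectedComponent z = connectedComponent x :=
        ConnectedComponents.coe_eq_coe.mp (Subsingleton.elim _ _)
      rw [← h1]; exact mem_connectedComponent
    rw [this]; exact isPreconnected_connectedComponent

/-- **S4464**: fibres over unibranch points are connected when the algebraic closure of `R(Y)`
in `R(X)` is radicial. -/
theorem connectedSpace_fiber_of_unibranch_of_radicial
    (hdom : f.base (genericPoint X) ⤳ genericPoint Y)
    (hrad : ∀ x : X.functionField,
      (∃ q : Polynomial Y.functionField, q ≠ 0 ∧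
        Polynomial.eval₂ (CohIII.stalkToFunctionField f (genericPoint Y) hdom) x q = 0) →
      ∃ e : ℕ, x ^ (ringExpChar X.functionField ^ e) ∈
        Set.range (CohIII.stalkToFunctionField f (genericPoint Y) hdom))
    (y : Y) (hy : CAlg2.IsUnibranch (Y.presheaf.stalk y)) :
    ConnectedSpace ↥(f.fiber y) := by
  have h : f.base (genericPoint X) ⤳ y := hdom.trans ((genericPoint_spec Y).specializes trivial)
  have hp : 0 < ringExpChar X.functionField := by
    unfold ringExpChar
    exact lt_of_lt_of_le Nat.one_pos (le_max_right _ _)
  have hsub : Subsingleton (MaximalSpectrum (CohIII.integralClosureStalk f y h)) := by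
    constructor
    intro N₁ N₂
    have h1 : N₁.asIdeal = N₂.asIdeal :=
      @maximal_unique_of_unibranch_of_radicial _ _ _ _ _ _ _ _ _ hy
        (CohIII.stalkToFunctionField f (genericPoint Y) hdom)
        (CohIII.stalkToFunctionField f y h) (stalkToFunctionField_eq_comp f hdom y h)
        (ringExpChar X.functionField) hp hrad (CohIII.integralClosureStalk f y h)
        (fun x => Iff.rfl) N₁.asIdeal N₂.asIdeal N₁.isMaximal N₂.isMaximal
    exact MaximalSpectrum.ext h1
  have hcard := card_connectedComponents_fiber_le f y h
  have hsub2 : Subsingleton (_root_.ConnectedComponents ↥(f.fiber y)) := by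
    rw [← Cardinal.le_one_iff_subsingleton]
    exact hcard.trans (Cardinal.le_one_iff_subsingleton.mpr hsub)
  haveI := preconnectedSpace_of_subsingleton_connectedComponents (α := ↥(f.fiber y))
  obtain ⟨x, hx⟩ := surjective_of_isProper_of_dominant f hdom y
  have hx' : x ∈ Set.range (f.fiberι y) := by rw [f.range_fiberι]; exact hx
  obtain ⟨x₁, -⟩ := hx'
  haveI : Nonempty ↥(f.fiber y) := ⟨x₁⟩
  exact ConnectedSpace.mk inferInstance

end Main

end Groth.Agent.Helper7.GeomConn.ZC
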