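import Mathlib

set_option linter.style.haveILetI false
set_option linter.unusedVariables false
set_option linter.unusedSectionVars false
set_option autoImplicit false
set_option backward.isDefEq.respectTransparency.types false

universe u

/-! helper7: universal injectivity via generic points of components of the self-product on the diagonal; field-valued points and purely inseparable residue extensions; geometric connectedness of a composite with a universally injective surjection -/

open CategoryTheory CategoryTheory.Limits AlgebraicGeometry TopologicalSpace Opposite

namespace Groth.Agent.Helper7.GeomConn.UI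

section Top

variable {Z₀ P T : Type*} [TopologicalSpace Z₀] [TopologicalSpace P] [TopologicalSpace T]

/-- if every irreducible component of `Z₀` has dense image in `T` and `Z₀ → P` is surjective, the
generic point of every irreducible component of `P` maps to a generic point of `T` -/
theorem closure_image_genericPoint_eq_univ (q : Z₀ → P) (hq : Continuous q)
    (hqs : Function.Surjective q) (s : P → T) (hs : Continuous s)
    (h : ∀ Z ∈ irreducibleComponents Z₀, Dense (s '' (q '' Z)))
    (W : Set P) (hW : W ∈ irreducibleComponents P) (w : P) (hw : IsGenericPoint w W) :
    closure {s w} = Set.univ := by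
  obtain ⟨z, rfl⟩ := hqs w
  have hZ : irreducibleComponent z ∈ irreducibleComponents Z₀ :=
    irreducibleComponent_mem_irreducibleComponents z
  have hzZ : z ∈ irreducibleComponent z := mem_irreducibleComponent
  have hirr : IsIrreducible (closure (q '' irreducibleComponent z)) :=
    (isIrreducible_irreducibleComponent.image q hq.continuousOn).closure
  have hWsub : W ⊆ closure (q '' irreducibleComponent z) := by
    rw [← hw.def]
    exact closure_mono (Set.singleton_subset_iff.mpr ⟨z, hzZ, rfl⟩)
  have hsub : closure (q '' irreducibleComponent z) ⊆ W := hW.2 hirr hWsub
  have h1 : s '' (q '' irreducibleComponent z) ⊆ closure {s (q z)} := by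
    rintro _ ⟨p, hp, rfl⟩
    have hpW : p ∈ closure {q z} := by
      rw [hw.def]; exact hsub (subset_closure hp)
    have := image_closure_subset_closure_image hs (s := {q z}) ⟨p, hpW, rfl⟩
    simpa using this
  have hd := h _ hZ
  have : closure (s '' (q '' irreducibleComponent z)) ⊆ closure {s (q z)} :=
    closure_minimal h1 isClosed_closure
  rw [hd.closure_eq] at this
  exact Set.eq_univ_of_univ_subset this

end Top

section Diag

variable {Y' Y : Scheme.{u}} (g : Y' ⟶ Y)

/-- a point of `Y' ×_Y Y'` whose two projections agree on its residue field point lies on the
diagonal -/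
theorem mem_range_diagonal (w : ↥(pullback g g))
    (h : (pullback g g).fromSpecResidueField w ≫ pullback.fst g g =
      (pullback g g).fromSpecResidueField w ≫ pullback.snd g g) :
    w ∈ Set.range (pullback.diagonal g).base := by
  set φ := (pullback g g).fromSpecResidueField w with hφ
  have hφ₂ : φ = (φ ≫ pullback.fst g g) ≫ pullback.diagonal g := by
    apply pullback.hom_ext
    · simp
    · simp [h]
  refine ⟨(φ ≫ pullback.fst g g) (IsLocalRing.closedPoint _), ?_⟩
  rw [← Scheme.Hom.comp_apply, ← hφ₂, Scheme.fromSpecResidueField_apply]

set_option backward.defeqAttrib.useBackward true in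
/-- two field-valued points at the same point `y'` with the same image in `Y` agree when the residue
field extension at `y'` is purely inseparable -/
theorem specHom_eq_of_purelyInseparable {K : Type u} [Field K]
    (a₁ a₂ : Spec (.of K) ⟶ Y')
    (he : a₁ (IsLocalRing.closedPoint K) = a₂ (IsLocalRing.closedPoint K))
    (hpi : (g.residueFieldMap (a₁ (IsLocalRing.closedPoint K))).hom.IsPurelyInseparable)
    (hg : a₁ ≫ g = a₂ ≫ g) : a₁ = a₂ := by
  obtain ⟨e, h⟩ := Scheme.SpecToEquivOfField_eq_iff.mp congr((Y.SpecToEquivOfField K) $(hg))
  apply (Y'.SpecToEquivOfField K).injective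
  dsimp at e h
  simp only [Scheme.descResidueField_stalkClosedPointTo_comp] at e h
  rw [← g.residueFieldMap_congr'_assoc he, CommRingCat.hom_ext_iff] at h
  rw [Scheme.SpecToEquivOfField_eq_iff]
  algebraize [(g.residueFieldMap (a₁ (IsLocalRing.closedPoint K))).hom]
  refine ⟨he, CommRingCat.hom_ext ?_⟩
  exact IsPurelyInseparable.injective_comp_algebraMap
    (Y.residueField (g (a₁ (IsLocalRing.closedPoint K))))
    (Y'.residueField (a₁ (IsLocalRing.closedPoint K))) _ h

/-- universal injectivity from generic points of the components of `Y' ×_Y Y'` lying on the
diagonal -/
theorem universallyInjective_of_genericPoints [IsSeparated g]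
    (h : ∀ W ∈ irreducibleComponents ↥(pullback g g), ∃ w, IsGenericPoint w W ∧
      w ∈ Set.range (pullback.diagonal g).base) : UniversallyInjective g := by
  rw [UniversallyInjective.iff_diagonal]
  constructor
  intro p
  have hcl : IsClosed (Set.range (pullback.diagonal g).base) :=
    (pullback.diagonal g).isClosedEmbedding.isClosed_range
  obtain ⟨w, hw, hwr⟩ := h (irreducibleComponent p)
    (irreducibleComponent_mem_irreducibleComponents p)
  have hsub : irreducibleComponent p ⊆ Set.range (pullback.diagonal g).base := by
    rw [← hw.def]
    exact closure_minimal (Set.singleton_subset_iff.mpr hwr) hcl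
  exact hsub mem_irreducibleComponent

end Diag

section Comp

variable {X Y' Y : Scheme.{u}} (f' : X ⟶ Y') (g : Y' ⟶ Y)

/-- geometric connectedness is preserved by composing with a universally injective surjective
morphism -/
theorem geometricallyConnected_comp [GeometricallyConnected f'] [UniversallyInjective g]
    [Surjective g] : GeometricallyConnected (f' ≫ g) := by
  refine ⟨fun K _ y Z fst snd h => ?_⟩
  let l : Z ⟶ pullback g y := pullback.lift (fst ≫ f') snd (by rw [Category.assoc]; exact h.w)
  have hl1 : l ≫ pullback.fst g y = fst ≫ f' := pullback.lift_fst _ _ _
  have hl2 : l ≫ pullback.snd g y = snd := pullback.lift_snd _ _ _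
  have sq : IsPullback l fst (pullback.fst g y) f' := by
    refine IsPullback.of_right ?_ hl1 (IsPullback.of_hasPullback g y).flip
    rw [hl2]
    exact h.flip
  haveI : GeometricallyConnected l :=
    MorphismProperty.of_isPullback (P := @GeometricallyConnected) sq.flip inferInstance
  haveI : UniversallyInjective (pullback.snd g y) :=
    MorphismProperty.pullback_snd (P := @UniversallyInjective) g y inferInstance
  haveI : Surjective (pullback.snd g y) :=
    MorphismProperty.pullback_snd (P := @Surjective) g y inferInstance
  haveI : Subsingleton ↥(pullback g y) :=
    (pullback.snd g y).injective.subsingleton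
  haveI : Nonempty ↥(pullback g y) := by
    obtain ⟨t, -⟩ := (pullback.snd g y).surjective (IsLocalRing.closedPoint K)
    exact ⟨t⟩
  exact GeometricallyConnected.connectedSpace_of_subsingleton (f := l)

end Comp

end Groth.Agent.Helper7.GeomConn.UI
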