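import Mathlib
import Groth.Prelude.Def_ega3
import Groth.Agent.Lib.Helper7.GeomConn.UIGeneric

set_option linter.style.haveILetI false
set_option linter.unusedVariables false
set_option linter.unusedSectionVars false
set_option autoImplicit false
set_option backward.isDefEq.respectTransparency.types false

universe u

/-! helper7: residue field extensions of integral morphisms are algebraic; radicial algebraic closure of R(Y) in R(X) gives purely inseparable residue field of an intermediate integral Y' at the image of the generic point -/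

open CategoryTheory CategoryTheory.Limits AlgebraicGeometry TopologicalSpace Opposite

namespace Groth.Agent.Helper7.GeomConn.UI

section ResInt

variable {Y' Y : Scheme.{u}} (g : Y' ⟶ Y) [IsIntegralHom g]

/-- values of sections over the preimage of an affine are integral over the residue field below -/
theorem isIntegralElem_evaluation (y' : Y') (U : Y.Opens) (hU : IsAffineOpen U)
    (hy : g.base y' ∈ U) (b : Γ(Y', g ⁻¹ᵁ U)) :
    (g.residueFieldMap y').hom.IsIntegralElem (Y'.evaluation (g ⁻¹ᵁ U) y' hy b) := by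
  obtain ⟨P, hPm, hP⟩ := IsIntegralHom.isIntegral_app g U hU b
  refine ⟨P.map (Y.evaluation U (g.base y') hy).hom, hPm.map _, ?_⟩
  rw [Polynomial.eval₂_map]
  have hnat : (g.residueFieldMap y').hom.comp (Y.evaluation U (g.base y') hy).hom =
      (Y'.evaluation (g ⁻¹ᵁ U) y' hy).hom.comp (g.app U).hom := by
    ext s
    exact Scheme.evaluation_naturality_apply g y' hy s
  rw [hnat, ← Polynomial.hom_eval₂, hP, map_zero]

/-- the residue field extensions of an integral morphism are algebraic -/
theorem isIntegral_residueFieldMap (y' : Y') : (g.residueFieldMap y').hom.IsIntegral := by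
  intro t
  obtain ⟨U, hUaff, hyU, -⟩ := Opens.isBasis_iff_nbhd.mp Y.isBasis_affineOpens
    (show g.base y' ∈ (⊤ : Y.Opens) from trivial)
  have hV : IsAffineOpen (g ⁻¹ᵁ U) := hUaff.preimage g
  have hyV : y' ∈ g ⁻¹ᵁ U := hyU
  obtain ⟨t', rfl⟩ := Y'.residue_surjective y' t
  haveI := hV.isLocalization_stalk ⟨y', hyV⟩
  letI := Y'.presheaf.algebra_section_stalk ⟨y', hyV⟩
  obtain ⟨⟨b, s⟩, hbs⟩ := IsLocalization.surj (hV.primeIdealOf ⟨y', hyV⟩).asIdeal.primeCompl t'
  have hunit : IsUnit (algebraMap Γ(Y', g ⁻¹ᵁ U) (Y'.presheaf.stalk y') s.1) :=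
    IsLocalization.map_units (M := (hV.primeIdealOf ⟨y', hyV⟩).asIdeal.primeCompl) _ s
  have hgerm : ∀ c : Γ(Y', g ⁻¹ᵁ U), (Y'.residue y').hom
      (algebraMap Γ(Y', g ⁻¹ᵁ U) (Y'.presheaf.stalk y') c) =
      (Y'.evaluation (g ⁻¹ᵁ U) y' hyV).hom c := fun c => rfl
  have hev : (Y'.residue y').hom t' * (Y'.evaluation (g ⁻¹ᵁ U) y' hyV).hom s.1 =
      (Y'.evaluation (g ⁻¹ᵁ U) y' hyV).hom b := by
    rw [← hgerm, ← hgerm, ← map_mul]
    exact congrArg _ hbs
  have hne : (Y'.evaluation (g ⁻¹ᵁ U) y' hyV).hom s.1 ≠ 0 := by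
    rw [← hgerm]
    exact (hunit.map (Y'.residue y').hom).ne_zero
  letI := (g.residueFieldMap y').hom.toAlgebra
  have hb : IsIntegral (Y.residueField (g.base y')) ((Y'.evaluation (g ⁻¹ᵁ U) y' hyV).hom b) :=
    isIntegralElem_evaluation g y' U hUaff hyU b
  have hs : IsIntegral (Y.residueField (g.base y')) ((Y'.evaluation (g ⁻¹ᵁ U) y' hyV).hom s.1) :=
    isIntegralElem_evaluation g y' U hUaff hyU s.1
  have heq : (Y'.residue y').hom t' = (Y'.evaluation (g ⁻¹ᵁ U) y' hyV).hom b *
      ((Y'.evaluation (g ⁻¹ᵁ U) y' hyV).hom s.1)⁻¹ := by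
    rw [← hev, mul_assoc, mul_inv_cancel₀ hne, mul_one]
  have hfin : IsIntegral (Y.residueField (g.base y')) ((Y'.residue y').hom t') := by
    rw [heq]
    exact hb.mul hs.inv
  exact hfin

end ResInt

section Alg

/-- the abstract algebra behind `isPurelyInseparable_residueFieldMap_of_radicial` -/
theorem pow_mem_range_of_radicial {S F E L M : Type*} [Field S] [Field F] [Field E] [Field L]
    [Field M] (π : S →+* F) (hπ : Function.Surjective π) (ρ : F →+* E) (σ : E →+* L)
    (rX : M →+* L) (hrX : Function.Surjective rX) (Φ : S →+* M)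
    (hkey : rX.comp Φ = (σ.comp ρ).comp π) (p : ℕ)
    (hrad : ∀ x : M, (∃ q : Polynomial S, q ≠ 0 ∧ Polynomial.eval₂ Φ x q = 0) →
      ∃ e : ℕ, x ^ p ^ e ∈ Set.range Φ)
    (t : E) (ht : ρ.IsIntegralElem t) : ∃ e : ℕ, t ^ p ^ e ∈ Set.range ρ := by
  obtain ⟨P, hPm, hP⟩ := ht
  obtain ⟨x, hx⟩ := hrX (σ t)
  obtain ⟨Q, hQ⟩ := Polynomial.map_surjective π hπ P
  have hQ0 : Q ≠ 0 := by
    rintro rfl
    rw [Polynomial.map_zero] at hQ
    exact hPm.ne_zero hQ.symm
  have hroot : Polynomial.eval₂ Φ x Q = 0 := by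
    apply rX.injective
    rw [Polynomial.hom_eval₂, map_zero, hkey, hx, ← Polynomial.eval₂_map, hQ,
      ← Polynomial.hom_eval₂, hP, map_zero]
  obtain ⟨e, a, ha⟩ := hrad x ⟨Q, hQ0, hroot⟩
  refine ⟨e, π a, ?_⟩
  apply σ.injective
  have h1 : σ (ρ (π a)) = rX (Φ a) := (RingHom.congr_fun hkey a).symm
  rw [h1, map_pow, ← hx, ← map_pow, ha]

end Alg

section Rad

variable {X Y' Y : Scheme.{u}} [IsIntegral X] [IsIntegral Y] (f' : X ⟶ Y') (g : Y' ⟶ Y)
  [IsIntegralHom g]

/-- if the algebraic closure of `R(Y)` in `R(X)` is radicial over `R(Y)` and `X → Y` factors through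
an integral morphism `Y' → Y`, the residue field of `Y'` at the image of the generic point of `X` is
purely inseparable over `R(Y)` -/
theorem isPurelyInseparable_residueFieldMap_of_radicial
    (hdom : (f' ≫ g).base (genericPoint X) ⤳ genericPoint Y)
    (hrad : ∀ x : X.functionField,
      (∃ q : Polynomial Y.functionField, q ≠ 0 ∧
        Polynomial.eval₂ (CohIII.stalkToFunctionField (f' ≫ g) (genericPoint Y) hdom) x q = 0) →
      ∃ e : ℕ, x ^ (ringExpChar X.functionField ^ e) ∈
        Set.range (CohIII.stalkToFunctionField (f' ≫ g) (genericPoint Y) hdom)) :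
    (g.residueFieldMap (f'.base (genericPoint X))).hom.IsPurelyInseparable := by
  set ξ := genericPoint X with hξ
  set p := ringExpChar X.functionField with hp
  let ρ : Y.residueField (g.base (f'.base ξ)) →+* Y'.residueField (f'.base ξ) :=
    (g.residueFieldMap (f'.base ξ)).hom
  let σ : Y'.residueField (f'.base ξ) →+* X.residueField ξ := (f'.residueFieldMap ξ).hom
  let rX : X.functionField →+* X.residueField ξ := (X.residue ξ).hom
  let rY : Y.presheaf.stalk ((f' ≫ g).base ξ) →+* Y.residueField (g.base (f'.base ξ)) :=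
    (Y.residue ((f' ≫ g).base ξ)).hom
  let sp : Y.functionField →+* Y.presheaf.stalk ((f' ≫ g).base ξ) :=
    (Y.presheaf.stalkSpecializes hdom).hom
  let Φ : Y.functionField →+* X.functionField :=
    CohIII.stalkToFunctionField (f' ≫ g) (genericPoint Y) hdom
  have hkey : rX.comp Φ = (σ.comp ρ).comp (rY.comp sp) := by
    ext a
    have h1 := congrArg (fun φ => φ.hom (sp a)) (Scheme.residue_residueFieldMap (f' ≫ g) ξ)
    have h2 := congrArg (fun φ => φ.hom (rY (sp a))) (Scheme.residueFieldMap_comp f' g ξ)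
    simp only [CommRingCat.hom_comp, RingHom.comp_apply] at h1 h2
    show rX (Φ a) = σ (ρ (rY (sp a)))
    exact h1.symm.trans h2
  have hrXsurj : Function.Surjective rX := X.residue_surjective ξ
  have hrYsurj : Function.Surjective rY := Y.residue_surjective _
  have hspsurj : Function.Surjective sp := by
    have heq : (f' ≫ g).base ξ = genericPoint Y :=
      (hdom.antisymm ((genericPoint_spec Y).specializes trivial)).eq
    have hiso : IsIso (Y.presheaf.stalkSpecializes hdom) :=
      (inferInstance : IsIso (Y.presheaf.stalkCongr (Inseparable.of_eq heq.symm)).hom)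
    exact ((ConcreteCategory.isIso_iff_bijective (Y.presheaf.stalkSpecializes hdom)).mp hiso).2
  haveI e0 : ExpChar X.functionField p := ringExpChar.expChar _
  haveI e1 : ExpChar (X.residueField ξ) p := expChar_of_injective_ringHom rX.injective p
  haveI e2 : ExpChar (Y'.residueField (f'.base ξ)) p := RingHom.expChar σ σ.injective p
  haveI e3 : ExpChar (Y.residueField (g.base (f'.base ξ))) p := RingHom.expChar ρ ρ.injective p
  rw [RingHom.IsPurelyInseparable]
  letI := ρ.toAlgebra
  rw [isPurelyInseparable_iff_pow_mem _ p]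
  intro t
  exact pow_mem_range_of_radicial (rY.comp sp) (hrYsurj.comp hspsurj) ρ σ rX hrXsurj Φ hkey p
    hrad t (isIntegral_residueFieldMap g (f'.base ξ) t)

end Rad

end Groth.Agent.Helper7.GeomConn.UI
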