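import Mathlib
import Groth.Agent.Lib.Helper7.GeomConn.SteinUnibranch
import Groth.Agent.Lib.Helper7.GeomConn.UIRad

set_option linter.style.haveILetI false
set_option linter.unusedVariables false
set_option linter.unusedSectionVars false
set_option autoImplicit false
set_option backward.isDefEq.respectTransparency.types false

universe u

/-! helper7: EGA III 4.3.7: first Stein factor has geometrically connected fibres; finite part universally injective when components of the self base change dominate and the algebraic closure of R(Y) in R(X) is radicial; geometric connectedness of all fibres (S5735) -/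

open CategoryTheory CategoryTheory.Limits AlgebraicGeometry TopologicalSpace Opposite

namespace Groth.Agent.Helper7.GeomConn.UI

section Aux

variable {X Y' Y : Scheme.{u}} [IsIntegral X] [IsIntegral Y] (f' : X ⟶ Y') (g : Y' ⟶ Y)
  [IsFinite g] [Surjective f']

/-- the finite part is universally injective -/
theorem universallyInjective_of_radicial
    (hdom : (f' ≫ g).base (genericPoint X) ⤳ genericPoint Y)
    (hopen : ∀ Z ∈ irreducibleComponents ↥(pullback (f' ≫ g) g),
      Dense ((pullback.snd (f' ≫ g) g).base '' Z))
    (hrad : ∀ x : X.functionField,
      (∃ q : Polynomial Y.functionField, q ≠ 0 ∧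
        Polynomial.eval₂ (CohIII.stalkToFunctionField (f' ≫ g) (genericPoint Y) hdom) x q = 0) →
      ∃ e : ℕ, x ^ (ringExpChar X.functionField ^ e) ∈
        Set.range (CohIII.stalkToFunctionField (f' ≫ g) (genericPoint Y) hdom)) :
    UniversallyInjective g := by
  have hpi := isPurelyInseparable_residueFieldMap_of_radicial f' g hdom hrad
  set η' := f'.base (genericPoint X) with hη'
  have hη'gen : closure {η'} = Set.univ := by
    have h1 : f'.base '' closure {genericPoint X} ⊆ closure (f'.base '' {genericPoint X}) :=
      image_closure_subset_closure_image f'.base.hom.continuous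
    rw [(genericPoint_spec X).def, Set.image_univ, Set.image_singleton,
      f'.surjective.range_eq] at h1
    exact Set.eq_univ_of_univ_subset h1
  -- the comparison map
  let q : pullback (f' ≫ g) g ⟶ pullback g g :=
    pullback.map (f' ≫ g) g g g f' (𝟙 _) (𝟙 _) (by simp) (by simp)
  have hq1 : q ≫ pullback.fst g g = pullback.fst (f' ≫ g) g ≫ f' := pullback.lift_fst _ _ _
  have hq2 : q ≫ pullback.snd g g = pullback.snd (f' ≫ g) g := by
    have : q ≫ pullback.snd g g = pullback.snd (f' ≫ g) g ≫ 𝟙 _ := pullback.lift_snd _ _ _
    simpa using this
  have sq : IsPullback q (pullback.fst (f' ≫ g) g) (pullback.fst g g) f' := by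
    refine IsPullback.of_right ?_ hq1 (IsPullback.of_hasPullback g g).flip
    rw [hq2]
    exact (IsPullback.of_hasPullback (f' ≫ g) g).flip
  haveI : Surjective q :=
    MorphismProperty.of_isPullback (P := @Surjective) sq.flip inferInstance
  have hdisc : _root_.IsDiscrete (g.base ⁻¹' {g.base η'}) :=
    locallyQuasiFinite_iff_isDiscrete_preimage_singleton.mp inferInstance _
  apply universallyInjective_of_genericPoints g
  intro W hW
  obtain ⟨w, hw⟩ := QuasiSober.sober hW.1 (isClosed_of_mem_irreducibleComponents W hW)
  refine ⟨w, hw, ?_⟩
  have hsnd : closure {(pullback.snd g g).base w} = Set.univ := by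
    refine closure_image_genericPoint_eq_univ q.base q.base.hom.continuous q.surjective
      (pullback.snd g g).base (pullback.snd g g).base.hom.continuous ?_ W hW w hw
    intro Z hZ
    have := hopen Z hZ
    have himg : (pullback.snd g g).base '' (q.base '' Z) =
        (pullback.snd (f' ≫ g) g).base '' Z := by
      rw [Set.image_image]
      congr 1
      ext z
      have := congrArg (fun φ => φ.base z) hq2
      exact this
    rw [himg]
    exact this
  have hsndw : (pullback.snd g g).base w = η' :=
    IsGenericPoint.eq (show IsGenericPoint _ Set.univ from hsnd)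
      (show IsGenericPoint _ Set.univ from hη'gen)
  have hcond : g.base ((pullback.fst g g).base w) = g.base ((pullback.snd g g).base w) := by
    have := congrArg (fun φ => φ.base w) (pullback.condition (f := g) (g := g))
    exact this
  have hfstw : (pullback.fst g g).base w = η' := by
    have hspec : η' ⤳ (pullback.fst g g).base w := by
      rw [specializes_iff_mem_closure, hη'gen]; trivial
    refine (hdisc.eq_of_specializes hspec rfl ?_).symm
    show g.base ((pullback.fst g g).base w) = g.base η'
    rw [hcond, hsndw]
  -- field valued points
  apply mem_range_diagonal g w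
  set φ := (pullback g g).fromSpecResidueField w with hφ
  have hpt : φ.base (IsLocalRing.closedPoint _) = w := Scheme.fromSpecResidueField_apply _ _
  have h1 : (φ ≫ pullback.fst g g).base (IsLocalRing.closedPoint _) = η' := by
    show (pullback.fst g g).base (φ.base _) = η'
    rw [hpt, hfstw]
  have h2 : (φ ≫ pullback.snd g g).base (IsLocalRing.closedPoint _) = η' := by
    show (pullback.snd g g).base (φ.base _) = η'
    rw [hpt, hsndw]
  have hpi' : ∀ z : Y', z = η' → (g.residueFieldMap z).hom.IsPurelyInseparable := by
    rintro _ rfl; exact hpi
  refine specHom_eq_of_purelyInseparable g (φ ≫ pullback.fst g g) (φ ≫ pullback.snd g g)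
    (h1.trans h2.symm) (hpi' _ h1) ?_
  rw [Category.assoc, Category.assoc, pullback.condition]

end Aux

section Main

variable {X Y : Scheme.{u}} [IsLocallyNoetherian Y] (f : X ⟶ Y) [IsProper f]

/-- the first Stein factor of a proper morphism to a locally Noetherian scheme has geometrically
connected fibres -/
theorem geometricallyConnected_toNormalization : GeometricallyConnected f.toNormalization := by
  haveI := ZC.isFinite_fromNormalization' f
  haveI : IsLocallyNoetherian f.normalization :=
    LocallyOfFiniteType.isLocallyNoetherian f.fromNormalization
  haveI := ZC.isProper_toNormalization f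
  haveI : Surjective f.toNormalization := inferInstance
  rw [GeometricallyConnected.iff_geometricallyConnected_fiber]
  intro y'
  obtain ⟨U, hUaff, hyU, -⟩ := Opens.isBasis_iff_nbhd.mp Y.isBasis_affineOpens
    (show f.fromNormalization y' ∈ (⊤ : Y.Opens) from trivial)
  have hiso := ZC.isIso_toNormalization_app_preimage f U hUaff
  have hVaff : IsAffineOpen (f.fromNormalization ⁻¹ᵁ U) := hUaff.preimage f.fromNormalization
  refine ZC.geometricallyConnected_fibre_of_isIso_app_nhd f.toNormalization y'
    (f.toNormalization.surjective y') (f.fromNormalization ⁻¹ᵁ U) hyU ?_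
  intro W hW hWle
  exact ZC.isIso_app_of_le_affine f.toNormalization _ hVaff hiso W hW hWle

variable [IsIntegral X] [IsIntegral Y]

/-- **EGA III 4.3.7**: a proper dominant morphism of integral schemes, universally open in the weak
sense that components of base changes dominate, with radicial algebraic closure of `R(Y)` in `R(X)`,
has geometrically connected fibres -/
theorem geometricallyConnected_of_univOpen_of_radicial
    (hdom : f.base (genericPoint X) ⤳ genericPoint Y)
    (hopen : ∀ (Y' : Scheme.{u}) (g : Y' ⟶ Y), IrreducibleSpace ↥Y' → IsLocallyNoetherian Y' →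
      IsDominant g → ∀ Z ∈ irreducibleComponents ↥(pullback f g), Dense ((pullback.snd f g).base '' Z))
    (hrad : ∀ x : X.functionField,
      (∃ q : Polynomial Y.functionField, q ≠ 0 ∧
        Polynomial.eval₂ (CohIII.stalkToFunctionField f (genericPoint Y) hdom) x q = 0) →
      ∃ e : ℕ, x ^ (ringExpChar X.functionField ^ e) ∈
        Set.range (CohIII.stalkToFunctionField f (genericPoint Y) hdom)) :
    GeometricallyConnected f := by
  haveI hfin := ZC.isFinite_fromNormalization' f
  haveI hYn : IsLocallyNoetherian f.normalization :=
    LocallyOfFiniteType.isLocallyNoetherian f.fromNormalization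
  haveI := ZC.isProper_toNormalization f
  haveI hsurj' : Surjective f.toNormalization := inferInstance
  haveI hgc := geometricallyConnected_toNormalization f
  have e := f.toNormalization_fromNormalization
  have hirr : IrreducibleSpace ↥f.normalization :=
    f.toNormalization.surjective.irreducibleSpace f.toNormalization.continuous
  have hfs : Function.Surjective f.base := ZC.surjective_of_isProper_of_dominant f hdom
  haveI hgs : Surjective f.fromNormalization := by
    constructor
    intro y
    obtain ⟨x, rfl⟩ := hfs y
    refine ⟨f.toNormalization.base x, ?_⟩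
    have := congrArg (fun φ : X ⟶ Y => φ.base x) e
    exact this
  have hgd : IsDominant f.fromNormalization := ⟨f.fromNormalization.surjective.denseRange⟩
  have hop := hopen f.normalization f.fromNormalization hirr hYn hgd
  have key : ∀ (f₀ : X ⟶ Y) (e₀ : f.toNormalization ≫ f.fromNormalization = f₀)
      (hdom₀ : f₀.base (genericPoint X) ⤳ genericPoint Y)
      (hop₀ : ∀ Z ∈ irreducibleComponents ↥(pullback f₀ f.fromNormalization),
        Dense ((pullback.snd f₀ f.fromNormalization).base '' Z))
      (hrad₀ : ∀ x : X.functionField,
        (∃ q : Polynomial Y.functionField, q ≠ 0 ∧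
          Polynomial.eval₂ (CohIII.stalkToFunctionField f₀ (genericPoint Y) hdom₀) x q = 0) →
        ∃ e : ℕ, x ^ (ringExpChar X.functionField ^ e) ∈
          Set.range (CohIII.stalkToFunctionField f₀ (genericPoint Y) hdom₀)),
      GeometricallyConnected f₀ := by
    intro f₀ e₀
    subst e₀
    intro hdom₀ hop₀ hrad₀
    haveI := universallyInjective_of_radicial f.toNormalization f.fromNormalization hdom₀ hop₀ hrad₀
    exact geometricallyConnected_comp _ _
  exact key f e hdom hop hrad

end Main

end Groth.Agent.Helper7.GeomConn.UI
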