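import Mathlib

set_option linter.style.haveILetI false
set_option linter.unusedVariables false
set_option linter.unusedSectionVars false
set_option autoImplicit false

open TopologicalSpace

namespace Groth.Agent.Helper7.GeomConn.DimLift

variable {X Y : Type*} [TopologicalSpace X] [TopologicalSpace Y] [QuasiSober Y]

/-- chains of irreducible closed subsets lift along a closed continuous map -/
theorem le_height_of_image_eq (f : X → Y) (hf : Continuous f) (hcl : IsClosedMap f) :
    ∀ (n : ℕ) (T : IrreducibleCloseds Y) (Z : IrreducibleCloseds X),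
      f '' (Z : Set X) = (T : Set Y) → (n : ℕ∞) ≤ Order.height T → (n : ℕ∞) ≤ Order.height Z := by
  intro n
  induction n with
  | zero => intro T Z _ _; simp
  | succ n ih =>
    intro T Z hZT hn
    obtain ⟨p, hlast, hlen⟩ := Order.exists_series_of_le_height T hn
    let i : Fin (p.length + 1) := ⟨n, by omega⟩
    have hlt : p i < T := by
      rw [← hlast]
      apply p.strictMono
      rw [Fin.lt_def]
      simp only [i, Fin.val_last]
      omega
    have hih : (n : ℕ∞) ≤ Order.height (p i) := by
      have := Order.index_le_height p i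
      simpa [i] using this
    obtain ⟨t', ht'⟩ := QuasiSober.sober (p i).isIrreducible (p i).isClosed
    have ht'T : t' ∈ (T : Set Y) := hlt.le ht'.mem
    rw [← hZT] at ht'T
    obtain ⟨z, hzZ, hz⟩ := ht'T
    let Z' : IrreducibleCloseds X :=
      ⟨closure {z}, isIrreducible_singleton.closure, isClosed_closure⟩
    have hZ'Z : Z' ≤ Z := closure_minimal (Set.singleton_subset_iff.mpr hzZ) Z.isClosed
    have himg : f '' (Z' : Set X) = ((p i : IrreducibleCloseds Y) : Set Y) := by
      apply subset_antisymm
      · calc f '' closure {z} ⊆ closure (f '' {z}) := image_closure_subset_closure_image hf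
          _ = closure {t'} := by rw [Set.image_singleton, hz]
          _ = _ := ht'.def
      · rw [← ht'.def]
        exact closure_minimal (Set.singleton_subset_iff.mpr ⟨z, subset_closure rfl, hz⟩)
          (hcl _ isClosed_closure)
    have hne : Z' ≠ Z := by
      rintro rfl
      exact hlt.ne (SetLike.coe_injective (himg.symm.trans hZT))
    have hlt' : Z' < Z := lt_of_le_of_ne hZ'Z hne
    calc ((n + 1 : ℕ) : ℕ∞) = (n : ℕ∞) + 1 := by push_cast; rfl
      _ ≤ Order.height Z' + 1 := add_le_add_left (ih (p i) Z' himg hih) 1
      _ ≤ Order.height Z := Order.height_add_one_le hlt'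

/-- for a closed continuous map between irreducible spaces of the same finite dimension, a point
over the generic point is generic -/
theorem closure_eq_univ_of_map_eq_genericPoint [IrreducibleSpace X] [IrreducibleSpace Y]
    (f : X → Y) (hf : Continuous f) (hcl : IsClosedMap f) (η : Y)
    (hη : IsGenericPoint η Set.univ)
    (hdim : topologicalKrullDim X = topologicalKrullDim Y) (m : ℕ)
    (hfin : topologicalKrullDim Y = m)
    (x₁ : X) (hx₁ : f x₁ = η) : closure {x₁} = Set.univ := by
  by_contra hne
  let Z : IrreducibleCloseds X := ⟨closure {x₁}, isIrreducible_singleton.closure, isClosed_closure⟩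
  let TX : IrreducibleCloseds X :=
    ⟨Set.univ, IrreducibleSpace.isIrreducible_univ X, isClosed_univ⟩
  let TY : IrreducibleCloseds Y :=
    ⟨Set.univ, IrreducibleSpace.isIrreducible_univ Y, isClosed_univ⟩
  have hZlt : Z < TX := by
    refine lt_of_le_of_ne (fun _ _ => trivial) ?_
    intro h
    exact hne (congrArg (fun W : IrreducibleCloseds X => (W : Set X)) h)
  have himg : f '' (Z : Set X) = (TY : Set Y) := by
    apply subset_antisymm (Set.subset_univ _)
    show Set.univ ⊆ f '' closure {x₁}
    rw [← hη.def]
    exact closure_minimal (Set.singleton_subset_iff.mpr ⟨x₁, subset_closure rfl, hx₁⟩)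
      (hcl _ isClosed_closure)
  have hY : Order.krullDim (IrreducibleCloseds Y) ≤ (Order.height TY : WithBot ℕ∞) := by
    rw [Order.krullDim_eq_iSup_height]
    refine iSup_le fun a => ?_
    exact_mod_cast Order.height_mono (show a ≤ TY from fun _ _ => trivial)
  have h1 : (m : ℕ∞) ≤ Order.height TY := by
    have : ((m : ℕ∞) : WithBot ℕ∞) ≤ (Order.height TY : WithBot ℕ∞) := by
      have h0 : topologicalKrullDim Y = Order.krullDim (IrreducibleCloseds Y) := rfl
      rw [← h0, hfin] at hY
      exact_mod_cast hY
    exact_mod_cast this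
  have h2 := le_height_of_image_eq f hf hcl m TY Z himg h1
  have h3 : Order.height Z + 1 ≤ Order.height TX := Order.height_add_one_le hZlt
  have h4 : (Order.height TX : WithBot ℕ∞) ≤ topologicalKrullDim X := Order.height_le_krullDim _
  have h5 : ((m : ℕ∞) + 1 : ℕ∞) ≤ Order.height TX := (add_le_add_left h2 1).trans h3
  have h6 : (((m : ℕ∞) + 1 : ℕ∞) : WithBot ℕ∞) ≤ (m : WithBot ℕ∞) := by
    calc (((m : ℕ∞) + 1 : ℕ∞) : WithBot ℕ∞) ≤ (Order.height TX : WithBot ℕ∞) := by exact_mod_cast h5
      _ ≤ topologicalKrullDim X := h4
      _ = (m : WithBot ℕ∞) := by rw [hdim, hfin]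
  have h7 : ((m : ℕ∞) + 1 : ℕ∞) ≤ (m : ℕ∞) := by exact_mod_cast h6
  have h8 : (m + 1 : ℕ) ≤ m := by exact_mod_cast h7
  omega

end Groth.Agent.Helper7.GeomConn.DimLift
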