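import Mathlib
import Groth.Agent.Lib.Helper4.ProperPush1
import Groth.Agent.Lib.Helper4.DimFT4
import Groth.Agent.Lib.Helper7.GeomConn.DimLift

set_option linter.style.haveILetI false
set_option linter.unusedVariables false
set_option linter.unusedSectionVars false
set_option autoImplicit false
set_option backward.isDefEq.respectTransparency.types false

universe u

/-! helper7: a fibration between integral schemes of the same dimension with target of finite type over a field is birational (via finiteness of the generic fibre and helper4 DimFT4) -/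

open CategoryTheory CategoryTheory.Limits AlgebraicGeometry TopologicalSpace Opposite
open Groth.Agent.Lib.Helper4.ProperPush1

namespace Groth.Agent.Helper7.GeomConn.FibBir

section Affine

variable {X Y : Scheme.{u}} [IsIntegral X] [IsIntegral Y] (f : X ⟶ Y)

/-- if `O_Y(V') ≅ O_X(f⁻¹V')` with `V'` and `f⁻¹V'` affine and nonempty, `f` is birational -/
theorem surjective_stalkToFunctionField_of_affine
    (hdom : f.base (genericPoint X) ⤳ genericPoint Y) (V' : Y.Opens)
    (hηV : genericPoint Y ∈ V') (hW : IsAffineOpen (f ⁻¹ᵁ V')) (hiso : IsIso (f.app V')) :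
    Function.Surjective (CohIII.stalkToFunctionField f (genericPoint Y) hdom) := by
  set Φ := CohIII.stalkToFunctionField f (genericPoint Y) hdom with hΦ
  have hξW : genericPoint X ∈ f ⁻¹ᵁ V' := hdom.mem_open V'.2 hηV
  haveI : Nonempty V' := ⟨⟨_, hηV⟩⟩
  haveI : Nonempty (f ⁻¹ᵁ V' : X.Opens) := ⟨⟨_, hξW⟩⟩
  haveI := functionField_isFractionRing_of_isAffineOpen X (f ⁻¹ᵁ V') hW
  have hsq : ∀ a : Γ(Y, V'), Φ (algebraMap Γ(Y, V') Y.functionField a) =
      algebraMap Γ(X, f ⁻¹ᵁ V') X.functionField ((f.app V').hom a) :=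
    fun a => stalkToFunctionField_germ f hdom V' hηV a
  intro x
  obtain ⟨b₁, b₂, hb₂, rfl⟩ := IsFractionRing.div_surjective (A := Γ(X, f ⁻¹ᵁ V')) x
  obtain ⟨a₁, rfl⟩ := (ConcreteCategory.bijective_of_isIso (f.app V')).2 b₁
  obtain ⟨a₂, rfl⟩ := (ConcreteCategory.bijective_of_isIso (f.app V')).2 b₂
  refine ⟨algebraMap Γ(Y, V') Y.functionField a₁ / algebraMap Γ(Y, V') Y.functionField a₂, ?_⟩
  rw [map_div₀, hsq, hsq]

end Affine

section Main

variable (k : Type u) [Field k] (X Y : Scheme.{u}) [X.Over (Spec (CommRingCat.of k))]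
  [Y.Over (Spec (CommRingCat.of k))]
  [LocallyOfFiniteType (Y ↘ Spec (CommRingCat.of k))] [IsIntegral X] [IsIntegral Y]

include k in
/-- a fibration between integral schemes of the same dimension, the target of finite type over a
field, is birational -/
theorem surjective_stalkToFunctionField_of_fibration (f : X ⟶ Y) [IsProper f]
    (hdim : topologicalKrullDim ↥X = topologicalKrullDim ↥Y)
    (hdom : f.base (genericPoint X) ⤳ genericPoint Y)
    (hfib : ∀ U : Y.Opens, IsIso (f.app U)) :
    Function.Surjective (CohIII.stalkToFunctionField f (genericPoint Y) hdom) := by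
  -- the dimension of `Y` is finite
  obtain ⟨U, hU, hηU, -⟩ := Opens.isBasis_iff_nbhd.mp Y.isBasis_affineOpens
    (show genericPoint Y ∈ (⊤ : Y.Opens) from trivial)
  obtain ⟨n, h1, -⟩ := Groth.Agent.Lib.Helper4.DimFT4.exists_dim_affineOpen_eq_trdeg k Y hU hηU
  have hdimY : topologicalKrullDim ↥Y = n := Groth.Agent.Lib.Helper4.DimFT4.S1619_main k Y n h1
  -- the generic fibre is a point
  have hfibre : (f.base ⁻¹' {genericPoint Y}).Finite := by
    refine (Set.finite_singleton (genericPoint X)).subset ?_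
    intro x₁ hx₁
    have hcl := DimLift.closure_eq_univ_of_map_eq_genericPoint f.base f.base.hom.continuous
      f.isClosedMap (genericPoint Y) (genericPoint_spec Y) hdim n hdimY x₁ hx₁
    exact IsGenericPoint.eq (show IsGenericPoint x₁ Set.univ from hcl) (genericPoint_spec X)
  obtain ⟨V, hηV, hVfin⟩ :=
    exists_isFinite_morphismRestrict_of_finite_preimage_singleton f (genericPoint Y) hfibre
  obtain ⟨V', hV', hηV', hV'V⟩ := Opens.isBasis_iff_nbhd.mp Y.isBasis_affineOpens hηV
  have hV'' : IsAffineOpen (V.ι ⁻¹ᵁ V') :=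
    hV'.preimage_of_isOpenImmersion V.ι (by rw [Scheme.Opens.opensRange_ι]; exact hV'V)
  haveI : IsAffineHom (f ∣_ V) := inferInstance
  have h2 : IsAffineOpen ((f ⁻¹ᵁ V).ι ''ᵁ ((f ∣_ V) ⁻¹ᵁ (V.ι ⁻¹ᵁ V'))) :=
    (hV''.preimage (f ∣_ V)).image_of_isOpenImmersion _
  rw [image_morphismRestrict_preimage, Scheme.Hom.image_preimage_eq_opensRange_inf,
    Scheme.Opens.opensRange_ι, inf_eq_right.mpr hV'V] at h2
  exact surjective_stalkToFunctionField_of_affine f hdom V' hηV' h2 (hfib V')

end Main

end Groth.Agent.Helper7.GeomConn.FibBir
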