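import Mathlib
import Groth.Agent.Lib.Helper7.GeomConn.ArtinIdem
import Groth.Agent.Lib.Helper7.GeomConn.SchemeGlue
import Groth.Agent.Lib.Helper7.UHSch

set_option linter.style.haveILetI false
set_option linter.unusedVariables false
set_option linter.unusedSectionVars false
set_option autoImplicit false
set_option backward.isDefEq.respectTransparency.types false

universe u

/-! helper7: Stein factorisation of a proper morphism with geometrically connected fibres: the relative normalization is a universal homeomorphism (S7809). -/

open AlgebraicGeometry CategoryTheory Limits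

namespace Groth.Agent.Helper7.GeomConn

/-- In an integral algebra over a field with only trivial idempotents, every element is nilpotent
or a unit. -/
theorem isNilpotent_or_isUnit_of_integral_of_idem {A B : Type u} [Field A] [CommRing B]
    [Algebra A B] [Algebra.IsIntegral A B]
    (hidem : ∀ e : B, IsIdempotentElem e → e = 0 ∨ e = 1) (b : B) :
    IsNilpotent b ∨ IsUnit b := by
  let C : Subalgebra A B := Algebra.adjoin A {b}
  have hfg : C.toSubmodule.FG := (Algebra.IsIntegral.isIntegral (R := A) b).fg_adjoin_singleton
  haveI : Module.Finite A C := Module.Finite.iff_fg.mpr hfg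
  haveI : IsArtinianRing C := IsArtinianRing.of_finite A C
  have hC : ∀ e : C, IsIdempotentElem e → e = 0 ∨ e = 1 := by
    intro e he
    have he' : IsIdempotentElem (e : B) := by
      have := congrArg (Subtype.val) he.eq
      simpa [IsIdempotentElem] using this
    rcases hidem _ he' with h | h
    · left; exact Subtype.ext h
    · right; exact Subtype.ext h
  let b' : C := ⟨b, Algebra.subset_adjoin (Set.mem_singleton b)⟩
  rcases isNilpotent_or_isUnit_of_artinian hC b' with h | h
  · left
    have := h.map C.val
    simpa [b'] using this
  · right
    have := h.map C.val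
    simpa [b'] using this

/-- Two retractions of an integral ring map from a field to a ring with only trivial idempotents
coincide. -/
theorem retraction_unique_of_integral_of_idem {A B : Type u} [CommRing A] [CommRing B]
    (hA : IsField A) (ι : A →+* B) (hι : ι.IsIntegral)
    (hidem : ∀ e : B, IsIdempotentElem e → e = 0 ∨ e = 1)
    (φ₁ φ₂ : B →+* A) (h₁ : φ₁.comp ι = RingHom.id A) (h₂ : φ₂.comp ι = RingHom.id A) :
    φ₁ = φ₂ := by
  letI := hA.toField
  letI : Algebra A B := ι.toAlgebra
  haveI : Algebra.IsIntegral A B := ⟨hι⟩
  ext b
  set c : B := b - ι (φ₁ b) with hc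
  have h1c : φ₁ c = 0 := by
    have : φ₁ (ι (φ₁ b)) = φ₁ b := by
      have := congrArg (fun g : A →+* A => g (φ₁ b)) h₁
      simpa using this
    rw [hc, map_sub, this, sub_self]
  have hnu : ¬ IsUnit c := by
    intro hu
    have := hu.map φ₁
    rw [h1c] at this
    exact not_isUnit_zero this
  rcases isNilpotent_or_isUnit_of_integral_of_idem (A := A) hidem c with h | h
  · have h2c : φ₂ c = 0 := (h.map φ₂).eq_zero
    have : φ₂ (ι (φ₁ b)) = φ₁ b := by
      have := congrArg (fun g : A →+* A => g (φ₁ b)) h₂
      simpa using this
    rw [hc, map_sub, this, sub_eq_zero] at h2c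
    exact h2c.symm
  · exact absurd h hnu

variable {X S : Scheme.{u}} (f : X ⟶ S)

/-- The relative normalization of a proper morphism with geometrically connected fibres is
universally injective over the base. -/
theorem universallyInjective_fromNormalization [IsProper f] [GeometricallyConnected f] :
    UniversallyInjective f.fromNormalization := by
  have hT := (tfae_universallyInjective f.fromNormalization).out 0 1
  rw [hT]
  intro K _ g₁ g₂ hg
  replace hg : g₁ ≫ f.fromNormalization = g₂ ≫ f.fromNormalization := hg
  set ν := f.fromNormalization with hν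
  obtain ⟨h, hh⟩ : ∃ h : Spec (.of K) ⟶ S, h = g₁ ≫ ν := ⟨_, rfl⟩
  let P := pullback ν h
  let σ₁ : Spec (.of K) ⟶ P := pullback.lift g₁ (𝟙 _) (by rw [hh]; simp)
  let σ₂ : Spec (.of K) ⟶ P := pullback.lift g₂ (𝟙 _) (by rw [hh, hg]; simp)
  suffices hσ : σ₁ = σ₂ by
    have e1 : σ₁ ≫ pullback.fst ν h = g₁ := pullback.lift_fst _ _ _
    have e2 : σ₂ ≫ pullback.fst ν h = g₂ := pullback.lift_fst _ _ _
    rw [← e1, ← e2, hσ]
  -- the base change of `X`
  haveI hXK : ConnectedSpace ↥(pullback f h) :=
    GeometricallyConnected.geometrically_connectedSpace _ _ _ (.of_hasPullback _ _)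
  let q : pullback f h ⟶ P :=
    pullback.map f h ν h f.toNormalization (𝟙 _) (𝟙 _) (by simp [hν]) (by simp)
  have hq1 : q ≫ pullback.fst ν h = pullback.fst f h ≫ f.toNormalization :=
    pullback.lift_fst _ _ _
  have hq2 : q ≫ pullback.snd ν h = pullback.snd f h := by
    have : q ≫ pullback.snd ν h = pullback.snd f h ≫ 𝟙 _ := pullback.lift_snd _ _ _
    simpa using this
  have sq : IsPullback q (pullback.fst f h) (pullback.fst ν h) f.toNormalization := by
    refine IsPullback.of_right ?_ hq1 (IsPullback.of_hasPullback ν h).flip
    rw [hq2]
    have : f.toNormalization ≫ ν = f := by simp [hν]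
    rw [this]
    exact (IsPullback.of_hasPullback f h).flip
  haveI : Surjective f.toNormalization := inferInstance
  haveI : Surjective q :=
    MorphismProperty.of_isPullback (P := @Surjective) sq.flip inferInstance
  haveI : ConnectedSpace ↥P := q.surjective.connectedSpace q.continuous
  haveI : IsIntegralHom (pullback.snd ν h) := inferInstance
  haveI : IsAffine P := isAffine_of_isAffineHom (pullback.snd ν h)
  apply ext_of_isAffine
  have hidem := idempotent_trivial_of_connected P
  have hfield : IsField Γ(Spec (.of K), ⊤) :=
    MulEquiv.isField (Field.toIsField K)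
      (Scheme.ΓSpecIso (.of K)).commRingCatIsoToRingEquiv.toMulEquiv
  have hint : ((pullback.snd ν h).appTop).hom.IsIntegral :=
    IsIntegralHom.isIntegral_app (pullback.snd ν h) ⊤ (isAffineOpen_top _)
  have key := retraction_unique_of_integral_of_idem hfield ((pullback.snd ν h).appTop).hom hint
    hidem σ₁.appTop.hom σ₂.appTop.hom ?_ ?_
  · ext1; exact key
  · have e : σ₁ ≫ pullback.snd ν h = 𝟙 _ := pullback.lift_snd _ _ _
    have := congrArg (fun g => (Scheme.Hom.appTop g).hom) e
    simpa using this
  · have e : σ₂ ≫ pullback.snd ν h = 𝟙 _ := pullback.lift_snd _ _ _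
    have := congrArg (fun g => (Scheme.Hom.appTop g).hom) e
    simpa using this

/-- Stein factorisation: for a proper morphism with geometrically connected fibres, the relative
normalization is a universal homeomorphism onto the base. -/
theorem isUnivHomeo_fromNormalization [IsProper f] [GeometricallyConnected f] :
    FlatMor.IsUnivHomeo f.fromNormalization := by
  rw [UHSch.isUnivHomeo_iff]
  refine ⟨inferInstance, universallyInjective_fromNormalization f, ?_⟩
  haveI : Surjective f := inferInstance
  haveI : Surjective (f.toNormalization ≫ f.fromNormalization) := by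
    rw [f.toNormalization_fromNormalization]; infer_instance
  exact Surjective.of_comp f.toNormalization f.fromNormalization

end Groth.Agent.Helper7.GeomConn
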