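import Mathlib

set_option linter.style.haveILetI false
set_option linter.unusedVariables false
set_option linter.unusedSectionVars false
set_option autoImplicit false

universe u

/-! helper7: bounding the number of maximal ideals of an integral closure by the number of embeddings into an algebraic closure (prime avoidance + constant term of the minimal polynomial) -/

namespace Groth.Agent.Helper7.GeomConn.ZC

open Polynomial

section

variable {R K₀ L B : Type u} [CommRing R] [Field K₀] [Field L] [Algebra K₀ L]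
  [Algebra.IsAlgebraic K₀ L] [CommRing B]
  (r₀ : R →+* K₀) (rB : R →+* B) (j : B →+* L)
  (hj : j.comp rB = (algebraMap K₀ L).comp r₀)
  (hint : ∀ b : B, ((algebraMap K₀ L).comp r₀).IsIntegralElem (j b))
  (Bbar : Subring (AlgebraicClosure L))
  (hBbar : ∀ x, x ∈ Bbar ↔ ((algebraMap K₀ (AlgebraicClosure L)).comp r₀).IsIntegralElem x)

include hint hBbar in
theorem emb_mem_Bbar (σ : L →ₐ[K₀] AlgebraicClosure L) (b : B) : σ (j b) ∈ Bbar := by
  rw [hBbar]
  obtain ⟨P, hPm, hP0⟩ := hint b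
  refine ⟨P, hPm, ?_⟩
  have h1 : (algebraMap K₀ (AlgebraicClosure L)).comp r₀ =
      (σ : L →+* AlgebraicClosure L).comp ((algebraMap K₀ L).comp r₀) := by
    rw [← RingHom.comp_assoc, AlgHom.comp_algebraMap]
  rw [h1]
  have h2 := Polynomial.hom_eval₂ P ((algebraMap K₀ L).comp r₀) (σ : L →+* AlgebraicClosure L)
    (j b)
  rw [hP0, map_zero] at h2
  exact h2.symm

/-- the map `B → B̄` induced by an embedding -/
noncomputable def embMap (σ : L →ₐ[K₀] AlgebraicClosure L) : B →+* Bbar :=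
  ((σ : L →+* AlgebraicClosure L).comp j).codRestrict Bbar
    (fun b => emb_mem_Bbar r₀ j hint Bbar hBbar σ b)

include hj in
theorem embMap_isIntegral (σ : L →ₐ[K₀] AlgebraicClosure L) :
    (embMap r₀ j hint Bbar hBbar σ).IsIntegral := by
  intro x
  obtain ⟨P, hPm, hP0⟩ := (hBbar x.1).mp x.2
  refine ⟨P.map rB, hPm.map rB, ?_⟩
  apply Subtype.ext
  have h1 : (Bbar.subtype) (Polynomial.eval₂ (embMap r₀ j hint Bbar hBbar σ) x (P.map rB)) =
      Polynomial.eval₂ (Bbar.subtype.comp (embMap r₀ j hint Bbar hBbar σ)) (Bbar.subtype x)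
        (P.map rB) := Polynomial.hom_eval₂ _ _ _ _
  have h2 : (Bbar.subtype.comp (embMap r₀ j hint Bbar hBbar σ)).comp rB =
      (algebraMap K₀ (AlgebraicClosure L)).comp r₀ := by
    have : Bbar.subtype.comp (embMap r₀ j hint Bbar hBbar σ) =
        (σ : L →+* AlgebraicClosure L).comp j := RingHom.ext fun b => rfl
    rw [this, RingHom.comp_assoc, hj, ← RingHom.comp_assoc, AlgHom.comp_algebraMap]
  have h3 : Polynomial.eval₂ (Bbar.subtype.comp (embMap r₀ j hint Bbar hBbar σ)) (Bbar.subtype x)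
      (P.map rB) = 0 := by
    rw [Polynomial.eval₂_map, h2]
    exact hP0
  show (Bbar.subtype) (Polynomial.eval₂ (embMap r₀ j hint Bbar hBbar σ) x (P.map rB)) = 0
  rw [h1, h3]

include hj in
/-- every maximal ideal of `B` is the contraction of a fixed maximal ideal of `B̄` along some
embedding, provided maximal ideals of `B̄` cannot be told apart by elements of `K₀` -/
theorem exists_emb_comap_eq (hjinj : Function.Injective j)
    (hU : ∀ (M₁ M₂ : Ideal Bbar), M₁.IsMaximal → M₂.IsMaximal → ∀ (c : K₀)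
      (hc : algebraMap K₀ (AlgebraicClosure L) c ∈ Bbar),
      (⟨_, hc⟩ : Bbar) ∈ M₁ → (⟨_, hc⟩ : Bbar) ∈ M₂)
    [Finite (L →ₐ[K₀] AlgebraicClosure L)]
    (Mbar : Ideal Bbar) [hMbar : Mbar.IsMaximal] (P : Ideal B) [hP : P.IsMaximal] :
    ∃ σ : L →ₐ[K₀] AlgebraicClosure L, Mbar.comap (embMap r₀ j hint Bbar hBbar σ) = P := by
  classical
  haveI : Fintype (L →ₐ[K₀] AlgebraicClosure L) := Fintype.ofFinite _
  set Ω := AlgebraicClosure L with hΩ
  let σ₀ : L →ₐ[K₀] Ω := IsScalarTower.toAlgHom K₀ L Ω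
  have hmax : ∀ σ : L →ₐ[K₀] Ω, (Mbar.comap (embMap r₀ j hint Bbar hBbar σ)).IsMaximal := fun σ =>
    Ideal.isMaximal_comap_of_isIntegral_of_isMaximal' _ (embMap_isIntegral r₀ rB j hj hint Bbar hBbar σ) Mbar
  by_contra hcon
  simp only [not_exists] at hcon
  -- prime avoidance
  have hav : ¬ ((P : Set B) ⊆ ⋃ σ ∈ ((Finset.univ : Finset (L →ₐ[K₀] Ω)) : Set (L →ₐ[K₀] Ω)),
      (Mbar.comap (embMap r₀ j hint Bbar hBbar σ) : Set B)) := by
    intro hsub
    rw [Ideal.subset_union_prime σ₀ σ₀ (fun σ _ _ _ => (hmax σ).isPrime)] at hsub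
    obtain ⟨σ, -, hσ⟩ := hsub
    exact hcon σ (hP.eq_of_le (hmax σ).ne_top hσ).symm
  rw [Set.not_subset] at hav
  obtain ⟨b, hbP, hb⟩ := hav
  have hb' : ∀ σ : L →ₐ[K₀] Ω, embMap r₀ j hint Bbar hBbar σ b ∉ Mbar := by
    intro σ hσ
    apply hb
    simp only [Set.mem_iUnion]
    exact ⟨σ, Finset.mem_coe.mpr (Finset.mem_univ σ), hσ⟩
  -- the minimal polynomial of `β := j b`
  have hβint : IsIntegral K₀ (j b) := Algebra.IsIntegral.isIntegral (j b)
  have hμmonic : (minpoly K₀ (j b)).Monic := minpoly.monic hβint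
  have hsplit : ((minpoly K₀ (j b)).map (algebraMap K₀ Ω)).Splits := IsAlgClosed.splits _
  have hmonic' : ((minpoly K₀ (j b)).map (algebraMap K₀ Ω)).Monic := hμmonic.map _
  have hcoeff := hsplit.coeff_zero_eq_prod_roots_of_monic hmonic'
  rw [Polynomial.coeff_map] at hcoeff
  set d := ((minpoly K₀ (j b)).map (algebraMap K₀ Ω)).natDegree with hd
  set roots := ((minpoly K₀ (j b)).map (algebraMap K₀ Ω)).roots with hroots
  have hmemroots : ∀ r : Ω, r ∈ roots ↔ r ∈ (minpoly K₀ (j b)).rootSet Ω := by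
    intro r
    rw [Polynomial.mem_rootSet, hroots, Polynomial.mem_roots hmonic'.ne_zero, Polynomial.IsRoot.def,
      Polynomial.eval_map, Polynomial.aeval_def]
    exact ⟨fun h => ⟨hμmonic.ne_zero, h⟩, fun h => h.2⟩
  have hroot : ∀ r ∈ roots, ∃ σ : L →ₐ[K₀] Ω, σ (j b) = r := by
    intro r hr
    have h1 := (hmemroots r).mp hr
    rw [← Algebra.IsAlgebraic.range_eval_eq_rootSet_minpoly Ω (j b)] at h1
    exact h1
  have hrootB : ∀ r ∈ roots, ∃ hr : r ∈ Bbar, (⟨r, hr⟩ : Bbar) ∉ Mbar := by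
    intro r hr
    obtain ⟨σ, rfl⟩ := hroot r hr
    exact ⟨emb_mem_Bbar r₀ j hint Bbar hBbar σ b, hb' σ⟩
  haveI hMprime : Mbar.IsPrime := hMbar.isPrime
  let S : Submonoid Ω := (Mbar.primeCompl).map (Bbar.subtype : Bbar →* Ω)
  have hprodS : roots.prod ∈ S := Submonoid.multiset_prod_mem S roots (fun r hr => by
    obtain ⟨h1, h2⟩ := hrootB r hr
    exact ⟨⟨r, h1⟩, h2, rfl⟩)
  obtain ⟨s, hsM, hs⟩ := hprodS
  have hs' : (s : Ω) = roots.prod := hs
  have hc₀B : algebraMap K₀ Ω ((minpoly K₀ (j b)).coeff 0) ∈ Bbar := by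
    rw [hcoeff, ← hs']
    exact Bbar.mul_mem (Bbar.pow_mem (Bbar.neg_mem Bbar.one_mem) _) s.2
  have hc₀not : (⟨_, hc₀B⟩ : Bbar) ∉ Mbar := by
    intro hmem
    have h1 : (⟨_, hc₀B⟩ : Bbar) = (-1) ^ d * s := by
      apply Subtype.ext
      show algebraMap K₀ Ω ((minpoly K₀ (j b)).coeff 0) = (-1) ^ d * (s : Ω)
      rw [hcoeff, hs']
    rw [h1] at hmem
    have h2 := Mbar.mul_mem_left ((-1) ^ d) hmem
    rw [← mul_assoc, ← mul_pow, neg_one_mul, neg_neg, one_pow, one_mul] at h2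
    exact hsM h2
  -- a maximal ideal of `B̄` over `P` along the inclusion
  obtain ⟨Mbar', hMbar', hover⟩ : ∃ Q : Ideal Bbar, Q.IsMaximal ∧
      Q.comap (embMap r₀ j hint Bbar hBbar σ₀) = P := by
    letI := (embMap r₀ j hint Bbar hBbar σ₀).toAlgebra
    haveI : Algebra.IsIntegral B Bbar := ⟨embMap_isIntegral r₀ rB j hj hint Bbar hBbar σ₀⟩
    refine Ideal.exists_ideal_over_maximal_of_isIntegral P ?_
    have hker : RingHom.ker (algebraMap B Bbar) = ⊥ := by
      rw [← RingHom.injective_iff_ker_eq_bot]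
      intro x y hxy
      have h1 : σ₀ (j x) = σ₀ (j y) := congrArg Subtype.val hxy
      exact hjinj (σ₀.toRingHom.injective h1)
    rw [hker]; exact bot_le
  have hr₀ : σ₀ (j b) ∈ roots := by
    rw [hmemroots, ← Algebra.IsAlgebraic.range_eval_eq_rootSet_minpoly Ω (j b)]
    exact ⟨σ₀, rfl⟩
  have hc₀mem' : (⟨_, hc₀B⟩ : Bbar) ∈ Mbar' := by
    have h1 : roots.prod = σ₀ (j b) * (roots.erase (σ₀ (j b))).prod :=
      (Multiset.prod_erase hr₀).symm
    have h2 : (roots.erase (σ₀ (j b))).prod ∈ Bbar :=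
      Subring.multiset_prod_mem Bbar _ (fun r hr => (hrootB r (Multiset.mem_of_mem_erase hr)).1)
    have h3 : embMap r₀ j hint Bbar hBbar σ₀ b ∈ Mbar' := by
      have : b ∈ Mbar'.comap (embMap r₀ j hint Bbar hBbar σ₀) := by rw [hover]; exact hbP
      exact this
    have h4 : (⟨_, hc₀B⟩ : Bbar) =
        (-1) ^ d * (embMap r₀ j hint Bbar hBbar σ₀ b * ⟨_, h2⟩) := by
      apply Subtype.ext
      show algebraMap K₀ Ω ((minpoly K₀ (j b)).coeff 0) =
        (-1) ^ d * (σ₀ (j b) * (roots.erase (σ₀ (j b))).prod)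
      rw [hcoeff, h1]
    rw [h4]
    exact Mbar'.mul_mem_left _ (Mbar'.mul_mem_right _ h3)
  exact hc₀not (hU Mbar' Mbar hMbar' hMbar _ hc₀B hc₀mem')

include hj hint hBbar in
/-- the number of maximal ideals of `B` is bounded by the number of embeddings -/
theorem card_maxSpec_le_card_emb (hjinj : Function.Injective j)
    (hU : ∀ (M₁ M₂ : Ideal Bbar), M₁.IsMaximal → M₂.IsMaximal → ∀ (c : K₀)
      (hc : algebraMap K₀ (AlgebraicClosure L) c ∈ Bbar),
      (⟨_, hc⟩ : Bbar) ∈ M₁ → (⟨_, hc⟩ : Bbar) ∈ M₂)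
    [Finite (L →ₐ[K₀] AlgebraicClosure L)] :
    Finite (MaximalSpectrum B) ∧
      Nat.card (MaximalSpectrum B) ≤ Nat.card (L →ₐ[K₀] AlgebraicClosure L) := by
  haveI : Nontrivial Bbar := inferInstance
  obtain ⟨Mbar, hMbar⟩ := Ideal.exists_maximal Bbar
  let F : (L →ₐ[K₀] AlgebraicClosure L) → MaximalSpectrum B := fun σ =>
    ⟨Mbar.comap (embMap r₀ j hint Bbar hBbar σ),
      Ideal.isMaximal_comap_of_isIntegral_of_isMaximal' _
        (embMap_isIntegral r₀ rB j hj hint Bbar hBbar σ) Mbar⟩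
  have hF : Function.Surjective F := by
    intro P
    haveI := P.isMaximal
    obtain ⟨σ, hσ⟩ := exists_emb_comap_eq r₀ rB j hj hint Bbar hBbar hjinj hU Mbar P.asIdeal
    exact ⟨σ, MaximalSpectrum.ext hσ⟩
  exact ⟨Finite.of_surjective F hF, Nat.card_le_card_of_surjective F hF⟩

end

end Groth.Agent.Helper7.GeomConn.ZC
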