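import Mathlib
import Groth.Prelude.Def_CAlg2

set_option linter.style.haveILetI false
set_option linter.unusedVariables false
set_option linter.unusedSectionVars false
set_option autoImplicit false

universe u

/-! helper7: for the integral closure B of a unibranch local domain in a field: a local ring mapping integrally to B and capturing the elements from the fraction field; maximal ideals of B are not separated by elements of the fraction field -/

namespace Groth.Agent.Helper7.GeomConn.ZC

open Polynomial in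
/-- Let `R` be a unibranch local domain with fraction field `K₀`, `K₀ → K` a field extension and
`B` the integral closure of `R` in `K`. Then there is a local ring `Lr` with an integral map
`Lr → B` whose image contains every element of `B` coming from `K₀`. -/
theorem exists_local_integral_of_unibranch {R K₀ K : Type u} [CommRing R] [IsLocalRing R]
    [Field K₀] [Field K] [Algebra R K₀] [IsFractionRing R K₀] (hy : CAlg2.IsUnibranch R)
    (ι : K₀ →+* K) (ρ : R →+* K) (hρ : ρ = ι.comp (algebraMap R K₀))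
    (B : Subring K) (hB : ∀ x, x ∈ B ↔ ρ.IsIntegralElem x) :
    ∃ (Lr : Type u) (_ : CommRing Lr) (_ : IsLocalRing Lr) (θ' : Lr →+* B),
      θ'.IsIntegral ∧ ∀ c : K₀, ι c ∈ B → ∃ l : Lr, ((θ' l : B) : K) = ι c := by
  haveI hdom : IsDomain (CAlg2.red R) := hy.1
  haveI hloc : IsLocalRing (CAlg2.normRed R) := hy.2
  have hιinj : Function.Injective ι := ι.injective
  have hρinj : Function.Injective ρ := by
    rw [hρ]
    exact hιinj.comp (IsFractionRing.injective R K₀)
  -- the map from the reduction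
  let ρ' : CAlg2.red R →+* K := Ideal.Quotient.lift (nilradical R) ρ (by
    intro a ha
    have h1 : IsNilpotent a := ha
    exact (h1.map ρ).eq_zero)
  have hρ'mk : ∀ a : R, ρ' (Ideal.Quotient.mk (nilradical R) a) = ρ a := fun a => rfl
  have hρ'inj : Function.Injective ρ' := by
    apply RingHom.lift_injective_of_ker_le_ideal
    rw [(RingHom.injective_iff_ker_eq_bot ρ).mp hρinj]
    exact bot_le
  let Θ : FractionRing (CAlg2.red R) →+* K := IsFractionRing.lift hρ'inj
  have hΘ : ∀ a : CAlg2.red R, Θ (algebraMap _ _ a) = ρ' a := fun a =>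
    IsFractionRing.lift_algebraMap hρ'inj a
  have hΘinj : Function.Injective Θ := Θ.injective
  let θ : CAlg2.normRed R →+* K :=
    Θ.comp (algebraMap (CAlg2.normRed R) (FractionRing (CAlg2.red R)))
  have hρ'comp : ρ'.comp (Ideal.Quotient.mk (nilradical R)) = ρ := RingHom.ext hρ'mk
  have hΘcomp : Θ.comp (algebraMap (CAlg2.red R) (FractionRing (CAlg2.red R))) = ρ' :=
    RingHom.ext hΘ
  have hmksurj : Function.Surjective (Ideal.Quotient.mk (nilradical R)) :=
    Ideal.Quotient.mk_surjective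
  -- `θ` lands in `B`
  have hθB : ∀ l : CAlg2.normRed R, θ l ∈ B := by
    intro l
    rw [hB]
    obtain ⟨P, hPm, hP0⟩ := l.2
    obtain ⟨Q, hQP, -, hQm⟩ := Polynomial.lifts_and_natDegree_eq_and_monic
      ((Polynomial.mem_lifts _).mpr (Polynomial.map_surjective _ hmksurj P)) hPm
    refine ⟨Q, hQm, ?_⟩
    rw [← hρ'comp, ← Polynomial.eval₂_map, hQP, ← hΘcomp]
    show Polynomial.eval₂ _ (Θ (l : FractionRing (CAlg2.red R))) P = 0
    rw [← Polynomial.hom_eval₂, hP0, map_zero]
  let θ' : CAlg2.normRed R →+* B := θ.codRestrict B hθB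
  let σ : R →+* CAlg2.normRed R :=
    (algebraMap (CAlg2.red R) (CAlg2.normRed R)).comp (Ideal.Quotient.mk (nilradical R))
  have hθσ : θ.comp σ = ρ := by
    ext a
    show Θ (algebraMap (CAlg2.normRed R) (FractionRing (CAlg2.red R))
      (algebraMap (CAlg2.red R) (CAlg2.normRed R) (Ideal.Quotient.mk (nilradical R) a))) = ρ a
    rw [← IsScalarTower.algebraMap_apply, hΘ, hρ'mk]
  have hθ' : θ'.IsIntegral := by
    intro b
    obtain ⟨Q, hQm, hQ0⟩ := (hB b.1).mp b.2
    refine ⟨Q.map σ, hQm.map σ, ?_⟩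
    apply Subtype.ext
    have h1 : (B.subtype) (Polynomial.eval₂ θ' b (Q.map σ)) =
        Polynomial.eval₂ (B.subtype.comp θ') (B.subtype b) (Q.map σ) :=
      Polynomial.hom_eval₂ _ _ _ _
    have h2 : B.subtype.comp θ' = θ := RingHom.ext fun l => rfl
    have h3 : Polynomial.eval₂ θ (B.subtype b) (Q.map σ) = 0 := by
      rw [Polynomial.eval₂_map, hθσ]
      exact hQ0
    show (B.subtype) (Polynomial.eval₂ θ' b (Q.map σ)) = 0
    rw [h1, h2, h3]
  refine ⟨CAlg2.normRed R, inferInstance, hloc, θ', hθ', ?_⟩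
  intro c hcB
  obtain ⟨Q', hQ'm, hQ'0⟩ := (hB _).mp hcB
  obtain ⟨a, s, hs, rfl⟩ := IsFractionRing.div_surjective (A := R) c
  let c' : FractionRing (CAlg2.red R) :=
    algebraMap (CAlg2.red R) (FractionRing (CAlg2.red R)) (Ideal.Quotient.mk (nilradical R) a) /
    algebraMap (CAlg2.red R) (FractionRing (CAlg2.red R)) (Ideal.Quotient.mk (nilradical R) s)
  have hΘc' : Θ c' = ι (algebraMap R K₀ a / algebraMap R K₀ s) := by
    show Θ (_ / _) = _
    rw [map_div₀, hΘ, hΘ, hρ'mk, hρ'mk, map_div₀, hρ]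
    rfl
  have hc'int : IsIntegral (CAlg2.red R) c' := by
    refine ⟨Q'.map (Ideal.Quotient.mk (nilradical R)), hQ'm.map _, ?_⟩
    apply hΘinj
    rw [Polynomial.hom_eval₂, hΘcomp, map_zero, Polynomial.eval₂_map, hρ'comp, hΘc']
    exact hQ'0
  exact ⟨⟨c', hc'int⟩, hΘc'⟩

/-- for the integral closure `B` of a unibranch local domain in a field, an element of `B` coming
from the fraction field lies in one maximal ideal iff it lies in every maximal ideal -/
theorem mem_maximal_iff_of_unibranch {R K₀ K : Type u} [CommRing R] [IsLocalRing R]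
    [Field K₀] [Field K] [Algebra R K₀] [IsFractionRing R K₀] (hy : CAlg2.IsUnibranch R)
    (ι : K₀ →+* K) (ρ : R →+* K) (hρ : ρ = ι.comp (algebraMap R K₀))
    (B : Subring K) (hB : ∀ x, x ∈ B ↔ ρ.IsIntegralElem x)
    (M₁ M₂ : Ideal B) [h₁ : M₁.IsMaximal] [h₂ : M₂.IsMaximal] (c : K₀) (hc : ι c ∈ B) :
    (⟨ι c, hc⟩ : B) ∈ M₁ ↔ (⟨ι c, hc⟩ : B) ∈ M₂ := by
  obtain ⟨Lr, _, _, θ', hθ', hex⟩ := exists_local_integral_of_unibranch hy ι ρ hρ B hB
  obtain ⟨l, hl⟩ := hex c hc
  have hl' : θ' l = (⟨ι c, hc⟩ : B) := Subtype.ext hl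
  have e1 : M₁.comap θ' = IsLocalRing.maximalIdeal Lr :=
    IsLocalRing.eq_maximalIdeal (Ideal.isMaximal_comap_of_isIntegral_of_isMaximal' θ' hθ' M₁)
  have e2 : M₂.comap θ' = IsLocalRing.maximalIdeal Lr :=
    IsLocalRing.eq_maximalIdeal (Ideal.isMaximal_comap_of_isIntegral_of_isMaximal' θ' hθ' M₂)
  rw [← hl', ← Ideal.mem_comap, ← Ideal.mem_comap, e1, e2]

end Groth.Agent.Helper7.GeomConn.ZC
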