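import Mathlib
import Groth.Agent.Lib.Helper7.GeomConn.UnibranchMax
import Groth.Agent.Lib.Helper7.GeomConn.SepDegBound

set_option linter.style.haveILetI false
set_option linter.unusedVariables false
set_option linter.unusedSectionVars false
set_option autoImplicit false

universe u

/-! helper7: the integral closure of a unibranch local domain in a field extension whose algebraic part has finite separable degree n has at most n maximal ideals -/

namespace Groth.Agent.Helper7.GeomConn.ZC

open Polynomial

/-- Let `R` be a unibranch local domain with fraction field `K₀`, `K/K₀` a field extension such that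
the algebraic closure of `K₀` in `K` has finite separable degree `n`. Then the integral closure of
`R` in `K` has at most `n` maximal ideals. -/
theorem card_maxSpec_le_finSepDegree {R K₀ K : Type u} [CommRing R] [IsLocalRing R] [Field K₀]
    [Field K] [Algebra R K₀] [IsFractionRing R K₀] [Algebra K₀ K] (hy : CAlg2.IsUnibranch R)
    (ρ : R →+* K) (hρ : ρ = (algebraMap K₀ K).comp (algebraMap R K₀))
    (B : Subring K) (hB : ∀ x, x ∈ B ↔ ρ.IsIntegralElem x) (n : ℕ) (hn0 : 0 < n)
    (hn : Field.finSepDegree K₀ ↥(algebraicClosure K₀ K) = n) :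
    Finite (MaximalSpectrum B) ∧ Nat.card (MaximalSpectrum B) ≤ n := by
  set L := ↥(algebraicClosure K₀ K) with hL
  haveI : Finite (L →ₐ[K₀] AlgebraicClosure L) := by
    apply Nat.finite_of_card_ne_zero
    have : Nat.card (L →ₐ[K₀] AlgebraicClosure L) = n := hn
    rw [this]; exact hn0.ne'
  have hcard : Nat.card (L →ₐ[K₀] AlgebraicClosure L) = n := hn
  let r₀ : R →+* K₀ := algebraMap R K₀
  have hρB : ∀ r : R, ρ r ∈ B := fun r => (hB _).mpr (ρ.isIntegralElem_map)
  let rB : R →+* B := ρ.codRestrict B hρB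
  have halg : ∀ b : B, (b : K) ∈ algebraicClosure K₀ K := by
    intro b
    obtain ⟨P, hPm, hP0⟩ := (hB b.1).mp b.2
    rw [mem_algebraicClosure_iff']
    refine ⟨P.map (algebraMap R K₀), hPm.map _, ?_⟩
    rw [Polynomial.eval₂_map, ← hρ]
    exact hP0
  let j : B →+* L := B.subtype.codRestrict (algebraicClosure K₀ K) halg
  have hjval : ∀ b : B, ((j b : L) : K) = (b : K) := fun b => rfl
  have hjinj : Function.Injective j := by
    intro b b' hbb'
    apply Subtype.ext
    rw [← hjval b, ← hjval b', hbb']
  have hj : j.comp rB = (algebraMap K₀ L).comp r₀ := by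
    ext r
    show ρ r = algebraMap K₀ K (algebraMap R K₀ r)
    rw [hρ]; rfl
  have hint : ∀ b : B, ((algebraMap K₀ L).comp r₀).IsIntegralElem (j b) := by
    intro b
    obtain ⟨P, hPm, hP0⟩ := (hB b.1).mp b.2
    refine ⟨P, hPm, ?_⟩
    apply (algebraMap L K).injective
    rw [Polynomial.hom_eval₂, map_zero]
    have h1 : (algebraMap L K).comp ((algebraMap K₀ L).comp r₀) = ρ := by
      rw [hρ, ← RingHom.comp_assoc]
      rfl
    rw [h1]
    exact hP0
  letI algΩ : Algebra R (AlgebraicClosure L) :=
    ((algebraMap K₀ (AlgebraicClosure L)).comp r₀).toAlgebra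
  let Bbar : Subring (AlgebraicClosure L) := (integralClosure R (AlgebraicClosure L)).toSubring
  have hBbar : ∀ x, x ∈ Bbar ↔
      ((algebraMap K₀ (AlgebraicClosure L)).comp r₀).IsIntegralElem x := fun x => Iff.rfl
  have hU : ∀ (M₁ M₂ : Ideal Bbar), M₁.IsMaximal → M₂.IsMaximal → ∀ (c : K₀)
      (hc : algebraMap K₀ (AlgebraicClosure L) c ∈ Bbar),
      (⟨_, hc⟩ : Bbar) ∈ M₁ → (⟨_, hc⟩ : Bbar) ∈ M₂ := by
    intro M₁ M₂ h₁ h₂ c hc
    exact (mem_maximal_iff_of_unibranch hy (algebraMap K₀ (AlgebraicClosure L))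
      ((algebraMap K₀ (AlgebraicClosure L)).comp r₀) rfl Bbar hBbar M₁ M₂ c hc).mp
  have := card_maxSpec_le_card_emb r₀ rB j hj hint Bbar hBbar hjinj hU
  rw [hcard] at this
  exact this

end Groth.Agent.Helper7.GeomConn.ZC
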