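import Mathlib
import Groth.Agent.Lib.Helper7.GeomConn.SteinUnibranch
import Groth.Agent.Lib.Helper7.GeomConn.SepDegUnibranch

set_option linter.style.haveILetI false
set_option linter.unusedVariables false
set_option linter.unusedSectionVars false
set_option autoImplicit false
set_option backward.isDefEq.respectTransparency.types false

universe u

/-! helper7: connected components of fibres over unibranch points are bounded by the separable degree of the algebraic closure of R(Y) in R(X) (S4484) -/

open CategoryTheory CategoryTheory.Limits AlgebraicGeometry TopologicalSpace Opposite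

namespace Groth.Agent.Helper7.GeomConn.ZC

/-- **S4484**: the number of connected components of a fibre over a unibranch point is bounded by
the separable degree of the algebraic closure of `R(Y)` in `R(X)` -/
theorem card_connectedComponents_fiber_le_finSepDegree {X Y : Scheme.{u}} [IsIntegral X]
    [IsIntegral Y] [IsLocallyNoetherian Y] (f : X ⟶ Y) [IsProper f]
    (hdom : f.base (genericPoint X) ⤳ genericPoint Y) [Algebra Y.functionField X.functionField]
    (halg : algebraMap Y.functionField X.functionField =
      CohIII.stalkToFunctionField f (genericPoint Y) hdom)
    (n : ℕ) (hn0 : 0 < n)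
    (hn : Field.finSepDegree Y.functionField
      ↥(algebraicClosure Y.functionField X.functionField) = n)
    (y : Y) (hy : CAlg2.IsUnibranch (Y.presheaf.stalk y)) :
    Finite (_root_.ConnectedComponents ↥(f.fiber y)) ∧
      Nat.card (_root_.ConnectedComponents ↥(f.fiber y)) ≤ n := by
  have h : f.base (genericPoint X) ⤳ y := hdom.trans ((genericPoint_spec Y).specializes trivial)
  have hρ : CohIII.stalkToFunctionField f y h =
      (algebraMap Y.functionField X.functionField).comp
        (algebraMap (Y.presheaf.stalk y) Y.functionField) := by
    rw [halg]; exact stalkToFunctionField_eq_comp f hdom y h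
  obtain ⟨hfin, hcard⟩ := card_maxSpec_le_finSepDegree hy (CohIII.stalkToFunctionField f y h) hρ
    (CohIII.integralClosureStalk f y h) (fun x => Iff.rfl) n hn0 hn
  have hle := card_connectedComponents_fiber_le f y h
  have hlt : Cardinal.mk (MaximalSpectrum (CohIII.integralClosureStalk f y h)) < Cardinal.aleph0 :=
    Cardinal.lt_aleph0_iff_finite.mpr hfin
  have hfinCC : Finite (_root_.ConnectedComponents ↥(f.fiber y)) :=
    Cardinal.lt_aleph0_iff_finite.mp (lt_of_le_of_lt hle hlt)
  refine ⟨hfinCC, le_trans ?_ hcard⟩
  exact Cardinal.toNat_le_toNat hle hlt

end Groth.Agent.Helper7.GeomConn.ZC
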